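import Mathlib
import Cfsg.Agent.Lib.Helper8.HHLin14

/-!
# S4306 design (helper4): Theorem L, shared definitions

`A = F H` is a non-abelian group of order `p q` (`F` normal of order `p`, `H` of order `q`, no
non-trivial element of `H` commutes with a non-trivial element of `F`), `Q` an `s`-group, `R` a
`t`-group normalising `Q`, both normalised by `F` and `H`, `C_Q(A) = 1 = C_R(A)`; `ρ` a
finite-dimensional representation of the ambient group over an algebraically closed field in
which `p, q, s` are invertible, with no non-zero vector fixed by `F` and `H`.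
Theorem L: `ρ(Q)` and `ρ(R)` commute elementwise.
-/

set_option autoImplicit false
set_option linter.unusedSectionVars false

namespace Cfsg.Agent.Helper4.FPQ

open Module Cfsg.Agent.Helper8.FrobLin

universe u v w

/-- the hypotheses of Theorem L -/
structure Hyp {k : Type w} [Field k] {Γ : Type u} [Group Γ] {V : Type v} [AddCommGroup V]
    [Module k V] (ρ : Representation k Γ V) (F H Q R : Subgroup Γ) (p q s t : ℕ) : Prop where
  hp : p.Prime
  hq : q.Prime
  hs : s.Prime
  ht : t.Prime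
  hpq : p ≠ q
  hst : s ≠ t
  hsp : s ≠ p
  hsq : s ≠ q
  htp : t ≠ p
  htq : t ≠ q
  cardF : Nat.card ↥F = p
  cardH : Nat.card ↥H = q
  HF : H ≤ Subgroup.normalizer (F : Set Γ)
  frob : ∀ f ∈ F, ∀ h ∈ H, f * h = h * f → f = 1 ∨ h = 1
  Qs : IsPGroup s ↥Q
  Rt : IsPGroup t ↥R
  FQ : F ≤ Subgroup.normalizer (Q : Set Γ)
  HQ : H ≤ Subgroup.normalizer (Q : Set Γ)
  FR : F ≤ Subgroup.normalizer (R : Set Γ)
  HR : H ≤ Subgroup.normalizer (R : Set Γ)
  RQ : R ≤ Subgroup.normalizer (Q : Set Γ)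
  cQ : ∀ g ∈ Q, (∀ f ∈ F, f * g = g * f) → (∀ h ∈ H, h * g = g * h) → g = 1
  cR : ∀ x ∈ R, (∀ f ∈ F, f * x = x * f) → (∀ h ∈ H, h * x = x * h) → x = 1
  pk : (p : k) ≠ 0
  qk : (q : k) ≠ 0
  sk : (s : k) ≠ 0
  fix : fixedBy ρ F ⊓ fixedBy ρ H = ⊥

/-- the conclusion of Theorem L -/
def Concl {k : Type w} [Field k] {Γ : Type u} [Group Γ] {V : Type v} [AddCommGroup V]
    [Module k V] (ρ : Representation k Γ V) (Q R : Subgroup Γ) : Prop :=
  ∀ g ∈ Q, ∀ x ∈ R, ρ g * ρ x = ρ x * ρ g

/-- Theorem L for configurations of size `n = |Q| + |R| + dim V` -/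
def LStmt (k : Type w) [Field k] (p q s t n : ℕ) : Prop :=
  ∀ (Γ : Type u) [Group Γ] [Finite Γ] (V : Type v) [AddCommGroup V] [Module k V]
    [FiniteDimensional k V] (ρ : Representation k Γ V) (F H Q R : Subgroup Γ),
    Nat.card ↥Q + Nat.card ↥R + finrank k V = n →
    Hyp ρ F H Q R p q s t → Concl ρ Q R

end Cfsg.Agent.Helper4.FPQ
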