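import Mathlib
import Cfsg.Agent.Lib.FPQ.FPQDefs

/-!
# S4306 design (helper4): Theorem L, the minimal counterexample and the weight vocabulary

* `MinCE`: a minimal counterexample to Theorem L (produced by the reductions of `FPQReduce`).
* `R0 Q R = C_R(Q)`, `TypeI`, `TypeII`: the two possible actions of `F` on `R / C_R(Q)`.
* `wsp ρ M lam`: the weight space of a subgroup `M` for a function `lam : Γ → k` (only the values of
  `lam` on `M` matter); `cj γ lam = lam (γ⁻¹ · γ)` is the conjugate function, so that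
  `ρ γ (wsp ρ M lam) ≤ wsp ρ M (cj γ lam)` when `γ` normalises `M`; `FixesOn M γ lam` says that
  `γ` fixes the weight `lam` of `M`.
-/

set_option autoImplicit false
set_option linter.unusedSectionVars false

namespace Cfsg.Agent.Helper4.FPQ

open Module Cfsg.Agent.Helper8.FrobLin

universe u v w

/-- a minimal counterexample to Theorem L -/
structure MinCE {k : Type w} [Field k] {Γ : Type u} [Group Γ] {V : Type v} [AddCommGroup V]
    [Module k V] (ρ : Representation k Γ V) (F H Q R : Subgroup Γ) (p q s t : ℕ) : Prop where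
  hyp : Hyp ρ F H Q R p q s t
  top : Q ⊔ R ⊔ F ⊔ H = ⊤
  faithful : ∀ g ∈ Q ⊔ R, ρ g = 1 → g = 1
  irr : ∀ U : Submodule k V, (∀ g : Γ, ∀ u ∈ U, ρ g u ∈ U) → U = ⊥ ∨ U = ⊤
  ih : ∀ m, m < Nat.card ↥Q + Nat.card ↥R + finrank k V → LStmt.{u, v, w} k p q s t m
  not_concl : ¬ Concl ρ Q R

section Defs

variable {k : Type w} [Field k] {Γ : Type u} [Group Γ] {V : Type v} [AddCommGroup V]
  [Module k V]

/-- `C_R(Q)` -/
def R0 (Q R : Subgroup Γ) : Subgroup Γ := R ⊓ Subgroup.centralizer (Q : Set Γ)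

theorem mem_R0 {Q R : Subgroup Γ} {x : Γ} :
    x ∈ R0 Q R ↔ x ∈ R ∧ ∀ g ∈ Q, g * x = x * g := by
  unfold R0
  rw [Subgroup.mem_inf, Subgroup.mem_centralizer_iff]
  rfl

theorem R0_le (Q R : Subgroup Γ) : R0 Q R ≤ R := inf_le_left

/-- `F` centralises `R / C_R(Q)` -/
def TypeI (F Q R : Subgroup Γ) : Prop :=
  ∀ x ∈ R, ∀ f ∈ F, x⁻¹ * (f * x * f⁻¹) ∈ R0 Q R

/-- `F` has no non-trivial fixed point on `R / C_R(Q)` -/
def TypeII (F Q R : Subgroup Γ) : Prop :=
  ∀ x ∈ R, (∀ f ∈ F, x⁻¹ * (f * x * f⁻¹) ∈ R0 Q R) → x ∈ R0 Q R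

/-- the weight space of the subgroup `M` for the function `lam` -/
def wsp (ρ : Representation k Γ V) (M : Subgroup Γ) (lam : Γ → k) : Submodule k V where
  carrier := {v | ∀ g ∈ M, ρ g v = lam g • v}
  add_mem' := by
    intro a b ha hb g hg
    rw [map_add, ha g hg, hb g hg, smul_add]
  zero_mem' := by
    intro g _
    rw [map_zero, smul_zero]
  smul_mem' := by
    intro c a ha g hg
    rw [map_smul, ha g hg, smul_comm]

theorem mem_wsp {ρ : Representation k Γ V} {M : Subgroup Γ} {lam : Γ → k} {v : V} :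
    v ∈ wsp ρ M lam ↔ ∀ g ∈ M, ρ g v = lam g • v := Iff.rfl

/-- the conjugate of a function by `γ`: the weight of `ρ γ v` when `v` has weight `lam` -/
def cj (γ : Γ) (lam : Γ → k) : Γ → k := fun g => lam (γ⁻¹ * g * γ)

theorem cj_apply (γ : Γ) (lam : Γ → k) (g : Γ) : cj γ lam g = lam (γ⁻¹ * g * γ) := rfl

theorem cj_one (lam : Γ → k) : cj (1 : Γ) lam = lam := by
  funext g
  simp [cj]

theorem cj_mul (a b : Γ) (lam : Γ → k) : cj (a * b) lam = cj a (cj b lam) := by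
  funext g
  simp only [cj, mul_inv_rev, mul_assoc]

/-- `γ` fixes the weight `lam` of `M` -/
def FixesOn (M : Subgroup Γ) (γ : Γ) (lam : Γ → k) : Prop :=
  ∀ g ∈ M, lam (γ⁻¹ * g * γ) = lam g

theorem fixesOn_iff {M : Subgroup Γ} {γ : Γ} {lam : Γ → k} :
    FixesOn M γ lam ↔ ∀ g ∈ M, cj γ lam g = lam g := Iff.rfl

theorem wsp_congr {ρ : Representation k Γ V} {M : Subgroup Γ} {lam mu : Γ → k}
    (h : ∀ g ∈ M, lam g = mu g) : wsp ρ M lam = wsp ρ M mu := by
  ext v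
  rw [mem_wsp, mem_wsp]
  constructor
  · intro hv g hg
    rw [hv g hg, h g hg]
  · intro hv g hg
    rw [hv g hg, h g hg]

theorem rho_inv_apply (ρ : Representation k Γ V) (γ : Γ) (v : V) : ρ γ⁻¹ (ρ γ v) = v := by
  have : ρ γ⁻¹ * ρ γ = 1 := by rw [← map_mul, inv_mul_cancel, map_one]
  calc ρ γ⁻¹ (ρ γ v) = (ρ γ⁻¹ * ρ γ) v := rfl
    _ = v := by rw [this]; rfl

theorem rho_apply_inv (ρ : Representation k Γ V) (γ : Γ) (v : V) : ρ γ (ρ γ⁻¹ v) = v := by
  have : ρ γ * ρ γ⁻¹ = 1 := by rw [← map_mul, mul_inv_cancel, map_one]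
  calc ρ γ (ρ γ⁻¹ v) = (ρ γ * ρ γ⁻¹) v := rfl
    _ = v := by rw [this]; rfl

/-- `ρ γ` carries the weight space of `lam` into that of `cj γ lam` -/
theorem rho_mem_wsp_cj {ρ : Representation k Γ V} {M : Subgroup Γ} {lam : Γ → k} {γ : Γ}
    (hγ : γ ∈ Subgroup.normalizer (M : Set Γ)) {v : V} (hv : v ∈ wsp ρ M lam) :
    ρ γ v ∈ wsp ρ M (cj γ lam) := by
  intro g hg
  have h1 : γ⁻¹ * g * γ ∈ M := by
    have h2 : γ⁻¹ ∈ Subgroup.normalizer (M : Set Γ) := Subgroup.inv_mem _ hγ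
    have h3 := (Subgroup.mem_normalizer_iff.mp h2 g).mp hg
    rwa [inv_inv] at h3
  have h4 : ρ g (ρ γ v) = ρ γ (ρ (γ⁻¹ * g * γ) v) := by
    have e : g * γ = γ * (γ⁻¹ * g * γ) := by group
    calc ρ g (ρ γ v) = (ρ g * ρ γ) v := rfl
      _ = ρ (g * γ) v := by rw [map_mul]
      _ = ρ (γ * (γ⁻¹ * g * γ)) v := by rw [← e]
      _ = (ρ γ * ρ (γ⁻¹ * g * γ)) v := by rw [map_mul]
      _ = ρ γ (ρ (γ⁻¹ * g * γ) v) := rfl
  rw [h4, hv _ h1, map_smul]
  rfl

/-- a non-zero weight space gives a function which is multiplicative on `M` -/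
theorem wt_mul {ρ : Representation k Γ V} {M : Subgroup Γ} {lam : Γ → k}
    (h : wsp ρ M lam ≠ ⊥) : ∀ a ∈ M, ∀ b ∈ M, lam (a * b) = lam a * lam b := by
  obtain ⟨v, hv, hv0⟩ := (Submodule.ne_bot_iff _).mp h
  intro a ha b hb
  have h1 : ρ (a * b) v = lam (a * b) • v := hv _ (M.mul_mem ha hb)
  have h2 : ρ (a * b) v = (lam a * lam b) • v := by
    calc ρ (a * b) v = (ρ a * ρ b) v := by rw [map_mul]
      _ = ρ a (ρ b v) := rfl
      _ = ρ a (lam b • v) := by rw [hv b hb]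
      _ = lam b • ρ a v := by rw [map_smul]
      _ = lam b • lam a • v := by rw [hv a ha]
      _ = (lam a * lam b) • v := by rw [smul_smul, mul_comm]
  rw [h1] at h2
  by_contra hne
  have h3 : (lam (a * b) - lam a * lam b) • v = 0 := by rw [sub_smul, h2, sub_self]
  rcases smul_eq_zero.mp h3 with h4 | h4
  · exact hne (sub_eq_zero.mp h4)
  · exact hv0 h4

theorem wt_one {ρ : Representation k Γ V} {M : Subgroup Γ} {lam : Γ → k}
    (h : wsp ρ M lam ≠ ⊥) : lam 1 = 1 := by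
  obtain ⟨v, hv, hv0⟩ := (Submodule.ne_bot_iff _).mp h
  have h1 : ρ (1 : Γ) v = lam 1 • v := hv _ M.one_mem
  rw [map_one] at h1
  by_contra hne
  have h3 : (lam 1 - 1) • v = 0 := by
    rw [sub_smul, one_smul, ← h1]
    simp
  rcases smul_eq_zero.mp h3 with h4 | h4
  · exact hne (sub_eq_zero.mp h4)
  · exact hv0 h4

theorem wt_ne_zero {ρ : Representation k Γ V} {M : Subgroup Γ} {lam : Γ → k}
    (h : wsp ρ M lam ≠ ⊥) : ∀ a ∈ M, lam a ≠ 0 := by
  intro a ha h0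
  have h1 := wt_mul h a ha a⁻¹ (M.inv_mem ha)
  rw [mul_inv_cancel, wt_one h, h0, zero_mul] at h1
  exact one_ne_zero h1

/-- a weight as a function with values in the units -/
theorem wt_units {ρ : Representation k Γ V} {M : Subgroup Γ} {lam : Γ → k}
    (h : wsp ρ M lam ≠ ⊥) : ∃ δ : Γ → kˣ, (∀ g ∈ M, ((δ g : kˣ) : k) = lam g) ∧
      ∀ a ∈ M, ∀ b ∈ M, δ (a * b) = δ a * δ b := by
  classical
  refine ⟨fun g => if hg : lam g = 0 then 1 else Units.mk0 (lam g) hg, ?_, ?_⟩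
  · intro g hg
    have := wt_ne_zero h g hg
    simp [this]
  · intro a ha b hb
    have h1 := wt_ne_zero h a ha
    have h2 := wt_ne_zero h b hb
    have h3 := wt_ne_zero h (a * b) (M.mul_mem ha hb)
    apply Units.ext
    simp only [h1, h2, h3, dif_neg, not_false_eq_true, Units.val_mk0, Units.val_mul]
    exact wt_mul h a ha b hb

end Defs

end Cfsg.Agent.Helper4.FPQ
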