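import Mathlib
import Cfsg.Agent.Lib.FPQ.FPQSetup

/-! S4306 design (helper4), Theorem L: piece FPQ-APQ.  Structure of the group F ⊔ H of order pq (from `Hyp` only). -/

set_option autoImplicit false
set_option linter.unusedSectionVars false

namespace Cfsg.Agent.Helper4.FPQ

open Module Cfsg.Agent.Helper8.FrobLin

universe u v w

variable {k : Type w} [Field k] {Γ : Type u} [Group Γ] {V : Type v} [AddCommGroup V]
  [Module k V] {ρ : Representation k Γ V} {F H Q R : Subgroup Γ} {p q s t : ℕ}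

/-- conjugation by an element of the normaliser (and by its inverse) preserves the subgroup -/
theorem fpq_apq_conj_mem {F : Subgroup Γ} {h : Γ} (hh : h ∈ Subgroup.normalizer (F : Set Γ))
    {f : Γ} (hf : f ∈ F) : h * f * h⁻¹ ∈ F :=
  (Subgroup.mem_normalizer_iff.mp hh f).mp hf

theorem fpq_apq_conj_mem' {F : Subgroup Γ} {h : Γ} (hh : h ∈ Subgroup.normalizer (F : Set Γ))
    {f : Γ} (hf : f ∈ F) : h⁻¹ * f * h ∈ F := by
  have h2 : h⁻¹ ∈ Subgroup.normalizer (F : Set Γ) := Subgroup.inv_mem _ hh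
  have h3 := (Subgroup.mem_normalizer_iff.mp h2 f).mp hf
  rwa [inv_inv] at h3

/-- the subgroup of products `f * h` -/
def fpq_apq_prod (F H : Subgroup Γ) (HF : H ≤ Subgroup.normalizer (F : Set Γ)) : Subgroup Γ where
  carrier := {a | ∃ f ∈ F, ∃ h ∈ H, a = f * h}
  mul_mem' := by
    rintro a b ⟨f1, hf1, h1, hh1, rfl⟩ ⟨f2, hf2, h2, hh2, rfl⟩
    refine ⟨f1 * (h1 * f2 * h1⁻¹), F.mul_mem hf1 (fpq_apq_conj_mem (HF hh1) hf2), h1 * h2,
      H.mul_mem hh1 hh2, ?_⟩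
    group
  one_mem' := ⟨1, F.one_mem, 1, H.one_mem, by simp⟩
  inv_mem' := by
    rintro a ⟨f1, hf1, h1, hh1, rfl⟩
    refine ⟨h1⁻¹ * f1⁻¹ * h1, fpq_apq_conj_mem' (HF hh1) (F.inv_mem hf1), h1⁻¹,
      H.inv_mem hh1, ?_⟩
    group

/-- every element of `F ⊔ H` is a product `f * h` -/
theorem Hyp.FH_factor [Finite Γ] (hyp : Hyp ρ F H Q R p q s t) :
    ∀ a ∈ F ⊔ H, ∃ f ∈ F, ∃ h ∈ H, a = f * h := by
  intro a ha
  have h1 : F ⊔ H ≤ fpq_apq_prod F H hyp.HF := by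
    apply sup_le
    · intro f hf
      exact ⟨f, hf, 1, H.one_mem, by simp⟩
    · intro h hh
      exact ⟨1, F.one_mem, h, hh, by simp⟩
  exact h1 ha

/-- every element of `F ⊔ H` lies in `F` or is an `F`-conjugate of a non-trivial element of `H` -/
theorem Hyp.apq [Finite Γ] (hyp : Hyp ρ F H Q R p q s t) :
    ∀ a ∈ F ⊔ H, a ∈ F ∨ ∃ f ∈ F, ∃ h ∈ H, h ≠ 1 ∧ a = f * h * f⁻¹ := by
  intro a ha
  obtain ⟨f, hf, h, hh, rfl⟩ := hyp.FH_factor a ha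
  by_cases h1 : h = 1
  · left
    rw [h1, mul_one]
    exact hf
  · right
    -- the map `f₁ ↦ f₁ * (h * f₁⁻¹ * h⁻¹)` on `F`
    let φ : ↥F → ↥F := fun f1 =>
      ⟨(f1 : Γ) * (h * (f1 : Γ)⁻¹ * h⁻¹),
        F.mul_mem f1.2 (fpq_apq_conj_mem (hyp.HF hh) (F.inv_mem f1.2))⟩
    have hinj : Function.Injective φ := by
      intro f1 f2 h12
      have e : (f1 : Γ) * (h * (f1 : Γ)⁻¹ * h⁻¹) = (f2 : Γ) * (h * (f2 : Γ)⁻¹ * h⁻¹) :=
        congrArg Subtype.val h12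
      have e2 : ((f2 : Γ)⁻¹ * (f1 : Γ)) * h = h * ((f2 : Γ)⁻¹ * (f1 : Γ)) := by
        have e3 : (f1 : Γ) * h * (f1 : Γ)⁻¹ = (f2 : Γ) * h * (f2 : Γ)⁻¹ := by
          have := congrArg (fun z => z * h) e
          simpa [mul_assoc] using this
        calc ((f2 : Γ)⁻¹ * (f1 : Γ)) * h
            = (f2 : Γ)⁻¹ * ((f1 : Γ) * h * (f1 : Γ)⁻¹) * (f1 : Γ) := by group
          _ = (f2 : Γ)⁻¹ * ((f2 : Γ) * h * (f2 : Γ)⁻¹) * (f1 : Γ) := by rw [e3]
          _ = h * ((f2 : Γ)⁻¹ * (f1 : Γ)) := by group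
      rcases hyp.frob _ (F.mul_mem (F.inv_mem f2.2) f1.2) h hh e2 with h3 | h3
      · apply Subtype.ext
        have : (f1 : Γ) = (f2 : Γ) * ((f2 : Γ)⁻¹ * (f1 : Γ)) := by group
        rw [this, h3, mul_one]
      · exact absurd h3 h1
    have hsurj : Function.Surjective φ := Finite.injective_iff_surjective.mp hinj
    obtain ⟨f1, hf1⟩ := hsurj ⟨f, hf⟩
    have e : (f1 : Γ) * (h * (f1 : Γ)⁻¹ * h⁻¹) = f := congrArg Subtype.val hf1
    refine ⟨f1, f1.2, h, hh, h1, ?_⟩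
    rw [← e]
    group

/-- a non-trivial element of `F` generates `F` -/
theorem Hyp.F_gen [Finite Γ] (hyp : Hyp ρ F H Q R p q s t) :
    ∀ f ∈ F, f ≠ 1 → ∀ f' ∈ F, ∃ n : ℕ, f' = f ^ n := by
  intro f hf hf1 f' hf'
  have : Fact p.Prime := ⟨hyp.hp⟩
  have h1 : (⟨f, hf⟩ : ↥F) ≠ 1 := by
    intro h
    exact hf1 (congrArg Subtype.val h)
  have h2 : Subgroup.zpowers (⟨f, hf⟩ : ↥F) = ⊤ := zpowers_eq_top_of_prime_card hyp.cardF h1
  have h3 : (⟨f', hf'⟩ : ↥F) ∈ Subgroup.zpowers (⟨f, hf⟩ : ↥F) := by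
    rw [h2]; exact Subgroup.mem_top _
  rw [← mem_powers_iff_mem_zpowers] at h3
  obtain ⟨n, hn⟩ := Submonoid.mem_powers_iff _ _ |>.mp h3
  refine ⟨n, ?_⟩
  have := congrArg Subtype.val hn
  simpa using this.symm

/-- a non-trivial element of `H` generates `H` -/
theorem Hyp.H_gen [Finite Γ] (hyp : Hyp ρ F H Q R p q s t) :
    ∀ h ∈ H, h ≠ 1 → ∀ h' ∈ H, ∃ n : ℕ, h' = h ^ n := by
  intro f hf hf1 f' hf'
  have : Fact q.Prime := ⟨hyp.hq⟩
  have h1 : (⟨f, hf⟩ : ↥H) ≠ 1 := by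
    intro h
    exact hf1 (congrArg Subtype.val h)
  have h2 : Subgroup.zpowers (⟨f, hf⟩ : ↥H) = ⊤ := zpowers_eq_top_of_prime_card hyp.cardH h1
  have h3 : (⟨f', hf'⟩ : ↥H) ∈ Subgroup.zpowers (⟨f, hf⟩ : ↥H) := by
    rw [h2]; exact Subgroup.mem_top _
  rw [← mem_powers_iff_mem_zpowers] at h3
  obtain ⟨n, hn⟩ := Submonoid.mem_powers_iff _ _ |>.mp h3
  refine ⟨n, ?_⟩
  have := congrArg Subtype.val hn
  simpa using this.symm

/-- `H` and any other complement `f H f⁻¹` (`f ≠ 1`) generate `F ⊔ H` -/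
theorem Hyp.gen_of_conj [Finite Γ] (hyp : Hyp ρ F H Q R p q s t) :
    ∀ f ∈ F, f ≠ 1 → F ⊔ H ≤ H ⊔ H.map (MulAut.conj f).toMonoidHom := by
  intro f hf hf1
  -- a non-trivial element of `H`
  have hHnt : ∃ h ∈ H, h ≠ 1 := by
    have h1 : 1 < Nat.card ↥H := by rw [hyp.cardH]; exact hyp.hq.one_lt
    have : Finite ↥H := inferInstance
    have : Nontrivial ↥H := (Finite.one_lt_card_iff_nontrivial).mp h1
    obtain ⟨x, hx⟩ := exists_ne (1 : ↥H)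
    refine ⟨x, x.2, ?_⟩
    intro h
    exact hx (Subtype.ext h)
  obtain ⟨h, hh, hh1⟩ := hHnt
  set K : Subgroup Γ := H ⊔ H.map (MulAut.conj f).toMonoidHom with hK
  have hHK : H ≤ K := le_sup_left
  have hcK : f * h * f⁻¹ ∈ K := by
    apply (le_sup_right : H.map (MulAut.conj f).toMonoidHom ≤ K)
    refine ⟨h, hh, ?_⟩
    simp [MulAut.conj_apply]
  have hc1 : f * h * f⁻¹ * h⁻¹ ∈ K := K.mul_mem hcK (K.inv_mem (hHK hh))
  have hc2 : f * h * f⁻¹ * h⁻¹ ∈ F := by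
    have : f * h * f⁻¹ * h⁻¹ = f * (h * f⁻¹ * h⁻¹) := by group
    rw [this]
    exact F.mul_mem hf (fpq_apq_conj_mem (hyp.HF hh) (F.inv_mem hf))
  have hc3 : f * h * f⁻¹ * h⁻¹ ≠ 1 := by
    intro e
    have e2 : f * h = h * f := by
      calc f * h = (f * h * f⁻¹ * h⁻¹) * (h * f) := by group
        _ = h * f := by rw [e, one_mul]
    rcases hyp.frob f hf h hh e2 with h3 | h3
    · exact hf1 h3
    · exact hh1 h3
  apply sup_le _ hHK
  intro f' hf'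
  obtain ⟨n, hn⟩ := hyp.F_gen _ hc2 hc3 f' hf'
  rw [hn]
  exact K.pow_mem hc1 n

end Cfsg.Agent.Helper4.FPQ
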