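import Mathlib
import Cfsg.Agent.Lib.FPQ.FPQSetup

/-! S4306 design (helper4), Theorem L: piece FPQ-LIFT.  Coprime lifting of fixed points (Glauberman's lemma in the two easy cases).
Proved by helper8: `X` acts on `K` by `x • c = g⁻¹ x g c x⁻¹` (so that `x (g c) x⁻¹ = g (x • c)`), and a group of prime
order `r ∤ |K|` has a fixed point. -/

set_option autoImplicit false
set_option linter.unusedSectionVars false

namespace Cfsg.Agent.Helper4.FPQ

open Module Cfsg.Agent.Helper8.FrobLin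

universe u v w

variable {k : Type w} [Field k] {Γ : Type u} [Group Γ] {V : Type v} [AddCommGroup V]
  [Module k V] {ρ : Representation k Γ V} {F H Q R : Subgroup Γ} {p q s t : ℕ}

/-- a coset `g K` stable under a group `X` of prime order `r ∤ |K|` normalising `K` contains an
element centralised by `X` -/
theorem lift1 [Finite Γ] {X K : Subgroup Γ} {r : ℕ} (hr : r.Prime) (hX : Nat.card ↥X = r)
    (hXK : X ≤ Subgroup.normalizer (K : Set Γ)) (hcop : ¬ r ∣ Nat.card ↥K) (g : Γ)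
    (hg : ∀ x ∈ X, g⁻¹ * (x * g * x⁻¹) ∈ K) :
    ∃ c ∈ K, ∀ x ∈ X, x * (g * c) = g * c * x := by
  classical
  have : Fact r.Prime := ⟨hr⟩
  have hmem : ∀ (x : ↥X) (c : ↥K), g⁻¹ * (x : Γ) * g * (c : Γ) * (x : Γ)⁻¹ ∈ K := by
    intro x c
    have h1 := hg x x.2
    have h2 : (x : Γ) * c * (x : Γ)⁻¹ ∈ K :=
      (Subgroup.mem_normalizer_iff.mp (hXK x.2) c).mp c.2
    have h3 := K.mul_mem h1 h2
    have e : g⁻¹ * ((x : Γ) * g * (x : Γ)⁻¹) * ((x : Γ) * c * (x : Γ)⁻¹)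
        = g⁻¹ * (x : Γ) * g * (c : Γ) * (x : Γ)⁻¹ := by group
    rwa [e] at h3
  let _ : MulAction ↥X ↥K :=
    { smul := fun x c => ⟨g⁻¹ * (x : Γ) * g * (c : Γ) * (x : Γ)⁻¹, hmem x c⟩
      one_smul := fun c => by
        apply Subtype.ext
        show g⁻¹ * ((1 : ↥X) : Γ) * g * (c : Γ) * ((1 : ↥X) : Γ)⁻¹ = c
        simp
      mul_smul := fun x y c => by
        apply Subtype.ext
        show g⁻¹ * ((x * y : ↥X) : Γ) * g * (c : Γ) * ((x * y : ↥X) : Γ)⁻¹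
          = g⁻¹ * (x : Γ) * g * (g⁻¹ * (y : Γ) * g * (c : Γ) * (y : Γ)⁻¹) * (x : Γ)⁻¹
        simp only [Subgroup.coe_mul]
        group }
  have hXp : IsPGroup r ↥X := IsPGroup.of_card (n := 1) (by rw [hX, pow_one])
  obtain ⟨c, hc⟩ := hXp.nonempty_fixed_point_of_prime_not_dvd_card ↥K hcop
  refine ⟨c, c.2, fun x hx => ?_⟩
  have h1 := hc ⟨x, hx⟩
  have h2 : g⁻¹ * x * g * (c : Γ) * x⁻¹ = c := congrArg Subtype.val h1
  calc x * (g * c) = g * (g⁻¹ * x * g * (c : Γ) * x⁻¹) * x := by group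
    _ = g * c * x := by rw [h2]

/-- conjugation by an element normalising `F` preserves the centraliser of `F` -/
theorem fpq_lift_conj_mem_centralizer {F : Subgroup Γ} {h n : Γ}
    (hh : h ∈ Subgroup.normalizer (F : Set Γ)) (hn : n ∈ Subgroup.centralizer (F : Set Γ)) :
    h * n * h⁻¹ ∈ Subgroup.centralizer (F : Set Γ) := by
  rw [Subgroup.mem_centralizer_iff] at hn ⊢
  intro f hf
  have h1 : h⁻¹ * f * h ∈ F := (Subgroup.mem_normalizer_iff''.mp hh f).mp hf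
  have h2 := hn _ h1
  calc f * (h * n * h⁻¹) = h * (h⁻¹ * f * h * n) * h⁻¹ := by group
    _ = h * (n * (h⁻¹ * f * h)) * h⁻¹ := by rw [h2]
    _ = h * n * h⁻¹ * f := by group

/-- a coset `g K` stable under `F` and `H` (`K` normalised by both, of order prime to `p q`)
contains an element centralised by `F` and `H` -/
theorem Hyp.lift [Finite Γ] (hyp : Hyp ρ F H Q R p q s t) {K : Subgroup Γ}
    (hFK : F ≤ Subgroup.normalizer (K : Set Γ)) (hHK : H ≤ Subgroup.normalizer (K : Set Γ))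
    (hpK : ¬ p ∣ Nat.card ↥K) (hqK : ¬ q ∣ Nat.card ↥K) (g : Γ)
    (hF : ∀ f ∈ F, g⁻¹ * (f * g * f⁻¹) ∈ K) (hH : ∀ h ∈ H, g⁻¹ * (h * g * h⁻¹) ∈ K) :
    ∃ c ∈ K, (∀ f ∈ F, f * (g * c) = g * c * f) ∧ (∀ h ∈ H, h * (g * c) = g * c * h) := by
  classical
  obtain ⟨c₁, hc₁K, hc₁⟩ := lift1 hyp.hp hyp.cardF hFK hpK g hF
  have hg₁ : g * c₁ ∈ Subgroup.centralizer (F : Set Γ) := by
    rw [Subgroup.mem_centralizer_iff]
    exact hc₁
  -- the new subgroup
  have hconj : ∀ h ∈ H, ∀ n ∈ K ⊓ Subgroup.centralizer (F : Set Γ),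
      h * n * h⁻¹ ∈ K ⊓ Subgroup.centralizer (F : Set Γ) := by
    intro h hh n hn
    exact ⟨(Subgroup.mem_normalizer_iff.mp (hHK hh) n).mp hn.1,
      fpq_lift_conj_mem_centralizer (hyp.HF hh) hn.2⟩
  have hHK₁ : H ≤ Subgroup.normalizer ((K ⊓ Subgroup.centralizer (F : Set Γ) : Subgroup Γ) : Set Γ) := by
    intro h hh
    rw [Subgroup.mem_normalizer_iff]
    intro n
    constructor
    · exact hconj h hh n
    · intro hn
      have h1 := hconj h⁻¹ (H.inv_mem hh) _ hn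
      have e : h⁻¹ * (h * n * h⁻¹) * h⁻¹⁻¹ = n := by group
      rwa [e] at h1
  have hqK₁ : ¬ q ∣ Nat.card ↥(K ⊓ Subgroup.centralizer (F : Set Γ) : Subgroup Γ) := by
    intro hd
    exact hqK (hd.trans (Subgroup.card_dvd_of_le inf_le_left))
  have hH₁ : ∀ h ∈ H, (g * c₁)⁻¹ * (h * (g * c₁) * h⁻¹) ∈ K ⊓ Subgroup.centralizer (F : Set Γ) := by
    intro h hh
    refine ⟨?_, ?_⟩
    · have h1 := hH h hh
      have h2 : h * c₁ * h⁻¹ ∈ K := (Subgroup.mem_normalizer_iff.mp (hHK hh) c₁).mp hc₁K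
      have h3 := K.mul_mem (K.mul_mem (K.inv_mem hc₁K) h1) h2
      have e : c₁⁻¹ * (g⁻¹ * (h * g * h⁻¹)) * (h * c₁ * h⁻¹) = (g * c₁)⁻¹ * (h * (g * c₁) * h⁻¹) := by
        group
      rwa [e] at h3
    · exact Subgroup.mul_mem _ (Subgroup.inv_mem _ hg₁)
        (fpq_lift_conj_mem_centralizer (hyp.HF hh) hg₁)
  obtain ⟨c₂, hc₂K, hc₂⟩ := lift1 hyp.hq hyp.cardH hHK₁ hqK₁ (g * c₁) hH₁
  refine ⟨c₁ * c₂, K.mul_mem hc₁K hc₂K.1, ?_, ?_⟩
  · intro f hf
    have h1 := hc₁ f hf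
    have h2 : f * c₂ = c₂ * f := by
      have : c₂ ∈ Subgroup.centralizer (F : Set Γ) := hc₂K.2
      rw [Subgroup.mem_centralizer_iff] at this
      exact this f hf
    calc f * (g * (c₁ * c₂)) = f * (g * c₁) * c₂ := by group
      _ = g * c₁ * f * c₂ := by rw [h1]
      _ = g * c₁ * (f * c₂) := by group
      _ = g * c₁ * (c₂ * f) := by rw [h2]
      _ = g * (c₁ * c₂) * f := by group
  · intro h hh
    have h1 := hc₂ h hh
    calc h * (g * (c₁ * c₂)) = h * (g * c₁ * c₂) := by group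
      _ = g * c₁ * c₂ * h := h1
      _ = g * (c₁ * c₂) * h := by group

end Cfsg.Agent.Helper4.FPQ
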