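import Mathlib
import Cfsg.Agent.Lib.FPQ.FPQSetup

/-! S4306 design (helper4), Theorem L: piece FPQ-NORMAL.  Normality and the factorisation Γ = Q R F H in a minimal counterexample.
Proved by helper15. -/

set_option autoImplicit false
set_option linter.unusedSectionVars false

namespace Cfsg.Agent.Helper4.FPQ

open Module Cfsg.Agent.Helper8.FrobLin

open scoped Pointwise

universe u v w

variable {k : Type w} [Field k] {Γ : Type u} [Group Γ] {V : Type v} [AddCommGroup V]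
  [Module k V] {ρ : Representation k Γ V} {F H Q R : Subgroup Γ} {p q s t : ℕ}

/-- an element normalising two subgroups normalises their join -/
theorem fpq_normal_mem_normalizer_sup {A B : Subgroup Γ} {g : Γ}
    (hA : g ∈ Subgroup.normalizer (A : Set Γ)) (hB : g ∈ Subgroup.normalizer (B : Set Γ)) :
    g ∈ Subgroup.normalizer ((A ⊔ B : Subgroup Γ) : Set Γ) := by
  rw [Subgroup.mem_normalizer_iff_map_conj_eq] at hA hB ⊢
  rw [Subgroup.map_sup, hA, hB]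

/-- conjugation by an element of the normaliser -/
theorem fpq_normal_conj_mem {A : Subgroup Γ} {g : Γ}
    (hg : g ∈ Subgroup.normalizer (A : Set Γ)) {a : Γ} (ha : a ∈ A) : g * a * g⁻¹ ∈ A :=
  (Subgroup.mem_normalizer_iff.mp hg a).mp ha

theorem fpq_normal_conj_mem' {A : Subgroup Γ} {g : Γ}
    (hg : g ∈ Subgroup.normalizer (A : Set Γ)) {a : Γ} (ha : a ∈ A) : g⁻¹ * a * g ∈ A := by
  have h2 : g⁻¹ ∈ Subgroup.normalizer (A : Set Γ) := Subgroup.inv_mem _ hg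
  have h3 := (Subgroup.mem_normalizer_iff.mp h2 a).mp ha
  rwa [inv_inv] at h3

theorem MinCE.Q_normal (M : MinCE ρ F H Q R p q s t) : Q.Normal := by
  rw [← Subgroup.normalizer_eq_top_iff, ← top_le_iff, ← M.top]
  exact sup_le (sup_le (sup_le Subgroup.le_normalizer M.hyp.RQ) M.hyp.FQ) M.hyp.HQ

theorem MinCE.QR_normal (M : MinCE ρ F H Q R p q s t) : (Q ⊔ R).Normal := by
  rw [← Subgroup.normalizer_eq_top_iff, ← top_le_iff, ← M.top]
  refine sup_le (sup_le (sup_le ?_ ?_) ?_) ?_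
  · exact le_trans le_sup_left Subgroup.le_normalizer
  · exact le_trans le_sup_right Subgroup.le_normalizer
  · intro f hf
    exact fpq_normal_mem_normalizer_sup (M.hyp.FQ hf) (M.hyp.FR hf)
  · intro h hh
    exact fpq_normal_mem_normalizer_sup (M.hyp.HQ hh) (M.hyp.HR hh)

/-- `Γ = Q R F H` -/
theorem MinCE.factor (M : MinCE ρ F H Q R p q s t) (γ : Γ) :
    ∃ g ∈ Q, ∃ x ∈ R, ∃ f ∈ F, ∃ h ∈ H, γ = g * x * f * h := by
  have hQn : Q.Normal := M.Q_normal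
  have hQRn : (Q ⊔ R).Normal := M.QR_normal
  have htop : (Q ⊔ R) ⊔ (F ⊔ H) = ⊤ := by
    rw [← M.top, sup_assoc, sup_assoc, sup_assoc]
  have hγ : γ ∈ (((Q ⊔ R) ⊔ (F ⊔ H) : Subgroup Γ) : Set Γ) := by
    rw [htop]; trivial
  rw [Subgroup.normal_mul, Set.mem_mul] at hγ
  obtain ⟨n, hn, a, ha, rfl⟩ := hγ
  have hn' : n ∈ ((Q ⊔ R : Subgroup Γ) : Set Γ) := hn
  rw [Subgroup.normal_mul, Set.mem_mul] at hn'
  obtain ⟨g, hg, x, hx, rfl⟩ := hn'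
  have ha' : a ∈ ((F ⊔ H : Subgroup Γ) : Set Γ) := ha
  rw [Subgroup.coe_mul_of_right_le_normalizer_left F H M.hyp.HF, Set.mem_mul] at ha'
  obtain ⟨f, hf, h, hh, rfl⟩ := ha'
  exact ⟨g, hg, x, hx, f, hf, h, hh, by group⟩

/-- `C_R(Q)` is normalised by `R`, `F` and `H` -/
theorem MinCE.R0_conj (M : MinCE ρ F H Q R p q s t) :
    ∀ γ ∈ R ⊔ F ⊔ H, ∀ y ∈ R0 Q R, γ * y * γ⁻¹ ∈ R0 Q R := by
  have hNR : R ⊔ F ⊔ H ≤ Subgroup.normalizer (R : Set Γ) :=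
    sup_le (sup_le Subgroup.le_normalizer M.hyp.FR) M.hyp.HR
  have hNQ : R ⊔ F ⊔ H ≤ Subgroup.normalizer (Q : Set Γ) :=
    sup_le (sup_le M.hyp.RQ M.hyp.FQ) M.hyp.HQ
  intro γ hγ y hy
  rw [mem_R0] at hy ⊢
  refine ⟨fpq_normal_conj_mem (hNR hγ) hy.1, ?_⟩
  intro g hg
  have hg' : γ⁻¹ * g * γ ∈ Q := fpq_normal_conj_mem' (hNQ hγ) hg
  have h1 := hy.2 _ hg'
  calc g * (γ * y * γ⁻¹) = γ * ((γ⁻¹ * g * γ) * y) * γ⁻¹ := by group
    _ = γ * (y * (γ⁻¹ * g * γ)) * γ⁻¹ := by rw [h1]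
    _ = γ * y * γ⁻¹ * g := by group

theorem MinCE.Q_ne_bot (M : MinCE ρ F H Q R p q s t) : Q ≠ ⊥ := by
  intro hQ
  apply M.not_concl
  intro g hg x _
  rw [hQ, Subgroup.mem_bot] at hg
  rw [hg, map_one, one_mul, mul_one]

theorem MinCE.R_ne_bot (M : MinCE ρ F H Q R p q s t) : R ≠ ⊥ := by
  intro hR
  apply M.not_concl
  intro g _ x hx
  rw [hR, Subgroup.mem_bot] at hx
  rw [hx, map_one, one_mul, mul_one]

/-- the orders of `Q` and `R` are coprime, and prime to `p` and `q` -/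
theorem MinCE.coprime_QR [Finite Γ] (M : MinCE ρ F H Q R p q s t) :
    (Nat.card ↥Q).Coprime (Nat.card ↥R) := by
  have : Fact s.Prime := ⟨M.hyp.hs⟩
  have : Fact t.Prime := ⟨M.hyp.ht⟩
  obtain ⟨a, ha⟩ := IsPGroup.iff_card.mp M.hyp.Qs
  obtain ⟨b, hb⟩ := IsPGroup.iff_card.mp M.hyp.Rt
  rw [ha, hb]
  exact Nat.Coprime.pow a b ((Nat.coprime_primes M.hyp.hs M.hyp.ht).2 M.hyp.hst)

theorem fpq_normal_not_dvd_pow {r u : ℕ} (hr : r.Prime) (hu : u.Prime) (hne : u ≠ r) (a : ℕ) :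
    ¬ r ∣ u ^ a := by
  intro h
  have h1 := hr.dvd_of_dvd_pow h
  have h2 := (Nat.prime_dvd_prime_iff_eq hr hu).1 h1
  exact hne h2.symm

theorem MinCE.not_dvd_Q [Finite Γ] (M : MinCE ρ F H Q R p q s t) :
    ¬ p ∣ Nat.card ↥Q ∧ ¬ q ∣ Nat.card ↥Q := by
  have : Fact s.Prime := ⟨M.hyp.hs⟩
  obtain ⟨a, ha⟩ := IsPGroup.iff_card.mp M.hyp.Qs
  rw [ha]
  exact ⟨fpq_normal_not_dvd_pow M.hyp.hp M.hyp.hs M.hyp.hsp a,
    fpq_normal_not_dvd_pow M.hyp.hq M.hyp.hs M.hyp.hsq a⟩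

theorem MinCE.not_dvd_R [Finite Γ] (M : MinCE ρ F H Q R p q s t) :
    ¬ p ∣ Nat.card ↥R ∧ ¬ q ∣ Nat.card ↥R := by
  have : Fact t.Prime := ⟨M.hyp.ht⟩
  obtain ⟨b, hb⟩ := IsPGroup.iff_card.mp M.hyp.Rt
  rw [hb]
  exact ⟨fpq_normal_not_dvd_pow M.hyp.hp M.hyp.ht M.hyp.htp b,
    fpq_normal_not_dvd_pow M.hyp.hq M.hyp.ht M.hyp.htq b⟩

end Cfsg.Agent.Helper4.FPQ
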