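import Mathlib
import Cfsg.Agent.Lib.FPQ.FPQSetup

/-! S4306 design (helper4), Theorem L: piece FPQ-SUB.  Proper invariant subgroups of R and Q in a minimal counterexample commute with Q resp. R (induction hypothesis + faithfulness). -/

set_option autoImplicit false
set_option linter.unusedSectionVars false

namespace Cfsg.Agent.Helper4.FPQ

open Module Cfsg.Agent.Helper8.FrobLin

universe u v w

variable {k : Type w} [Field k] {Γ : Type u} [Group Γ] {V : Type v} [AddCommGroup V]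
  [Module k V] {ρ : Representation k Γ V} {F H Q R : Subgroup Γ} {p q s t : ℕ}

/-- commuting images and faithfulness give commuting elements -/
theorem fpq_sub_comm_of_rho (M : MinCE ρ F H Q R p q s t) {g x : Γ} (hg : g ∈ Q) (hx : x ∈ R)
    (h : ρ g * ρ x = ρ x * ρ g) : g * x = x * g := by
  have h1 : ρ (g * x * g⁻¹ * x⁻¹) = 1 := by
    rw [map_mul, map_mul, map_mul, h]
    rw [mul_assoc (ρ x), ← map_mul, mul_inv_cancel, map_one, mul_one, ← map_mul, mul_inv_cancel,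
      map_one]
  have h2 : g * x * g⁻¹ * x⁻¹ ∈ Q ⊔ R := by
    apply Subgroup.mul_mem _ (Subgroup.mul_mem _ (Subgroup.mul_mem _ ?_ ?_) ?_) ?_
    · exact Subgroup.mem_sup_left hg
    · exact Subgroup.mem_sup_right hx
    · exact Subgroup.mem_sup_left (Q.inv_mem hg)
    · exact Subgroup.mem_sup_right (R.inv_mem hx)
  have h3 := M.faithful _ h2 h1
  have e : g * x = (g * x * g⁻¹ * x⁻¹) * (x * g) := by group
  rw [e, h3, one_mul]

/-- a proper `F`,`H`-invariant subgroup of `R` centralises `Q` -/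
theorem MinCE.subR [Finite Γ] [FiniteDimensional k V] (M : MinCE ρ F H Q R p q s t)
    (R₁ : Subgroup Γ) (h1 : R₁ ≤ R) (hne : R₁ ≠ R)
    (hF : F ≤ Subgroup.normalizer (R₁ : Set Γ)) (hH : H ≤ Subgroup.normalizer (R₁ : Set Γ)) :
    ∀ g ∈ Q, ∀ x ∈ R₁, g * x = x * g := by
  have hyp := M.hyp
  have hlt : Nat.card ↥R₁ < Nat.card ↥R := by
    by_contra hc
    push Not at hc
    exact hne (Subgroup.eq_of_le_of_card_ge h1 hc)
  have hyp' : Hyp ρ F H Q R₁ p q s t :=
    { hp := hyp.hp, hq := hyp.hq, hs := hyp.hs, ht := hyp.ht, hpq := hyp.hpq, hst := hyp.hst,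
      hsp := hyp.hsp, hsq := hyp.hsq, htp := hyp.htp, htq := hyp.htq, cardF := hyp.cardF,
      cardH := hyp.cardH, HF := hyp.HF, frob := hyp.frob, Qs := hyp.Qs,
      Rt := hyp.Rt.to_le h1, FQ := hyp.FQ, HQ := hyp.HQ, FR := hF, HR := hH,
      RQ := h1.trans hyp.RQ, cQ := hyp.cQ,
      cR := fun x hx => hyp.cR x (h1 hx), pk := hyp.pk, qk := hyp.qk, sk := hyp.sk,
      fix := hyp.fix }
  have hconcl : Concl ρ Q R₁ :=
    M.ih (Nat.card ↥Q + Nat.card ↥R₁ + finrank k V) (by omega) Γ V ρ F H Q R₁ rfl hyp'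
  intro g hg x hx
  exact fpq_sub_comm_of_rho M hg (h1 hx) (hconcl g hg x hx)

/-- a proper `F`,`H`,`R`-invariant subgroup of `Q` is centralised by `R` -/
theorem MinCE.subQ [Finite Γ] [FiniteDimensional k V] (M : MinCE ρ F H Q R p q s t)
    (Q₁ : Subgroup Γ) (h1 : Q₁ ≤ Q) (hne : Q₁ ≠ Q)
    (hF : F ≤ Subgroup.normalizer (Q₁ : Set Γ)) (hH : H ≤ Subgroup.normalizer (Q₁ : Set Γ))
    (hR : R ≤ Subgroup.normalizer (Q₁ : Set Γ)) :
    ∀ g ∈ Q₁, ∀ x ∈ R, g * x = x * g := by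
  have hyp := M.hyp
  have hlt : Nat.card ↥Q₁ < Nat.card ↥Q := by
    by_contra hc
    push Not at hc
    exact hne (Subgroup.eq_of_le_of_card_ge h1 hc)
  have hyp' : Hyp ρ F H Q₁ R p q s t :=
    { hp := hyp.hp, hq := hyp.hq, hs := hyp.hs, ht := hyp.ht, hpq := hyp.hpq, hst := hyp.hst,
      hsp := hyp.hsp, hsq := hyp.hsq, htp := hyp.htp, htq := hyp.htq, cardF := hyp.cardF,
      cardH := hyp.cardH, HF := hyp.HF, frob := hyp.frob, Qs := hyp.Qs.to_le h1,
      Rt := hyp.Rt, FQ := hF, HQ := hH, FR := hyp.FR, HR := hyp.HR,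
      RQ := hR, cQ := fun g hg => hyp.cQ g (h1 hg),
      cR := hyp.cR, pk := hyp.pk, qk := hyp.qk, sk := hyp.sk,
      fix := hyp.fix }
  have hconcl : Concl ρ Q₁ R :=
    M.ih (Nat.card ↥Q₁ + Nat.card ↥R + finrank k V) (by omega) Γ V ρ F H Q₁ R rfl hyp'
  intro g hg x hx
  exact fpq_sub_comm_of_rho M (h1 hg) hx (hconcl g hg x hx)

end Cfsg.Agent.Helper4.FPQ
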