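import Mathlib
import Cfsg.Agent.Lib.FPQ.FPQSetup
import Cfsg.Agent.Lib.FPQ.FPQSub
import Cfsg.Agent.Lib.FPQ.FPQLift
import Cfsg.Agent.Lib.FPQ.FPQNormal
import Cfsg.Agent.Lib.Helper7.Coprime

/-! S4306 design (helper4), Theorem L: piece FPQ-COMM.  Q = [Q,R] and Q = [Q, F ⊔ H] in a minimal counterexample. -/

set_option autoImplicit false
set_option linter.unusedSectionVars false

namespace Cfsg.Agent.Helper4.FPQ

open Module Cfsg.Agent.Helper8.FrobLin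

universe u v w

variable {k : Type w} [Field k] {Γ : Type u} [Group Γ] {V : Type v} [AddCommGroup V]
  [Module k V] {ρ : Representation k Γ V} {F H Q R : Subgroup Γ} {p q s t : ℕ}

/-- `Q = [Q, R]` -/
theorem MinCE.Q_le_comm_R [Finite Γ] [FiniteDimensional k V] (M : MinCE ρ F H Q R p q s t) :
    Q ≤ ⁅Q, R⁆ := by
  have hle : ⁅Q, R⁆ ≤ Q := Cfsg.Agent.Helper7.commutator_le_of_le_normalizer M.hyp.RQ
  by_contra hnot
  have hne : ⁅Q, R⁆ ≠ Q := fun h => hnot (by rw [h])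
  have hF : F ≤ Subgroup.normalizer ((⁅Q, R⁆ : Subgroup Γ) : Set Γ) :=
    le_trans (le_inf M.hyp.FQ M.hyp.FR)
      (Cfsg.Agent.Helper7.normalizer_inf_normalizer_le_normalizer_commutator Q R)
  have hH : H ≤ Subgroup.normalizer ((⁅Q, R⁆ : Subgroup Γ) : Set Γ) :=
    le_trans (le_inf M.hyp.HQ M.hyp.HR)
      (Cfsg.Agent.Helper7.normalizer_inf_normalizer_le_normalizer_commutator Q R)
  have hR : R ≤ Subgroup.normalizer ((⁅Q, R⁆ : Subgroup Γ) : Set Γ) :=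
    le_trans (le_inf M.hyp.RQ Subgroup.le_normalizer)
      (Cfsg.Agent.Helper7.normalizer_inf_normalizer_le_normalizer_commutator Q R)
  have hcen := M.subQ ⁅Q, R⁆ hle hne hF hH hR
  have hbot : ⁅⁅Q, R⁆, R⁆ = ⊥ := by
    rw [Subgroup.commutator_eq_bot_iff_le_centralizer]
    intro g hg
    rw [Subgroup.mem_centralizer_iff]
    intro x hx
    exact (hcen g hg x hx).symm
  have hQc : Q ≤ Subgroup.centralizer (R : Set Γ) :=
    Cfsg.Agent.Helper7.le_centralizer_of_commutator_commutator_eq_bot M.coprime_QR.symm M.hyp.RQ hbot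
  apply M.not_concl
  intro g hg x hx
  have hgx : x * g = g * x := (Subgroup.mem_centralizer_iff.1 (hQc hg)) x hx
  rw [← map_mul, ← map_mul, hgx]

theorem fpq_comm_coset {Z A : Subgroup Γ} {z a : Γ} (hz : z ∈ Z) (ha : a ∈ A) :
    z⁻¹ * (a * z * a⁻¹) ∈ ⁅Z, A⁆ := by
  have h := Subgroup.commutator_mem_commutator (Z.inv_mem hz) ha
  rw [commutatorElement_def, inv_inv] at h
  have e : z⁻¹ * (a * z * a⁻¹) = z⁻¹ * a * z * a⁻¹ := by group
  rw [e]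
  exact h

/-- the same for an `F`,`H`-invariant subgroup `Z` of `Q` -/
theorem MinCE.le_comm_A [Finite Γ] (M : MinCE ρ F H Q R p q s t) (Z : Subgroup Γ) (hZ : Z ≤ Q)
    (hF : F ≤ Subgroup.normalizer (Z : Set Γ)) (hH : H ≤ Subgroup.normalizer (Z : Set Γ)) :
    Z ≤ ⁅Z, F ⊔ H⁆ := by
  have hA : F ⊔ H ≤ Subgroup.normalizer (Z : Set Γ) := sup_le hF hH
  have hKZ : ⁅Z, F ⊔ H⁆ ≤ Z := Cfsg.Agent.Helper7.commutator_le_of_le_normalizer hA
  have hFK : F ≤ Subgroup.normalizer ((⁅Z, F ⊔ H⁆ : Subgroup Γ) : Set Γ) :=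
    le_trans (le_inf hF (le_trans le_sup_left Subgroup.le_normalizer))
      (Cfsg.Agent.Helper7.normalizer_inf_normalizer_le_normalizer_commutator Z (F ⊔ H))
  have hHK : H ≤ Subgroup.normalizer ((⁅Z, F ⊔ H⁆ : Subgroup Γ) : Set Γ) :=
    le_trans (le_inf hH (le_trans le_sup_right Subgroup.le_normalizer))
      (Cfsg.Agent.Helper7.normalizer_inf_normalizer_le_normalizer_commutator Z (F ⊔ H))
  have hdvd : Nat.card ↥(⁅Z, F ⊔ H⁆ : Subgroup Γ) ∣ Nat.card ↥Q :=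
    Subgroup.card_dvd_of_le (le_trans hKZ hZ)
  have hpK : ¬ p ∣ Nat.card ↥(⁅Z, F ⊔ H⁆ : Subgroup Γ) := fun h => M.not_dvd_Q.1 (dvd_trans h hdvd)
  have hqK : ¬ q ∣ Nat.card ↥(⁅Z, F ⊔ H⁆ : Subgroup Γ) := fun h => M.not_dvd_Q.2 (dvd_trans h hdvd)
  intro z hz
  have hcoset : ∀ a ∈ F ⊔ H, z⁻¹ * (a * z * a⁻¹) ∈ ⁅Z, F ⊔ H⁆ :=
    fun a ha => fpq_comm_coset hz ha
  obtain ⟨c, hc, hcF, hcH⟩ := M.hyp.lift hFK hHK hpK hqK z
    (fun f hf => hcoset f (le_sup_left (a := F) (b := H) hf))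
    (fun h hh => hcoset h (le_sup_right (a := F) (b := H) hh))
  have hzcQ : z * c ∈ Q := Q.mul_mem (hZ hz) (hZ (hKZ hc))
  have h1 : z * c = 1 := M.hyp.cQ (z * c) hzcQ hcF hcH
  have h2 : z = c⁻¹ := eq_inv_of_mul_eq_one_left h1
  rw [h2]
  exact Subgroup.inv_mem _ hc

/-- `Q = [Q, A]` because `C_Q(A) = 1` (coprime action) -/
theorem MinCE.Q_le_comm_A [Finite Γ] (M : MinCE ρ F H Q R p q s t) :
    Q ≤ ⁅Q, F ⊔ H⁆ :=
  M.le_comm_A Q le_rfl M.hyp.FQ M.hyp.HQ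

end Cfsg.Agent.Helper4.FPQ
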