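import Mathlib
import Cfsg.Agent.Lib.FPQ.FPQSetup
import Cfsg.Agent.Lib.Helper1.FpfThompson
import Cfsg.Agent.Lib.Helper3.NilpotentCoprime

/-! S4306 design (helper4), Theorem L: piece FPQ-FROBFIX.  A Frobenius group R̄⟨h⟩ acting on Q with C_Q(R) trivial modulo commutators forces C_Q(h) ≠ 1 (abstract, no representation).

Proof: `h` induces a fixed-point-free automorphism of prime order of `(Q ⊔ R) / C_R(Q)`, which is
therefore nilpotent (Thompson, `Helper1.Fpf.fpf_nilpotent`); so `Q` and `R` commute modulo `C_R(Q)`,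
hence commute, and `Q = [Q,R] = 1`. -/

set_option autoImplicit false
set_option linter.unusedSectionVars false

namespace Cfsg.Agent.Helper4.FPQ

open Module Cfsg.Agent.Helper8.FrobLin
open scoped Pointwise

universe u v w

variable {k : Type w} [Field k] {Γ : Type u} [Group Γ] {V : Type v} [AddCommGroup V]
  [Module k V] {ρ : Representation k Γ V} {F H Q R : Subgroup Γ} {p q s t : ℕ}

/-- the core of `frobfix_fun`: `Q` and `R` commute -/
theorem fpq_frobfix_comm [Finite Γ] {Q R : Subgroup Γ} {h : Γ} {q : ℕ} (hq : q.Prime)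
    (hhq : h ^ q = 1)
    (hRQ : R ≤ Subgroup.normalizer (Q : Set Γ)) (hhQ : h ∈ Subgroup.normalizer (Q : Set Γ))
    (hhR : h ∈ Subgroup.normalizer (R : Set Γ))
    (hcop : (Nat.card ↥Q).Coprime (Nat.card ↥R))
    (hfpfR : ∀ x ∈ R, x⁻¹ * (h * x * h⁻¹) ∈ R0 Q R → x ∈ R0 Q R)
    (hfpfQ : ∀ g ∈ Q, h * g = g * h → g = 1) :
    ∀ g ∈ Q, ∀ x ∈ R, g * x = x * g := by
  classical
  have hdisj : ∀ y, y ∈ Q → y ∈ R → y = 1 := by
    intro y hyQ hyR
    have h1 : Q ⊓ R = ⊥ := (Subgroup.disjoint_of_coprime_natCard hcop).eq_bot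
    have h2 : y ∈ Q ⊓ R := ⟨hyQ, hyR⟩
    rw [h1, Subgroup.mem_bot] at h2
    exact h2
  set S : Subgroup Γ := Q ⊔ R with hS
  have hQS : Q ≤ S := le_sup_left
  have hRS : R ≤ S := le_sup_right
  have hSfac : ∀ y ∈ S, ∃ g ∈ Q, ∃ x ∈ R, y = g * x := by
    intro y hy
    have h1 : (↑(Q ⊔ R) : Set Γ) = (Q : Set Γ) * (R : Set Γ) :=
      Subgroup.coe_mul_of_right_le_normalizer_left Q R hRQ
    have h2 : y ∈ (↑(Q ⊔ R) : Set Γ) := hy
    rw [h1] at h2
    obtain ⟨g, hg, x, hx, rfl⟩ := h2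
    exact ⟨g, hg, x, hx, rfl⟩
  -- conjugation by `h` preserves `Q`, `R`, `S`, `R0`
  have hcQ : ∀ g, g ∈ Q ↔ h * g * h⁻¹ ∈ Q := fun g => Subgroup.mem_normalizer_iff.mp hhQ g
  have hcR : ∀ x, x ∈ R ↔ h * x * h⁻¹ ∈ R := fun x => Subgroup.mem_normalizer_iff.mp hhR x
  have hhS : h ∈ Subgroup.normalizer (S : Set Γ) := by
    have h1 : Q ≤ S.map (MulAut.conj h⁻¹).toMonoidHom := by
      intro g hg
      refine ⟨h * g * h⁻¹, hQS ((hcQ g).mp hg), ?_⟩
      simp [MulAut.conj_apply, mul_assoc]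
    have h2 : R ≤ S.map (MulAut.conj h⁻¹).toMonoidHom := by
      intro x hx
      refine ⟨h * x * h⁻¹, hRS ((hcR x).mp hx), ?_⟩
      simp [MulAut.conj_apply, mul_assoc]
    have h3 : S ≤ S.map (MulAut.conj h⁻¹).toMonoidHom := sup_le h1 h2
    have h4 : ∀ y ∈ S, h * y * h⁻¹ ∈ S := by
      intro y hy
      obtain ⟨z, hz, hzy⟩ := h3 hy
      have : h * y * h⁻¹ = z := by
        rw [← hzy]
        simp [MulAut.conj_apply, mul_assoc]
      rw [this]; exact hz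
    rw [Subgroup.mem_normalizer_iff]
    intro y
    constructor
    · exact h4 y
    · intro hy
      obtain ⟨g, hg, x, hx, hgx⟩ := hSfac _ hy
      have e : y = (h⁻¹ * g * h) * (h⁻¹ * x * h) := by
        have : h * y * h⁻¹ = g * x := hgx
        calc y = h⁻¹ * (h * y * h⁻¹) * h := by group
          _ = h⁻¹ * (g * x) * h := by rw [this]
          _ = (h⁻¹ * g * h) * (h⁻¹ * x * h) := by group
      rw [e]
      refine S.mul_mem (hQS ?_) (hRS ?_)
      · rw [hcQ]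
        have : h * (h⁻¹ * g * h) * h⁻¹ = g := by group
        rw [this]; exact hg
      · rw [hcR]
        have : h * (h⁻¹ * x * h) * h⁻¹ = x := by group
        rw [this]; exact hx
  have hR0h : ∀ y, y ∈ R0 Q R → h * y * h⁻¹ ∈ R0 Q R := by
    intro y hy
    rw [mem_R0] at hy ⊢
    refine ⟨(hcR y).mp hy.1, ?_⟩
    intro g hg
    have h1 : h⁻¹ * g * h ∈ Q := by
      rw [hcQ]
      have : h * (h⁻¹ * g * h) * h⁻¹ = g := by group
      rw [this]; exact hg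
    have h2 := hy.2 _ h1
    calc g * (h * y * h⁻¹) = h * ((h⁻¹ * g * h) * y) * h⁻¹ := by group
      _ = h * (y * (h⁻¹ * g * h)) * h⁻¹ := by rw [h2]
      _ = h * y * h⁻¹ * g := by group
  have hR0hinv : ∀ y, y ∈ R0 Q R → h⁻¹ * y * h ∈ R0 Q R := by
    intro y hy
    rw [mem_R0] at hy ⊢
    refine ⟨?_, ?_⟩
    · rw [hcR]
      have : h * (h⁻¹ * y * h) * h⁻¹ = y := by group
      rw [this]; exact hy.1
    · intro g hg
      have h1 : h * g * h⁻¹ ∈ Q := (hcQ g).mp hg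
      have h2 := hy.2 _ h1
      calc g * (h⁻¹ * y * h) = h⁻¹ * ((h * g * h⁻¹) * y) * h := by group
        _ = h⁻¹ * (y * (h * g * h⁻¹)) * h := by rw [h2]
        _ = h⁻¹ * y * h * g := by group
  -- `R0` is normalised by `S`
  have hR0S : ∀ y ∈ S, ∀ r ∈ R0 Q R, y * r * y⁻¹ ∈ R0 Q R := by
    intro y hy r hr
    obtain ⟨g, hg, x, hx, rfl⟩ := hSfac y hy
    have hr' := mem_R0.mp hr
    -- first conjugate by x
    have h1 : x * r * x⁻¹ ∈ R0 Q R := by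
      rw [mem_R0]
      refine ⟨R.mul_mem (R.mul_mem hx hr'.1) (R.inv_mem hx), ?_⟩
      intro g' hg'
      have h2 : x⁻¹ * g' * x ∈ Q := by
        have := (Subgroup.mem_normalizer_iff.mp (hRQ (R.inv_mem hx)) g').mp hg'
        simpa using this
      have h3 := hr'.2 _ h2
      calc g' * (x * r * x⁻¹) = x * ((x⁻¹ * g' * x) * r) * x⁻¹ := by group
        _ = x * (r * (x⁻¹ * g' * x)) * x⁻¹ := by rw [h3]
        _ = x * r * x⁻¹ * g' := by group
    have h4 := (mem_R0.mp h1).2 g hg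
    have e : g * x * r * (g * x)⁻¹ = x * r * x⁻¹ := by
      calc g * x * r * (g * x)⁻¹ = (g * (x * r * x⁻¹)) * g⁻¹ := by group
        _ = (x * r * x⁻¹ * g) * g⁻¹ := by rw [h4]
        _ = x * r * x⁻¹ := by group
    rw [e]; exact h1
  -- the automorphism
  let φ : ↥S ≃* ↥S := Subgroup.normalizerMonoidHom S ⟨h, hhS⟩
  have hφ : ∀ y : ↥S, ((φ y : ↥S) : Γ) = h * (y : Γ) * h⁻¹ := fun y => rfl
  let N₀ : Subgroup ↥S := (R0 Q R).subgroupOf S
  have hN₀mem : ∀ y : ↥S, y ∈ N₀ ↔ (y : Γ) ∈ R0 Q R := fun y => Subgroup.mem_subgroupOf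
  haveI hN₀ : N₀.Normal := by
    constructor
    intro n hn y
    rw [hN₀mem] at hn ⊢
    exact hR0S y y.2 n hn
  have hmap : N₀.map (φ : ↥S →* ↥S) = N₀ := by
    ext y
    constructor
    · rintro ⟨z, hz, rfl⟩
      rw [hN₀mem]
      have hz' : (z : Γ) ∈ R0 Q R := (hN₀mem z).mp hz
      exact hR0h _ hz'
    · intro hy
      have hy' : (y : Γ) ∈ R0 Q R := (hN₀mem y).mp hy
      have hmemS : h⁻¹ * (y : Γ) * h ∈ S := hRS (R0_le Q R (hR0hinv _ hy'))
      refine ⟨⟨h⁻¹ * (y : Γ) * h, hmemS⟩, ?_, ?_⟩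
      · show (⟨h⁻¹ * (y : Γ) * h, hmemS⟩ : ↥S) ∈ N₀
        rw [hN₀mem]
        exact hR0hinv _ hy'
      · apply Subtype.ext
        show h * (h⁻¹ * (y : Γ) * h) * h⁻¹ = y
        group
  let φb : (↥S ⧸ N₀) ≃* (↥S ⧸ N₀) := QuotientGroup.congr N₀ N₀ φ hmap
  have hφb : ∀ y : ↥S, φb (QuotientGroup.mk y) = QuotientGroup.mk (φ y) := fun y => rfl
  -- powers
  have hφpow : ∀ (n : ℕ) (y : ↥S), (((φ ^ n) y : ↥S) : Γ) = h ^ n * (y : Γ) * (h ^ n)⁻¹ := by
    intro n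
    induction n with
    | zero => intro y; simp
    | succ n ih =>
      intro y
      rw [pow_succ', MulAut.mul_apply, hφ, ih, pow_succ']
      group
  have hφbpow : ∀ (n : ℕ) (y : ↥S), (φb ^ n) (QuotientGroup.mk y) = QuotientGroup.mk ((φ ^ n) y) := by
    intro n
    induction n with
    | zero => intro y; simp
    | succ n ih =>
      intro y
      rw [pow_succ', MulAut.mul_apply, ih, hφb, pow_succ', MulAut.mul_apply]
  have hpow : φb ^ q = 1 := by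
    apply MulEquiv.ext
    intro a
    induction a using QuotientGroup.induction_on with
    | H y =>
      rw [hφbpow]
      have : (φ ^ q) y = y := by
        apply Subtype.ext
        rw [hφpow, hhq]
        simp
      rw [this]
      rfl
  -- fixed-point-free
  have hfpf : MonoidHom.FixedPointFree (φb : (↥S ⧸ N₀) → (↥S ⧸ N₀)) := by
    intro a ha
    induction a using QuotientGroup.induction_on with
    | H y =>
      rw [hφb] at ha
      have h1 : y⁻¹ * φ y ∈ N₀ := QuotientGroup.eq.mp ha.symm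
      rw [hN₀mem] at h1
      have h1' : (y : Γ)⁻¹ * (h * (y : Γ) * h⁻¹) ∈ R0 Q R := h1
      obtain ⟨g, hg, x, hx, hy⟩ := hSfac (y : Γ) y.2
      set r₀ := (y : Γ)⁻¹ * (h * (y : Γ) * h⁻¹) with hr₀
      have hr₀R : r₀ ∈ R := R0_le Q R h1'
      -- g⁻¹ (h g h⁻¹) = x r₀ (h x⁻¹ h⁻¹)
      have e1 : g⁻¹ * (h * g * h⁻¹) = x * r₀ * (h * x⁻¹ * h⁻¹) := by
        rw [hr₀, hy]; group
      have hinQ : g⁻¹ * (h * g * h⁻¹) ∈ Q := Q.mul_mem (Q.inv_mem hg) ((hcQ g).mp hg)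
      have hinR : g⁻¹ * (h * g * h⁻¹) ∈ R := by
        rw [e1]
        exact R.mul_mem (R.mul_mem hx hr₀R) ((hcR _).mp (R.inv_mem hx))
      have e2 := hdisj _ hinQ hinR
      have hg1 : g = 1 := by
        apply hfpfQ g hg
        have : h * g * h⁻¹ = g := by
          calc h * g * h⁻¹ = g * (g⁻¹ * (h * g * h⁻¹)) := by group
            _ = g := by rw [e2, mul_one]
        calc h * g = h * g * h⁻¹ * h := by group
          _ = g * h := by rw [this]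
      have hyx : (y : Γ) = x := by rw [hy, hg1, one_mul]
      have hxR0 : x ∈ R0 Q R := by
        apply hfpfR x hx
        rw [← hyx]; exact h1'
      rw [QuotientGroup.eq_one_iff, hN₀mem, hyx]
      exact hxR0
  haveI : Finite (↥S ⧸ N₀) := inferInstance
  have hnil : Group.IsNilpotent (↥S ⧸ N₀) :=
    Cfsg.Agent.Helper1.Fpf.fpf_nilpotent φb hfpf hq hpow
  -- conclusion
  intro g hg x hx
  have hgo : orderOf (⟨g, hQS hg⟩ : ↥S) ∣ Nat.card ↥Q := by
    rw [Subgroup.orderOf_mk]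
    exact Subgroup.orderOf_dvd_natCard Q hg
  have hxo : orderOf (⟨x, hRS hx⟩ : ↥S) ∣ Nat.card ↥R := by
    rw [Subgroup.orderOf_mk]
    exact Subgroup.orderOf_dvd_natCard R hx
  have hc : (orderOf (QuotientGroup.mk (⟨g, hQS hg⟩ : ↥S) : ↥S ⧸ N₀)).Coprime
      (orderOf (QuotientGroup.mk (⟨x, hRS hx⟩ : ↥S) : ↥S ⧸ N₀)) := by
    have h1 := orderOf_map_dvd (QuotientGroup.mk' N₀) (⟨g, hQS hg⟩ : ↥S)
    have h2 := orderOf_map_dvd (QuotientGroup.mk' N₀) (⟨x, hRS hx⟩ : ↥S)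
    exact Nat.Coprime.coprime_dvd_left (h1.trans hgo) (Nat.Coprime.coprime_dvd_right (h2.trans hxo) hcop)
  have hcomm := Cfsg.Agent.Helper3.mul_comm_of_coprime_of_isNilpotent (↥S ⧸ N₀)
    (QuotientGroup.mk (⟨g, hQS hg⟩ : ↥S)) (QuotientGroup.mk (⟨x, hRS hx⟩ : ↥S))
    (isOfFinOrder_of_finite _) (isOfFinOrder_of_finite _) hc
  have h3 : (⟨g, hQS hg⟩ * ⟨x, hRS hx⟩ : ↥S)⁻¹ * ((⟨x, hRS hx⟩ : ↥S) * ⟨g, hQS hg⟩) ∈ N₀ := by
    apply QuotientGroup.eq.mp
    rw [QuotientGroup.mk_mul, QuotientGroup.mk_mul]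
    exact hcomm
  rw [hN₀mem] at h3
  have h3' : (g * x)⁻¹ * (x * g) ∈ R0 Q R := h3
  have hinR : (g * x)⁻¹ * (x * g) ∈ R := R0_le Q R h3'
  have hinQ : (g * x)⁻¹ * (x * g) ∈ Q := by
    have h4 : x * g * x⁻¹ ∈ Q := (Subgroup.mem_normalizer_iff.mp (hRQ hx) g).mp hg
    have h4' : x⁻¹ * g⁻¹ * x ∈ Q := by
      have := (Subgroup.mem_normalizer_iff.mp (hRQ (R.inv_mem hx)) g⁻¹).mp (Q.inv_mem hg)
      simpa using this
    have e : (g * x)⁻¹ * (x * g) = (x⁻¹ * g⁻¹ * x) * g := by group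
    rw [e]
    exact Q.mul_mem h4' hg
  have h5 := hdisj _ hinQ hinR
  calc g * x = (g * x) * ((g * x)⁻¹ * (x * g)) := by rw [h5, mul_one]
    _ = x * g := by group

/-- `Q` is trivial -/
theorem fpq_frobfix_bot [Finite Γ] {Q R : Subgroup Γ} {h : Γ} {q : ℕ} (hq : q.Prime)
    (hhq : h ^ q = 1)
    (hRQ : R ≤ Subgroup.normalizer (Q : Set Γ)) (hhQ : h ∈ Subgroup.normalizer (Q : Set Γ))
    (hhR : h ∈ Subgroup.normalizer (R : Set Γ))
    (hcop : (Nat.card ↥Q).Coprime (Nat.card ↥R))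
    (hfpfR : ∀ x ∈ R, x⁻¹ * (h * x * h⁻¹) ∈ R0 Q R → x ∈ R0 Q R)
    (hfpfQ : ∀ g ∈ Q, h * g = g * h → g = 1)
    (hQR : Q ≤ ⁅Q, R⁆) : Q = ⊥ := by
  have hcomm := fpq_frobfix_comm hq hhq hRQ hhQ hhR hcop hfpfR hfpfQ
  have h1 : ⁅Q, R⁆ = ⊥ := by
    rw [Subgroup.commutator_eq_bot_iff_le_centralizer]
    intro g hg
    rw [Subgroup.mem_centralizer_iff]
    intro x hx
    exact (hcomm g hg x hx).symm
  rw [h1] at hQR
  exact le_bot_iff.mp hQR

/-- `h` of prime order `q` normalises `Q` and `R`, `R` normalises `Q`, `(|Q|,|R|) = 1`,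
`R / C_R(Q)` is abelian and `h` has no fixed point on it, `h` has no fixed point on `Q`, and
`Q = [Q,R]`: then every function multiplicative on `Q` with values in a commutative group is
trivial on `Q`. -/
theorem frobfix_fun [Finite Γ] {Q R : Subgroup Γ} {h : Γ} {q : ℕ} (hq : q.Prime) (hhq : h ^ q = 1)
    (hRQ : R ≤ Subgroup.normalizer (Q : Set Γ)) (hhQ : h ∈ Subgroup.normalizer (Q : Set Γ))
    (hhR : h ∈ Subgroup.normalizer (R : Set Γ))
    (hcop : (Nat.card ↥Q).Coprime (Nat.card ↥R))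
    (hRR : ⁅R, R⁆ ≤ R0 Q R)
    (hfpfR : ∀ x ∈ R, x⁻¹ * (h * x * h⁻¹) ∈ R0 Q R → x ∈ R0 Q R)
    (hfpfQ : ∀ g ∈ Q, h * g = g * h → g = 1)
    (hQR : Q ≤ ⁅Q, R⁆)
    {C : Type*} [CommGroup C] (δ : Γ → C) (hmul : ∀ a ∈ Q, ∀ b ∈ Q, δ (a * b) = δ a * δ b) :
    ∀ g ∈ Q, δ g = 1 := by
  have hbot := fpq_frobfix_bot hq hhq hRQ hhQ hhR hcop hfpfR hfpfQ hQR
  intro g hg
  rw [hbot, Subgroup.mem_bot] at hg
  rw [hg]
  have h1 := hmul 1 Q.one_mem 1 Q.one_mem
  rw [mul_one] at h1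
  exact mul_eq_left.mp h1.symm

end Cfsg.Agent.Helper4.FPQ
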