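import Mathlib
import Cfsg.Agent.Lib.FPQ.FPQSetup
import Cfsg.Agent.Lib.FPQ.FPQFrobfix

/-! S4306 design (helper4), Theorem L: piece FPQ-FROBBOT.  Consequence of frobfix_fun: Q is trivial.
Proof by helper19. -/

set_option autoImplicit false
set_option linter.unusedSectionVars false

namespace Cfsg.Agent.Helper4.FPQ

open Module Cfsg.Agent.Helper8.FrobLin

universe u v w

variable {k : Type w} [Field k] {Γ : Type u} [Group Γ] {V : Type v} [AddCommGroup V]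
  [Module k V] {ρ : Representation k Γ V} {F H Q R : Subgroup Γ} {p q s t : ℕ}

theorem frobfix_bot [Finite Γ] {Q R : Subgroup Γ} {h : Γ} {q : ℕ} (hq : q.Prime) (hhq : h ^ q = 1)
    (hRQ : R ≤ Subgroup.normalizer (Q : Set Γ)) (hhQ : h ∈ Subgroup.normalizer (Q : Set Γ))
    (hhR : h ∈ Subgroup.normalizer (R : Set Γ))
    (hcop : (Nat.card ↥Q).Coprime (Nat.card ↥R))
    (hRR : ⁅R, R⁆ ≤ R0 Q R)
    (hfpfR : ∀ x ∈ R, x⁻¹ * (h * x * h⁻¹) ∈ R0 Q R → x ∈ R0 Q R)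
    (hfpfQ : ∀ g ∈ Q, h * g = g * h → g = 1)
    (hQR : Q ≤ ⁅Q, R⁆) (hsol : IsSolvable ↥Q) : Q = ⊥ := by
  classical
  let δ : Γ → Abelianization ↥Q :=
    fun g => if hg : g ∈ Q then Abelianization.of ⟨g, hg⟩ else 1
  have hδ : ∀ g (hg : g ∈ Q), δ g = Abelianization.of ⟨g, hg⟩ := fun g hg => dif_pos hg
  have hmul : ∀ a ∈ Q, ∀ b ∈ Q, δ (a * b) = δ a * δ b := by
    intro a ha b hb
    rw [hδ a ha, hδ b hb, hδ (a * b) (Q.mul_mem ha hb), ← map_mul]
    rfl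
  have h1 := frobfix_fun hq hhq hRQ hhQ hhR hcop hRR hfpfR hfpfQ hQR δ hmul
  have hcomm : commutator ↥Q = ⊤ := by
    rw [eq_top_iff]
    intro x _
    have h2 := h1 x.1 x.2
    rw [hδ x.1 x.2] at h2
    rw [← Abelianization.ker_of]
    exact MonoidHom.mem_ker.2 h2
  have hder : ∀ n, derivedSeries ↥Q n = ⊤ := by
    intro n
    induction n with
    | zero => rfl
    | succ n ih => rw [derivedSeries_succ, ih, ← commutator_def, hcomm]
  obtain ⟨n, hn⟩ := (Group.isSolvable_def ↥Q).1 hsol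
  rw [hder n] at hn
  rw [Subgroup.eq_bot_iff_forall]
  intro x hx
  have h3 : (⟨x, hx⟩ : ↥Q) ∈ (⊤ : Subgroup ↥Q) := Subgroup.mem_top _
  rw [hn, Subgroup.mem_bot] at h3
  exact congrArg Subtype.val h3

end Cfsg.Agent.Helper4.FPQ
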