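import Mathlib
import Cfsg.Agent.Lib.FPQ.FPQSetup
import Cfsg.Agent.Lib.FPQ.FPQSub
import Cfsg.Agent.Lib.FPQ.FPQLift
import Cfsg.Agent.Lib.FPQ.FPQNormal

/-! S4306 design (helper4), Theorem L: piece FPQ-RZERO.  The subgroup R0 = C_R(Q) in a minimal counterexample.
Proved by helper15. -/

set_option autoImplicit false
set_option linter.unusedSectionVars false

namespace Cfsg.Agent.Helper4.FPQ

open Module Cfsg.Agent.Helper8.FrobLin

universe u v w

variable {k : Type w} [Field k] {Γ : Type u} [Group Γ] {V : Type v} [AddCommGroup V]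
  [Module k V] {ρ : Representation k Γ V} {F H Q R : Subgroup Γ} {p q s t : ℕ}

/-- an element normalising `A` normalises `⁅A, A⁆` -/
theorem fpq_rzero_mem_normalizer_comm {A : Subgroup Γ} {g : Γ}
    (hA : g ∈ Subgroup.normalizer (A : Set Γ)) :
    g ∈ Subgroup.normalizer ((⁅A, A⁆ : Subgroup Γ) : Set Γ) := by
  rw [Subgroup.mem_normalizer_iff_map_conj_eq] at hA ⊢
  rw [Subgroup.map_commutator, hA]

/-- a subgroup all of whose elements are conjugated into `K` by `X` (a subgroup) is normalised -/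
theorem fpq_rzero_le_normalizer {X K : Subgroup Γ}
    (h : ∀ γ ∈ X, ∀ y ∈ K, γ * y * γ⁻¹ ∈ K) : X ≤ Subgroup.normalizer (K : Set Γ) := by
  intro γ hγ
  rw [Subgroup.mem_normalizer_iff]
  intro y
  constructor
  · exact h γ hγ y
  · intro hy
    have := h γ⁻¹ (X.inv_mem hγ) _ hy
    have e : γ⁻¹ * (γ * y * γ⁻¹) * γ⁻¹⁻¹ = y := by group
    rw [e] at this
    exact this

/-- `[R, R] ≤ C_R(Q)` -/
theorem MinCE.comm_R_le_R0 [Finite Γ] [FiniteDimensional k V] (M : MinCE ρ F H Q R p q s t) :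
    ⁅R, R⁆ ≤ R0 Q R := by
  have hle : ⁅R, R⁆ ≤ R := Subgroup.commutator_le_self R
  have hne : ⁅R, R⁆ ≠ R := by
    intro heq
    have : Fact t.Prime := ⟨M.hyp.ht⟩
    have hnil : Group.IsNilpotent ↥R := IsPGroup.isNilpotent M.hyp.Rt
    have hsol : Group.IsSolvable ↥R := inferInstance
    have hnt : Nontrivial ↥R := (Subgroup.nontrivial_iff_ne_bot R).2 M.R_ne_bot
    have hlt := Group.IsSolvable.commutator_lt_top_of_nontrivial ↥R
    apply hlt.ne
    apply Subgroup.map_injective R.subtype_injective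
    rw [Subgroup.map_subtype_commutator, heq, ← MonoidHom.range_eq_map, Subgroup.range_subtype]
  have hF : F ≤ Subgroup.normalizer ((⁅R, R⁆ : Subgroup Γ) : Set Γ) :=
    fun f hf => fpq_rzero_mem_normalizer_comm (M.hyp.FR hf)
  have hH : H ≤ Subgroup.normalizer ((⁅R, R⁆ : Subgroup Γ) : Set Γ) :=
    fun h hh => fpq_rzero_mem_normalizer_comm (M.hyp.HR hh)
  intro x hx
  rw [mem_R0]
  exact ⟨hle hx, fun g hg => M.subR ⁅R, R⁆ hle hne hF hH g hg x hx⟩

/-- `R ≠ C_R(Q)` -/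
theorem MinCE.exists_not_mem_R0 (M : MinCE ρ F H Q R p q s t) : ∃ x ∈ R, x ∉ R0 Q R := by
  by_contra hcon
  push Not at hcon
  apply M.not_concl
  intro g hg x hx
  have h1 := (mem_R0.mp (hcon x hx)).2 g hg
  rw [← map_mul, ← map_mul, h1]

/-- `C_{R/R0}(A) = 1` -/
theorem MinCE.fpf_R0 [Finite Γ] (M : MinCE ρ F H Q R p q s t) :
    ∀ x ∈ R, (∀ f ∈ F, x⁻¹ * (f * x * f⁻¹) ∈ R0 Q R) →
      (∀ h ∈ H, x⁻¹ * (h * x * h⁻¹) ∈ R0 Q R) → x ∈ R0 Q R := by
  intro x hx hF hH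
  have hFK : F ≤ Subgroup.normalizer ((R0 Q R : Subgroup Γ) : Set Γ) :=
    fpq_rzero_le_normalizer (fun γ hγ y hy =>
      M.R0_conj γ (Subgroup.mem_sup_left (Subgroup.mem_sup_right hγ)) y hy)
  have hHK : H ≤ Subgroup.normalizer ((R0 Q R : Subgroup Γ) : Set Γ) :=
    fpq_rzero_le_normalizer (fun γ hγ y hy =>
      M.R0_conj γ (Subgroup.mem_sup_right hγ) y hy)
  have hdvd : Nat.card ↥(R0 Q R) ∣ Nat.card ↥R := Subgroup.card_dvd_of_le (R0_le Q R)
  have hpK : ¬ p ∣ Nat.card ↥(R0 Q R) := fun h => M.not_dvd_R.1 (dvd_trans h hdvd)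
  have hqK : ¬ q ∣ Nat.card ↥(R0 Q R) := fun h => M.not_dvd_R.2 (dvd_trans h hdvd)
  obtain ⟨c, hc, hcF, hcH⟩ := M.hyp.lift hFK hHK hpK hqK x hF hH
  have hxc : x * c ∈ R := R.mul_mem hx (R0_le Q R hc)
  have h1 : x * c = 1 := M.hyp.cR (x * c) hxc hcF hcH
  have h2 : x = c⁻¹ := eq_inv_of_mul_eq_one_left h1
  rw [h2]
  exact (R0 Q R).inv_mem hc

/-- a proper `F`,`H`-invariant subgroup of `R` lies in `C_R(Q)` -/
theorem MinCE.le_R0_of_proper [Finite Γ] [FiniteDimensional k V] (M : MinCE ρ F H Q R p q s t)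
    (R₁ : Subgroup Γ) (h1 : R₁ ≤ R) (hne : R₁ ≠ R)
    (hF : F ≤ Subgroup.normalizer (R₁ : Set Γ)) (hH : H ≤ Subgroup.normalizer (R₁ : Set Γ)) :
    R₁ ≤ R0 Q R := by
  intro x hx
  rw [mem_R0]
  exact ⟨h1 hx, fun g hg => M.subR R₁ h1 hne hF hH g hg x hx⟩

end Cfsg.Agent.Helper4.FPQ
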