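import Mathlib
import Cfsg.Agent.Lib.FPQ.FPQSetup
import Cfsg.Agent.Lib.FPQ.FPQFrobbot
import Cfsg.Agent.Lib.FPQ.FPQRzero
import Cfsg.Agent.Lib.FPQ.FPQComm
import Cfsg.Agent.Lib.FPQ.FPQApq
import Cfsg.Agent.Lib.FPQ.FPQNormal

/-! S4306 design (helper4), Theorem L: piece FPQ-KILL.  In a minimal counterexample F does not centralise Q.
Proof by helper19. -/

set_option autoImplicit false
set_option linter.unusedSectionVars false

namespace Cfsg.Agent.Helper4.FPQ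

open Module Cfsg.Agent.Helper8.FrobLin

universe u v w

variable {k : Type w} [Field k] {Γ : Type u} [Group Γ] {V : Type v} [AddCommGroup V]
  [Module k V] {ρ : Representation k Γ V} {F H Q R : Subgroup Γ} {p q s t : ℕ}

/-- conjugation by an element of the normaliser, both directions -/
theorem fpq_kill_conj_mem {K : Subgroup Γ} {γ : Γ} (hγ : γ ∈ Subgroup.normalizer (K : Set Γ))
    {y : Γ} (hy : y ∈ K) : γ * y * γ⁻¹ ∈ K :=
  (Subgroup.mem_normalizer_iff.mp hγ y).mp hy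

theorem fpq_kill_conj_mem' {K : Subgroup Γ} {γ : Γ} (hγ : γ ∈ Subgroup.normalizer (K : Set Γ))
    {y : Γ} (hy : y ∈ K) : γ⁻¹ * y * γ ∈ K := by
  have h2 : γ⁻¹ ∈ Subgroup.normalizer (K : Set Γ) := Subgroup.inv_mem _ hγ
  have h3 := (Subgroup.mem_normalizer_iff.mp h2 y).mp hy
  rwa [inv_inv] at h3

/-- if `F` centralises `Q` then `F` centralises `R / C_R(Q)` -/
theorem fpq_kill_typeI (hyp : Hyp ρ F H Q R p q s t)
    (hFQ : ∀ f ∈ F, ∀ g ∈ Q, f * g = g * f) : TypeI F Q R := by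
  intro x hx f hf
  rw [mem_R0]
  refine ⟨R.mul_mem (R.inv_mem hx) (fpq_kill_conj_mem (hyp.FR hf) hx), ?_⟩
  intro g hg
  -- x g x⁻¹ ∈ Q
  have hxg : x * g * x⁻¹ ∈ Q := fpq_kill_conj_mem (hyp.RQ hx) hg
  have h1 : f * (x * g * x⁻¹) = (x * g * x⁻¹) * f := hFQ f hf _ hxg
  have h2 : f * g = g * f := hFQ f hf g hg
  have h2' : f⁻¹ * g = g * f⁻¹ := by
    have : f⁻¹ * (f * g) * f⁻¹ = f⁻¹ * (g * f) * f⁻¹ := by rw [h2]
    simpa [mul_assoc] using this.symm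
  -- y g = g y with y = x⁻¹ f x f⁻¹
  have e1 : x⁻¹ * (f * x * f⁻¹) * g = x⁻¹ * (f * (x * g * x⁻¹)) * x * f⁻¹ := by
    calc x⁻¹ * (f * x * f⁻¹) * g = x⁻¹ * f * x * (f⁻¹ * g) := by simp only [mul_assoc]
      _ = x⁻¹ * f * x * (g * f⁻¹) := by rw [h2']
      _ = x⁻¹ * (f * (x * g * x⁻¹)) * x * f⁻¹ := by simp only [mul_assoc, inv_mul_cancel_left]
  have e2 : g * (x⁻¹ * (f * x * f⁻¹)) = x⁻¹ * ((x * g * x⁻¹) * f) * x * f⁻¹ := by
    simp only [mul_assoc, inv_mul_cancel_left]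
  rw [e1, e2, h1]

/-- powers: if `x⁻¹ (h x h⁻¹) ∈ R0` then `x⁻¹ (hⁿ x h⁻ⁿ) ∈ R0` -/
theorem fpq_kill_pow (M : MinCE ρ F H Q R p q s t) {h : Γ} (hh : h ∈ H) {x : Γ}
    (hx : x⁻¹ * (h * x * h⁻¹) ∈ R0 Q R) (n : ℕ) :
    x⁻¹ * (h ^ n * x * (h ^ n)⁻¹) ∈ R0 Q R := by
  induction n with
  | zero =>
    simp only [pow_zero, one_mul, inv_one, mul_one, inv_mul_cancel]
    exact (R0 Q R).one_mem
  | succ n ih =>
    have hmem : h ∈ R ⊔ F ⊔ H := Subgroup.mem_sup_right hh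
    have h1 := M.R0_conj h hmem _ ih
    have h2 := (R0 Q R).mul_mem hx h1
    have e : x⁻¹ * (h * x * h⁻¹) * (h * (x⁻¹ * (h ^ n * x * (h ^ n)⁻¹)) * h⁻¹) =
        x⁻¹ * (h ^ (n + 1) * x * (h ^ (n + 1))⁻¹) := by
      rw [pow_succ', mul_inv_rev]
      simp only [mul_assoc, inv_mul_cancel_left, mul_inv_cancel_left]
    rw [← e]
    exact h2

theorem MinCE.typeI_kill [Finite Γ] [FiniteDimensional k V] (M : MinCE ρ F H Q R p q s t)
    (hFQ : ∀ f ∈ F, ∀ g ∈ Q, f * g = g * f) : False := by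
  have hyp := M.hyp
  have hT : TypeI F Q R := fpq_kill_typeI hyp hFQ
  -- a non-trivial element of H
  have hqp : q.Prime := hyp.hq
  have hHne : H ≠ ⊥ := by
    intro hb
    have h1 := hyp.cardH
    rw [hb, Subgroup.card_bot] at h1
    exact hqp.one_lt.ne h1
  rw [Ne, Subgroup.eq_bot_iff_forall] at hHne
  push Not at hHne
  obtain ⟨h, hh, hne⟩ := hHne
  have hhq : h ^ q = 1 := by
    have h1 : (⟨h, hh⟩ : ↥H) ^ Nat.card ↥H = 1 := pow_card_eq_one'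
    rw [hyp.cardH] at h1
    exact congrArg Subtype.val h1
  have hsf : Fact s.Prime := ⟨hyp.hs⟩
  have hQfin : Finite ↥Q := inferInstance
  have hnil : Group.IsNilpotent ↥Q := hyp.Qs.isNilpotent
  have hsol : Group.IsSolvable ↥Q := inferInstance
  have hfpfR : ∀ x ∈ R, x⁻¹ * (h * x * h⁻¹) ∈ R0 Q R → x ∈ R0 Q R := by
    intro x hx hxh
    apply M.fpf_R0 x hx (fun f hf => hT x hx f hf)
    intro h' hh'
    obtain ⟨n, rfl⟩ := hyp.H_gen h hh hne h' hh'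
    exact fpq_kill_pow M hh hxh n
  have hfpfQ : ∀ g ∈ Q, h * g = g * h → g = 1 := by
    intro g hg hc
    apply hyp.cQ g hg (fun f hf => hFQ f hf g hg)
    intro h' hh'
    obtain ⟨n, rfl⟩ := hyp.H_gen h hh hne h' hh'
    have hcm : Commute h g := hc
    exact (hcm.pow_left n).eq
  have hbot := frobfix_bot hqp hhq hyp.RQ (hyp.HQ hh) (hyp.HR hh) M.coprime_QR M.comm_R_le_R0
    hfpfR hfpfQ M.Q_le_comm_R hsol
  exact M.Q_ne_bot hbot

end Cfsg.Agent.Helper4.FPQ
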