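import Mathlib
import Cfsg.Agent.Lib.FPQ.FPQSetup

/-! S4306 design (helper4), Theorem L: piece FPQ-WIND.  Weight spaces for pairwise distinct weights are independent. -/

set_option autoImplicit false
set_option linter.unusedSectionVars false

namespace Cfsg.Agent.Helper4.FPQ

open Module Cfsg.Agent.Helper8.FrobLin

universe u v w

variable {k : Type w} [Field k] {Γ : Type u} [Group Γ] {V : Type v} [AddCommGroup V]
  [Module k V] {ρ : Representation k Γ V} {F H Q R : Subgroup Γ} {p q s t : ℕ}

theorem fpq_wind_aux {ι : Type*} [DecidableEq ι] (ρ : Representation k Γ V) (M : Subgroup Γ)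
    (lam : ι → Γ → k) (hne : ∀ i j, i ≠ j → ∃ g ∈ M, lam i g ≠ lam j g) :
    ∀ (S : Finset ι) (v : ι → V), (∀ i ∈ S, v i ∈ wsp ρ M (lam i)) → ∑ i ∈ S, v i = 0 →
      ∀ i ∈ S, v i = 0 := by
  intro S
  induction S using Finset.induction_on with
  | empty => intro v _ _ i hi; simp at hi
  | insert a S' ha ih =>
    intro v hv hsum
    rw [Finset.sum_insert ha] at hsum
    -- every `v i`, `i ∈ S'`, vanishes
    have hS' : ∀ i ∈ S', v i = 0 := by
      intro i hi
      have hia : i ≠ a := fun h => ha (h ▸ hi)
      obtain ⟨g, hg, hgne⟩ := hne i a hia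
      -- apply `ρ g - lam a g`
      have h1 : ∑ j ∈ S', (lam j g - lam a g) • v j = 0 := by
        have h2 : ρ g (v a + ∑ j ∈ S', v j) = 0 := by rw [hsum, map_zero]
        rw [map_add, map_sum, hv a (Finset.mem_insert_self a S') g hg] at h2
        have h3 : ∑ j ∈ S', ρ g (v j) = ∑ j ∈ S', lam j g • v j :=
          Finset.sum_congr rfl (fun j hj => hv j (Finset.mem_insert_of_mem hj) g hg)
        rw [h3] at h2
        have h4 : lam a g • (v a + ∑ j ∈ S', v j) = 0 := by rw [hsum, smul_zero]
        rw [smul_add, Finset.smul_sum] at h4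
        have h5 : (lam a g • v a + ∑ j ∈ S', lam j g • v j) -
            (lam a g • v a + ∑ j ∈ S', lam a g • v j) = 0 := by rw [h2, h4, sub_zero]
        rw [add_sub_add_left_eq_sub, ← Finset.sum_sub_distrib] at h5
        rw [← h5]
        exact Finset.sum_congr rfl (fun j _ => sub_smul _ _ _)
      have h6 := ih (fun j => (lam j g - lam a g) • v j)
        (fun j hj => Submodule.smul_mem _ _ (hv j (Finset.mem_insert_of_mem hj))) h1 i hi
      have h7 : lam i g - lam a g ≠ 0 := sub_ne_zero.2 hgne
      exact (smul_eq_zero.1 h6).resolve_left h7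
    have hzero : ∑ j ∈ S', v j = 0 := Finset.sum_eq_zero hS'
    rw [hzero, add_zero] at hsum
    intro i hi
    rcases Finset.mem_insert.1 hi with rfl | hi'
    · exact hsum
    · exact hS' i hi'

theorem wsp_indep {ι : Type*} [Fintype ι] (ρ : Representation k Γ V) (M : Subgroup Γ)
    (lam : ι → Γ → k) (hne : ∀ i j, i ≠ j → ∃ g ∈ M, lam i g ≠ lam j g) (v : ι → V)
    (hv : ∀ i, v i ∈ wsp ρ M (lam i)) (hsum : ∑ i, v i = 0) : ∀ i, v i = 0 := by
  classical
  intro i
  exact fpq_wind_aux ρ M lam hne Finset.univ v (fun i _ => hv i) hsum i (Finset.mem_univ i)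

/-- a weight space meets the sum of the weight spaces of finitely many other weights trivially -/
theorem wsp_inf_iSup {ι : Type*} [Finite ι] (ρ : Representation k Γ V) (M : Subgroup Γ)
    (mu : Γ → k) (lam : ι → Γ → k) (hne : ∀ i, ∃ g ∈ M, mu g ≠ lam i g) :
    wsp ρ M mu ⊓ ⨆ i, wsp ρ M (lam i) = ⊥ := by
  classical
  rw [eq_bot_iff]
  intro x hx
  obtain ⟨hx1, hx2⟩ := Submodule.mem_inf.1 hx
  rw [Submodule.mem_bot]
  -- write `x` as a sum of weight vectors
  rw [Submodule.mem_iSup_iff_exists_finsupp] at hx2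
  obtain ⟨f, hf, hfx⟩ := hx2
  -- group the indices by the restriction of the weight to `M`: use the quotient by "equal on `M`"
  -- Instead of grouping we argue by induction through an auxiliary statement on functions
  -- `w : ι → V` with `w i ∈ wsp (lam i)` and `x = ∑ w i`.
  have key : ∀ (S : Finset ι) (w : ι → V) (y : V), y ∈ wsp ρ M mu →
      (∀ i ∈ S, w i ∈ wsp ρ M (lam i)) → y = ∑ i ∈ S, w i → y = 0 := by
    intro S
    induction S using Finset.induction_on with
    | empty => intro w y _ _ hy; simpa using hy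
    | insert a S' ha ih =>
      intro w y hy hw hsum
      rw [Finset.sum_insert ha] at hsum
      obtain ⟨g, hg, hgne⟩ := hne a
      -- `(ρ g - lam a g) y = (mu g - lam a g) y = ∑_{S'} (lam j g - lam a g) w j`
      have h1 : (mu g - lam a g) • y = ∑ j ∈ S', (lam j g - lam a g) • w j := by
        have h2 : ρ g y = ρ g (w a + ∑ j ∈ S', w j) := by rw [hsum]
        rw [hy g hg, map_add, map_sum, hw a (Finset.mem_insert_self a S') g hg] at h2
        have h3 : ∑ j ∈ S', ρ g (w j) = ∑ j ∈ S', lam j g • w j :=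
          Finset.sum_congr rfl (fun j hj => hw j (Finset.mem_insert_of_mem hj) g hg)
        rw [h3] at h2
        have h4 : lam a g • y = lam a g • w a + ∑ j ∈ S', lam a g • w j := by
          rw [hsum, smul_add, Finset.smul_sum]
        rw [sub_smul, h2, h4, add_sub_add_left_eq_sub, ← Finset.sum_sub_distrib]
        exact Finset.sum_congr rfl (fun j _ => (sub_smul _ _ _).symm)
      have h5 := ih (fun j => (lam j g - lam a g) • w j) ((mu g - lam a g) • y)
        (Submodule.smul_mem _ _ hy)
        (fun j hj => Submodule.smul_mem _ _ (hw j (Finset.mem_insert_of_mem hj))) h1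
      exact (smul_eq_zero.1 h5).resolve_left (sub_ne_zero.2 hgne)
  refine key f.support (fun i => (f i : V)) x hx1 (fun i _ => hf i) ?_
  rw [← hfx]
  rfl

end Cfsg.Agent.Helper4.FPQ
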