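import Mathlib
import Cfsg.Agent.Lib.FPQ.FPQSetup
import Cfsg.Agent.Lib.FPQ.FPQWind

/-! S4306 design (helper4), Theorem L: piece FPQ-WSPAN.  Irreducibility: the conjugates of one weight space span V; transitivity on weights; an element fixing all weights commutes with M.  (Proved by helper8.) -/

set_option autoImplicit false
set_option linter.unusedSectionVars false

namespace Cfsg.Agent.Helper4.FPQ

open Module Cfsg.Agent.Helper8.FrobLin

universe u v w

variable {k : Type w} [Field k] {Γ : Type u} [Group Γ] {V : Type v} [AddCommGroup V]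
  [Module k V] {ρ : Representation k Γ V} {F H Q R : Subgroup Γ} {p q s t : ℕ}

theorem fpq_wspan_mem_normalizer (M : Subgroup Γ) [M.Normal] (γ : Γ) :
    γ ∈ Subgroup.normalizer (M : Set Γ) := by
  rw [Subgroup.normalizer_eq_top]
  exact Subgroup.mem_top γ

theorem wsp_span [Finite Γ]
    (hirr : ∀ U : Submodule k V, (∀ g : Γ, ∀ u ∈ U, ρ g u ∈ U) → U = ⊥ ∨ U = ⊤)
    (M : Subgroup Γ) [M.Normal] (lam : Γ → k) (hlam : wsp ρ M lam ≠ ⊥) :
    ⨆ γ : Γ, wsp ρ M (cj γ lam) = ⊤ := by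
  have hinv : ∀ g : Γ, ∀ u ∈ ⨆ γ : Γ, wsp ρ M (cj γ lam), ρ g u ∈ ⨆ γ : Γ, wsp ρ M (cj γ lam) := by
    intro g u hu
    refine Submodule.iSup_induction (fun γ : Γ => wsp ρ M (cj γ lam))
      (motive := fun u => ρ g u ∈ ⨆ γ : Γ, wsp ρ M (cj γ lam)) hu ?_ ?_ ?_
    · intro γ v hv
      have h1 : ρ g v ∈ wsp ρ M (cj g (cj γ lam)) :=
        rho_mem_wsp_cj (fpq_wspan_mem_normalizer M g) hv
      rw [← cj_mul] at h1
      exact Submodule.mem_iSup_of_mem (g * γ) h1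
    · rw [map_zero]; exact Submodule.zero_mem _
    · intro a b ha hb
      rw [map_add]; exact Submodule.add_mem _ ha hb
  rcases hirr _ hinv with h | h
  · exfalso
    apply hlam
    rw [eq_bot_iff, ← h]
    have h2 : wsp ρ M lam = wsp ρ M (cj (1 : Γ) lam) := by rw [cj_one]
    rw [h2]
    exact le_iSup (fun γ : Γ => wsp ρ M (cj γ lam)) 1
  · exact h

/-- `Γ` is transitive on the weights of a normal subgroup -/
theorem wt_orbit [Finite Γ]
    (hirr : ∀ U : Submodule k V, (∀ g : Γ, ∀ u ∈ U, ρ g u ∈ U) → U = ⊥ ∨ U = ⊤)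
    (M : Subgroup Γ) [M.Normal] (lam mu : Γ → k) (hlam : wsp ρ M lam ≠ ⊥)
    (hmu : wsp ρ M mu ≠ ⊥) : ∃ γ : Γ, ∀ g ∈ M, mu g = cj γ lam g := by
  by_contra hcon
  push Not at hcon
  have h1 := wsp_inf_iSup ρ M mu (fun γ : Γ => cj γ lam) hcon
  rw [wsp_span hirr M lam hlam, inf_top_eq] at h1
  exact hmu h1

/-- an element fixing all the weights of `M` commutes with `ρ M` -/
theorem commute_of_fixes [Finite Γ]
    (hirr : ∀ U : Submodule k V, (∀ g : Γ, ∀ u ∈ U, ρ g u ∈ U) → U = ⊥ ∨ U = ⊤)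
    (M : Subgroup Γ) [M.Normal] (lam : Γ → k) (hlam : wsp ρ M lam ≠ ⊥) (x : Γ)
    (hx : ∀ γ : Γ, FixesOn M x (cj γ lam)) : ∀ g ∈ M, ρ x * ρ g = ρ g * ρ x := by
  intro g hg
  apply LinearMap.ext
  intro v
  have hv : v ∈ ⨆ γ : Γ, wsp ρ M (cj γ lam) := by
    rw [wsp_span hirr M lam hlam]; exact Submodule.mem_top
  refine Submodule.iSup_induction (fun γ : Γ => wsp ρ M (cj γ lam))
    (motive := fun v => (ρ x * ρ g) v = (ρ g * ρ x) v) hv ?_ ?_ ?_
  · intro γ v hv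
    have h1 : ρ x v ∈ wsp ρ M (cj x (cj γ lam)) :=
      rho_mem_wsp_cj (fpq_wspan_mem_normalizer M x) hv
    have h2 : ρ g (ρ x v) = cj x (cj γ lam) g • ρ x v := h1 g hg
    have h3 : cj x (cj γ lam) g = cj γ lam g := hx γ g hg
    have h4 : ρ g v = cj γ lam g • v := hv g hg
    calc (ρ x * ρ g) v = ρ x (ρ g v) := rfl
      _ = ρ x (cj γ lam g • v) := by rw [h4]
      _ = cj γ lam g • ρ x v := by rw [map_smul]
      _ = ρ g (ρ x v) := by rw [h2, h3]
      _ = (ρ g * ρ x) v := rfl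
  · rw [map_zero, map_zero]
  · intro a b ha hb
    rw [map_add, map_add, ha, hb]

end Cfsg.Agent.Helper4.FPQ
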