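import Mathlib
import Cfsg.Agent.Lib.FPQ.FPQSetup
import Cfsg.Agent.Lib.FPQ.FPQWspan
import Cfsg.Agent.Lib.FPQ.FPQNormal
import Cfsg.Agent.Lib.FPQ.FPQKill

/-! S4306 design (helper4), Theorem L: piece FPQ-ABA.  Abelian branch, case (a): an F-fixed weight in type I.
Proved by helper28 (from the statements of FPQWspan `commute_of_fixes`, FPQNormal `Q_normal`, `factor`,
FPQKill `typeI_kill`). -/

set_option autoImplicit false
set_option linter.unusedSectionVars false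

namespace Cfsg.Agent.Helper4.FPQ

open Module Cfsg.Agent.Helper8.FrobLin

universe u v w

variable {k : Type w} [Field k] {Γ : Type u} [Group Γ] {V : Type v} [AddCommGroup V]
  [Module k V] {ρ : Representation k Γ V} {F H Q R : Subgroup Γ} {p q s t : ℕ}

/-- conjugating an element of `C(Q) F` by an element `n` which conjugates `F` into `C(Q) F` -/
theorem fpqaba_step [Q.Normal] (n : Γ)
    (hn : ∀ f' ∈ F, ∃ c ∈ Subgroup.centralizer (Q : Set Γ), ∃ f'' ∈ F, n⁻¹ * f' * n = c * f'')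
    (y : Γ) (hy : ∃ c ∈ Subgroup.centralizer (Q : Set Γ), ∃ f' ∈ F, y = c * f') :
    ∃ c ∈ Subgroup.centralizer (Q : Set Γ), ∃ f' ∈ F, n⁻¹ * y * n = c * f' := by
  obtain ⟨c, hc, f', hf', rfl⟩ := hy
  obtain ⟨c', hc', f'', hf'', e⟩ := hn f' hf'
  refine ⟨(n⁻¹ * c * n) * c', mul_mem ?_ hc', f'', hf'', ?_⟩
  · have h1 := (inferInstance : (Subgroup.centralizer (Q : Set Γ)).Normal).conj_mem c hc n⁻¹
    simpa using h1
  · calc n⁻¹ * (c * f') * n = (n⁻¹ * c * n) * (n⁻¹ * f' * n) := by group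
      _ = (n⁻¹ * c * n) * c' * f'' := by rw [e]; simp only [mul_assoc]

theorem MinCE.ab_caseA [Finite Γ] [FiniteDimensional k V] (M : MinCE ρ F H Q R p q s t)
    (hab : ∀ a ∈ Q, ∀ b ∈ Q, a * b = b * a) (h1 : TypeI F Q R) (lam : Γ → k)
    (hlam : wsp ρ Q lam ≠ ⊥) (hF : ∀ f ∈ F, FixesOn Q f lam) : False := by
  haveI hQn : Q.Normal := M.Q_normal
  have hcQ : ∀ c ∈ Q, c ∈ Subgroup.centralizer (Q : Set Γ) := by
    intro c hc
    rw [Subgroup.mem_centralizer_iff]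
    intro g hg
    exact hab g hg c hc
  have hnQ : ∀ n ∈ Q, ∀ f' ∈ F, ∃ c ∈ Subgroup.centralizer (Q : Set Γ), ∃ f'' ∈ F,
      n⁻¹ * f' * n = c * f'' := by
    intro n hn f' hf'
    refine ⟨n⁻¹ * (f' * n * f'⁻¹), hcQ _ (mul_mem (inv_mem hn) ?_), f', hf', by group⟩
    exact (Subgroup.mem_normalizer_iff.1 (M.hyp.FQ hf') n).1 hn
  have hnR : ∀ n ∈ R, ∀ f' ∈ F, ∃ c ∈ Subgroup.centralizer (Q : Set Γ), ∃ f'' ∈ F,
      n⁻¹ * f' * n = c * f'' := by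
    intro n hn f' hf'
    refine ⟨n⁻¹ * (f' * n * f'⁻¹), ?_, f', hf', by group⟩
    have h2 := h1 n hn f' hf'
    unfold R0 at h2
    exact (Subgroup.mem_inf.1 h2).2
  have hnF : ∀ n ∈ F, ∀ f' ∈ F, ∃ c ∈ Subgroup.centralizer (Q : Set Γ), ∃ f'' ∈ F,
      n⁻¹ * f' * n = c * f'' := by
    intro n hn f' hf'
    exact ⟨1, one_mem _, n⁻¹ * f' * n, mul_mem (mul_mem (inv_mem hn) hf') hn, (one_mul _).symm⟩
  have hnH : ∀ n ∈ H, ∀ f' ∈ F, ∃ c ∈ Subgroup.centralizer (Q : Set Γ), ∃ f'' ∈ F,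
      n⁻¹ * f' * n = c * f'' := by
    intro n hn f' hf'
    refine ⟨1, one_mem _, n⁻¹ * f' * n, ?_, (one_mul _).symm⟩
    have h2 : n⁻¹ ∈ Subgroup.normalizer (F : Set Γ) := inv_mem (M.hyp.HF hn)
    have h3 := (Subgroup.mem_normalizer_iff.1 h2 f').1 hf'
    rwa [inv_inv] at h3
  have hkey : ∀ γ : Γ, ∀ f ∈ F, ∃ c ∈ Subgroup.centralizer (Q : Set Γ), ∃ f' ∈ F,
      γ⁻¹ * f * γ = c * f' := by
    intro γ f hf
    obtain ⟨g, hg, x, hx, f₁, hf₁, h, hh, rfl⟩ := M.factor γ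
    have s0 : ∃ c ∈ Subgroup.centralizer (Q : Set Γ), ∃ f' ∈ F, f = c * f' :=
      ⟨1, one_mem _, f, hf, (one_mul f).symm⟩
    have s1 := fpqaba_step g (hnQ g hg) f s0
    have s2 := fpqaba_step x (hnR x hx) _ s1
    have s3 := fpqaba_step f₁ (hnF f₁ hf₁) _ s2
    have s4 := fpqaba_step h (hnH h hh) _ s3
    obtain ⟨c, hc, f', hf', e⟩ := s4
    refine ⟨c, hc, f', hf', ?_⟩
    rw [← e]
    group
  have hfix : ∀ f ∈ F, ∀ γ : Γ, FixesOn Q f (cj γ lam) := by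
    intro f hf γ g hg
    rw [cj_apply, cj_apply]
    obtain ⟨c, hc, f', hf', e⟩ := hkey γ f hf
    have hg' : γ⁻¹ * g * γ ∈ Q := by
      have h2 := hQn.conj_mem g hg γ⁻¹
      rwa [inv_inv] at h2
    have e2 : γ⁻¹ * (f⁻¹ * g * f) * γ = f'⁻¹ * (c⁻¹ * (γ⁻¹ * g * γ) * c) * f' := by
      have e0 : γ⁻¹ * (f⁻¹ * g * f) * γ = (γ⁻¹ * f * γ)⁻¹ * (γ⁻¹ * g * γ) * (γ⁻¹ * f * γ) := by
        group
      rw [e0, e]
      group
    have e3 : c⁻¹ * (γ⁻¹ * g * γ) * c = γ⁻¹ * g * γ := by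
      have h2 := Subgroup.mem_centralizer_iff.1 hc _ hg'
      rw [mul_assoc, h2]
      group
    rw [e2, e3]
    exact hF f' hf' _ hg'
  apply M.typeI_kill
  intro f hf g hg
  have hcomm := commute_of_fixes M.irr Q lam hlam f (hfix f hf) g hg
  have h2 : ρ (f * g * f⁻¹ * g⁻¹) = 1 := by
    rw [map_mul, map_mul, map_mul, hcomm, mul_assoc (ρ g), ← map_mul, mul_inv_cancel, map_one,
      mul_one, ← map_mul, mul_inv_cancel, map_one]
  have hmem : f * g * f⁻¹ * g⁻¹ ∈ Q :=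
    mul_mem ((Subgroup.mem_normalizer_iff.1 (M.hyp.FQ hf) g).1 hg) (inv_mem hg)
  have h3 := M.faithful _ (Subgroup.mem_sup_left hmem) h2
  calc f * g = (f * g * f⁻¹ * g⁻¹) * (g * f) := by group
    _ = g * f := by rw [h3, one_mul]

end Cfsg.Agent.Helper4.FPQ
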