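import Mathlib
import Cfsg.Agent.Lib.FPQ.FPQSetup
import Cfsg.Agent.Lib.FPQ.FPQWind
import Cfsg.Agent.Lib.FPQ.FPQApq

/-! S4306 design (helper4), Theorem L: piece FPQ-TRI.  A weight of an A-invariant subgroup is fixed by F or by a complement f H f⁻¹ (else a fixed vector); no fixed vectors of the stabiliser in the weight space.
Proved by helper28 (from the statements of FPQWind `wsp_indep` and FPQApq `apq`, `F_gen`, `H_gen`). -/

set_option autoImplicit false
set_option linter.unusedSectionVars false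

namespace Cfsg.Agent.Helper4.FPQ

open Module Cfsg.Agent.Helper8.FrobLin

universe u v w

variable {k : Type w} [Field k] {Γ : Type u} [Group Γ] {V : Type v} [AddCommGroup V]
  [Module k V] {ρ : Representation k Γ V} {F H Q R : Subgroup Γ} {p q s t : ℕ}

/-- the product of two elements fixing a weight fixes it -/
theorem fpqtri_fixes_mul {M : Subgroup Γ} {lam : Γ → k} {x y : Γ}
    (hx : x ∈ Subgroup.normalizer (M : Set Γ)) (hfx : FixesOn M x lam) (hfy : FixesOn M y lam) :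
    FixesOn M (x * y) lam := by
  intro g hg
  have h1 : x⁻¹ * g * x ∈ M := by
    have h2 : x⁻¹ ∈ Subgroup.normalizer (M : Set Γ) := inv_mem hx
    have h3 := (Subgroup.mem_normalizer_iff.1 h2 g).1 hg
    rwa [inv_inv] at h3
  have e : (x * y)⁻¹ * g * (x * y) = y⁻¹ * (x⁻¹ * g * x) * y := by group
  rw [e, hfy _ h1, hfx g hg]

theorem fpqtri_fixes_one (M : Subgroup Γ) (lam : Γ → k) : FixesOn M (1 : Γ) lam := by
  intro g _
  simp

theorem fpqtri_fixes_pow {M : Subgroup Γ} {lam : Γ → k} {x : Γ}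
    (hx : x ∈ Subgroup.normalizer (M : Set Γ)) (hfx : FixesOn M x lam) (n : ℕ) :
    FixesOn M (x ^ n) lam := by
  induction n with
  | zero => rw [pow_zero]; exact fpqtri_fixes_one M lam
  | succ n ih => rw [pow_succ]; exact fpqtri_fixes_mul (pow_mem hx n) ih hfx

/-- if no non-trivial element of `K` fixes the weight `lam`, a vector of weight `lam` whose `K`-orbit
sum vanishes is zero -/
theorem fpqtri_sum (ρ : Representation k Γ V) (M K : Subgroup Γ) [Fintype ↥K]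
    (hKM : K ≤ Subgroup.normalizer (M : Set Γ)) (lam : Γ → k)
    (hK : ∀ a ∈ K, FixesOn M a lam → a = 1) (v : V) (hv : v ∈ wsp ρ M lam)
    (hsum : ∑ a : K, ρ (a : Γ) v = 0) : v = 0 := by
  have h1 := wsp_indep ρ M (fun a : K => cj (a : Γ) lam) ?_ (fun a : K => ρ (a : Γ) v) ?_ hsum
    (1 : K)
  · simpa using h1
  · intro i j hij
    by_contra hcon
    push_neg at hcon
    apply hij
    have hfix : FixesOn M ((j : Γ)⁻¹ * (i : Γ)) lam := by
      intro g hg
      have hjg : (j : Γ) * g * (j : Γ)⁻¹ ∈ M :=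
        (Subgroup.mem_normalizer_iff.1 (hKM j.2) g).1 hg
      have h2 := hcon _ hjg
      rw [cj_apply, cj_apply] at h2
      have e1 : ((j : Γ)⁻¹ * (i : Γ))⁻¹ * g * ((j : Γ)⁻¹ * (i : Γ)) =
          (i : Γ)⁻¹ * ((j : Γ) * g * (j : Γ)⁻¹) * (i : Γ) := by group
      have e2 : (j : Γ)⁻¹ * ((j : Γ) * g * (j : Γ)⁻¹) * (j : Γ) = g := by group
      rw [e1, h2, e2]
    have h3 := hK _ (K.mul_mem (K.inv_mem j.2) i.2) hfix
    apply Subtype.ext
    exact (inv_mul_eq_one.1 h3).symm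
  · intro a
    exact rho_mem_wsp_cj (hKM a.2) hv

/-- the orbit sum over a subgroup is fixed by the subgroup -/
theorem fpqtri_sum_fixed (ρ : Representation k Γ V) (K : Subgroup Γ) [Fintype ↥K] (v : V) (b : Γ)
    (hb : b ∈ K) : ρ b (∑ a : K, ρ (a : Γ) v) = ∑ a : K, ρ (a : Γ) v := by
  rw [map_sum]
  refine Fintype.sum_equiv (Equiv.mulLeft (⟨b, hb⟩ : K)) _ _ ?_
  intro a
  show ρ b (ρ (a : Γ) v) = ρ (((⟨b, hb⟩ : K) * a : K) : Γ) v
  rw [Subgroup.coe_mul, map_mul]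
  rfl

/-- the stabiliser in `F ⊔ H` of a weight is not trivial, so it contains `F` or a complement -/
theorem Hyp.tri [Finite Γ] (hyp : Hyp ρ F H Q R p q s t) (M : Subgroup Γ)
    (hFM : F ≤ Subgroup.normalizer (M : Set Γ)) (hHM : H ≤ Subgroup.normalizer (M : Set Γ))
    (lam : Γ → k) (hlam : wsp ρ M lam ≠ ⊥) :
    (∀ f ∈ F, FixesOn M f lam) ∨ ∃ f ∈ F, ∀ h ∈ H, FixesOn M (f * h * f⁻¹) lam := by
  classical
  haveI : Fintype ↥(F ⊔ H) := Fintype.ofFinite _
  have hAM : F ⊔ H ≤ Subgroup.normalizer (M : Set Γ) := sup_le hFM hHM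
  have hex : ∃ a ∈ F ⊔ H, a ≠ 1 ∧ FixesOn M a lam := by
    by_contra hcon
    push_neg at hcon
    obtain ⟨v, hv, hv0⟩ := (Submodule.ne_bot_iff _).mp hlam
    apply hv0
    apply fpqtri_sum ρ M (F ⊔ H) hAM lam
      (fun a ha hfa => by_contra fun hne => hcon a ha hne hfa) v hv
    have hw : ∑ a : ↥(F ⊔ H), ρ (a : Γ) v ∈ fixedBy ρ F ⊓ fixedBy ρ H := by
      refine Submodule.mem_inf.2 ⟨?_, ?_⟩
      · rw [mem_fixedBy]
        intro f hf
        exact fpqtri_sum_fixed ρ _ v f (Subgroup.mem_sup_left hf)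
      · rw [mem_fixedBy]
        intro h hh
        exact fpqtri_sum_fixed ρ _ v h (Subgroup.mem_sup_right hh)
    rw [hyp.fix] at hw
    exact (Submodule.mem_bot k).1 hw
  obtain ⟨a, haA, ha1, hfa⟩ := hex
  rcases hyp.apq a haA with haF | ⟨f, hf, h, hh, hh1, rfl⟩
  · left
    intro f' hf'
    obtain ⟨n, rfl⟩ := hyp.F_gen a haF ha1 f' hf'
    exact fpqtri_fixes_pow (hAM haA) hfa n
  · right
    refine ⟨f, hf, fun h' hh' => ?_⟩
    obtain ⟨n, rfl⟩ := hyp.H_gen h hh hh1 h' hh'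
    have e : f * h ^ n * f⁻¹ = (f * h * f⁻¹) ^ n := (conj_pow).symm
    rw [e]
    exact fpqtri_fixes_pow (hAM haA) hfa n

/-- if no non-trivial element of `H` fixes the weight, `F` has no fixed vector in its weight
space -/
theorem Hyp.wsp_fixF [Finite Γ] (hyp : Hyp ρ F H Q R p q s t) (M : Subgroup Γ)
    (hFM : F ≤ Subgroup.normalizer (M : Set Γ)) (hHM : H ≤ Subgroup.normalizer (M : Set Γ))
    (lam : Γ → k) (hH : ∀ h ∈ H, FixesOn M h lam → h = 1) :
    wsp ρ M lam ⊓ fixedBy ρ F = ⊥ := by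
  classical
  haveI : Fintype ↥H := Fintype.ofFinite _
  rw [eq_bot_iff]
  rintro v ⟨hv, hvF⟩
  rw [Submodule.mem_bot]
  have hvF' := (mem_fixedBy ρ F v).1 hvF
  apply fpqtri_sum ρ M H hHM lam hH v hv
  have hw : ∑ a : ↥H, ρ (a : Γ) v ∈ fixedBy ρ F ⊓ fixedBy ρ H := by
    refine Submodule.mem_inf.2 ⟨?_, ?_⟩
    · rw [mem_fixedBy]
      intro f hf
      rw [map_sum]
      apply Finset.sum_congr rfl
      intro a _
      have h1 : (a : Γ)⁻¹ * f * (a : Γ) ∈ F := by
        have h2 : (a : Γ)⁻¹ ∈ Subgroup.normalizer (F : Set Γ) := inv_mem (hyp.HF a.2)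
        have h3 := (Subgroup.mem_normalizer_iff.1 h2 f).1 hf
        rwa [inv_inv] at h3
      have e : f * (a : Γ) = (a : Γ) * ((a : Γ)⁻¹ * f * (a : Γ)) := by group
      calc ρ f (ρ (a : Γ) v) = ρ (f * (a : Γ)) v := by rw [map_mul]; rfl
        _ = ρ ((a : Γ) * ((a : Γ)⁻¹ * f * (a : Γ))) v := by rw [← e]
        _ = ρ (a : Γ) (ρ ((a : Γ)⁻¹ * f * (a : Γ)) v) := by rw [map_mul]; rfl
        _ = ρ (a : Γ) v := by rw [hvF' _ h1]
    · rw [mem_fixedBy]
      intro h hh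
      exact fpqtri_sum_fixed ρ H v h hh
  rw [hyp.fix] at hw
  exact (Submodule.mem_bot k).1 hw

/-- if no non-trivial element of `F` fixes the weight, `H` has no fixed vector in its weight
space -/
theorem Hyp.wsp_fixH [Finite Γ] (hyp : Hyp ρ F H Q R p q s t) (M : Subgroup Γ)
    (hFM : F ≤ Subgroup.normalizer (M : Set Γ)) (hHM : H ≤ Subgroup.normalizer (M : Set Γ))
    (lam : Γ → k) (hF : ∀ f ∈ F, FixesOn M f lam → f = 1) :
    wsp ρ M lam ⊓ fixedBy ρ H = ⊥ := by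
  classical
  haveI : Fintype ↥F := Fintype.ofFinite _
  rw [eq_bot_iff]
  rintro v ⟨hv, hvH⟩
  rw [Submodule.mem_bot]
  have hvH' := (mem_fixedBy ρ H v).1 hvH
  apply fpqtri_sum ρ M F hFM lam hF v hv
  have hw : ∑ a : ↥F, ρ (a : Γ) v ∈ fixedBy ρ F ⊓ fixedBy ρ H := by
    refine Submodule.mem_inf.2 ⟨?_, ?_⟩
    · rw [mem_fixedBy]
      intro f hf
      exact fpqtri_sum_fixed ρ F v f hf
    · rw [mem_fixedBy]
      intro h hh
      rw [map_sum]
      have hconj : ∀ a : ↥F, h * (a : Γ) * h⁻¹ ∈ F := fun a =>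
        (Subgroup.mem_normalizer_iff.1 (hyp.HF hh) a).1 a.2
      have he : Function.Bijective (fun a : ↥F => (⟨h * (a : Γ) * h⁻¹, hconj a⟩ : ↥F)) := by
        apply Finite.injective_iff_bijective.1
        intro a b hab
        apply Subtype.ext
        have h2 := congrArg Subtype.val hab
        simpa using h2
      refine Fintype.sum_bijective _ he _ _ ?_
      intro a
      show ρ h (ρ (a : Γ) v) = ρ (h * (a : Γ) * h⁻¹) v
      have e : h * (a : Γ) = (h * (a : Γ) * h⁻¹) * h := by group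
      calc ρ h (ρ (a : Γ) v) = ρ (h * (a : Γ)) v := by rw [map_mul]; rfl
        _ = ρ ((h * (a : Γ) * h⁻¹) * h) v := by rw [← e]
        _ = ρ (h * (a : Γ) * h⁻¹) (ρ h v) := by rw [map_mul]; rfl
        _ = ρ (h * (a : Γ) * h⁻¹) v := by rw [hvH' h hh]
  rw [hyp.fix] at hw
  exact (Submodule.mem_bot k).1 hw

end Cfsg.Agent.Helper4.FPQ
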