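import Mathlib
import Cfsg.Agent.Lib.FPQ.FPQSetup
import Cfsg.Agent.Lib.FPQ.FPQRzero
import Cfsg.Agent.Lib.FPQ.FPQApq

/-! S4306 design (helper4), Theorem L: piece FPQ-TYPE.  The dichotomy TypeI / TypeII and the generation statements for R.
Proof by helper19. -/

set_option autoImplicit false
set_option linter.unusedSectionVars false

namespace Cfsg.Agent.Helper4.FPQ

open Module Cfsg.Agent.Helper8.FrobLin

universe u v w

variable {k : Type w} [Field k] {Γ : Type u} [Group Γ] {V : Type v} [AddCommGroup V]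
  [Module k V] {ρ : Representation k Γ V} {F H Q R : Subgroup Γ} {p q s t : ℕ}

/-- normaliser membership from the two one-sided conjugation conditions -/
theorem fpq_type_mem_normalizer {K : Subgroup Γ} {a : Γ} (h1 : ∀ y ∈ K, a * y * a⁻¹ ∈ K)
    (h2 : ∀ y ∈ K, a⁻¹ * y * a ∈ K) : a ∈ Subgroup.normalizer (K : Set Γ) := by
  rw [Subgroup.mem_normalizer_iff]
  intro y
  constructor
  · exact h1 y
  · intro hy
    have h3 := h2 _ hy
    have e : a⁻¹ * (a * y * a⁻¹) * a = y := by group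
    rwa [e] at h3

theorem fpq_type_conj_mem {K : Subgroup Γ} {γ : Γ} (hγ : γ ∈ Subgroup.normalizer (K : Set Γ))
    {y : Γ} (hy : y ∈ K) : γ * y * γ⁻¹ ∈ K :=
  (Subgroup.mem_normalizer_iff.mp hγ y).mp hy

theorem fpq_type_conj_mem' {K : Subgroup Γ} {γ : Γ} (hγ : γ ∈ Subgroup.normalizer (K : Set Γ))
    {y : Γ} (hy : y ∈ K) : γ⁻¹ * y * γ ∈ K := by
  have h2 : γ⁻¹ ∈ Subgroup.normalizer (K : Set Γ) := Subgroup.inv_mem _ hγ
  have h3 := (Subgroup.mem_normalizer_iff.mp h2 y).mp hy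
  rwa [inv_inv] at h3

/-- a subgroup of `R` containing `⁅R, A⁆` is normalised by `A` -/
theorem fpq_type_le_normalizer {K A R : Subgroup Γ} (hKR : K ≤ R) (hc : ⁅R, A⁆ ≤ K) :
    A ≤ Subgroup.normalizer (K : Set Γ) := by
  have key : ∀ b ∈ A, ∀ y ∈ K, b * y * b⁻¹ ∈ K := by
    intro b hb y hy
    have h1 : y * b * y⁻¹ * b⁻¹ ∈ K := hc (Subgroup.commutator_mem_commutator (hKR hy) hb)
    have e : b * y * b⁻¹ = (y * b * y⁻¹ * b⁻¹)⁻¹ * y := by group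
    rw [e]
    exact K.mul_mem (K.inv_mem h1) hy
  intro a ha
  apply fpq_type_mem_normalizer (key a ha)
  intro y hy
  have := key a⁻¹ (A.inv_mem ha) y hy
  rwa [inv_inv] at this

theorem fpq_type_normalizer_sup {A B : Subgroup Γ} {a : Γ}
    (hA : a ∈ Subgroup.normalizer (A : Set Γ)) (hB : a ∈ Subgroup.normalizer (B : Set Γ)) :
    a ∈ Subgroup.normalizer ((A ⊔ B : Subgroup Γ) : Set Γ) := by
  rw [Subgroup.mem_normalizer_iff_map_conj_eq] at hA hB ⊢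
  rw [Subgroup.map_sup, hA, hB]

theorem fpq_type_normalizer_comm {A B : Subgroup Γ} {a : Γ}
    (hA : a ∈ Subgroup.normalizer (A : Set Γ)) (hB : a ∈ Subgroup.normalizer (B : Set Γ)) :
    a ∈ Subgroup.normalizer ((⁅A, B⁆ : Subgroup Γ) : Set Γ) := by
  rw [Subgroup.mem_normalizer_iff_map_conj_eq] at hA hB ⊢
  rw [Subgroup.map_commutator, hA, hB]

/-- `C_R(Q)` is normalised by `R ⊔ F ⊔ H` -/
theorem fpq_type_R0_normalizer (M : MinCE ρ F H Q R p q s t) :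
    R ⊔ F ⊔ H ≤ Subgroup.normalizer (R0 Q R : Set Γ) := by
  intro γ hγ
  apply fpq_type_mem_normalizer (M.R0_conj γ hγ)
  intro y hy
  have := M.R0_conj γ⁻¹ (Subgroup.inv_mem _ hγ) y hy
  rwa [inv_inv] at this

theorem fpq_type_R_le (R F H : Subgroup Γ) : R ≤ R ⊔ F ⊔ H :=
  le_sup_left.trans le_sup_left

theorem fpq_type_F_le (R F H : Subgroup Γ) : F ≤ R ⊔ F ⊔ H :=
  le_sup_right.trans le_sup_left

theorem fpq_type_H_le (R F H : Subgroup Γ) : H ≤ R ⊔ F ⊔ H := le_sup_right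

/-- the subgroup of `R` on which `F` acts trivially modulo `C_R(Q)` -/
def fpq_type_R1 (M : MinCE ρ F H Q R p q s t) : Subgroup Γ where
  carrier := {x | x ∈ R ∧ ∀ f ∈ F, x⁻¹ * (f * x * f⁻¹) ∈ R0 Q R}
  one_mem' := by
    refine ⟨R.one_mem, ?_⟩
    intro f _
    have e : (1 : Γ)⁻¹ * (f * 1 * f⁻¹) = 1 := by group
    rw [e]
    exact (R0 Q R).one_mem
  mul_mem' := by
    rintro x y ⟨hx, hx'⟩ ⟨hy, hy'⟩
    refine ⟨R.mul_mem hx hy, ?_⟩
    intro f hf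
    have e : (x * y)⁻¹ * (f * (x * y) * f⁻¹) =
        (y⁻¹ * (x⁻¹ * (f * x * f⁻¹)) * y⁻¹⁻¹) * (y⁻¹ * (f * y * f⁻¹)) := by group
    rw [e]
    apply (R0 Q R).mul_mem _ (hy' f hf)
    exact M.R0_conj y⁻¹ (fpq_type_R_le R F H (R.inv_mem hy)) _ (hx' f hf)
  inv_mem' := by
    rintro x ⟨hx, hx'⟩
    refine ⟨R.inv_mem hx, ?_⟩
    intro f hf
    have e : x⁻¹⁻¹ * (f * x⁻¹ * f⁻¹) = x * (x⁻¹ * (f * x * f⁻¹))⁻¹ * x⁻¹ := by group
    rw [e]
    exact M.R0_conj x (fpq_type_R_le R F H hx) _ ((R0 Q R).inv_mem (hx' f hf))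

theorem fpq_type_mem_R1 (M : MinCE ρ F H Q R p q s t) (x : Γ) :
    x ∈ fpq_type_R1 M ↔ x ∈ R ∧ ∀ f ∈ F, x⁻¹ * (f * x * f⁻¹) ∈ R0 Q R := Iff.rfl

/-- invariance of `R1` under an element normalising `R` and `F` -/
theorem fpq_type_R1_conj (M : MinCE ρ F H Q R p q s t) {a : Γ} (haR : a ∈ Subgroup.normalizer (R : Set Γ))
    (haF : a ∈ Subgroup.normalizer (F : Set Γ)) (ha : a ∈ R ⊔ F ⊔ H) :
    ∀ x ∈ fpq_type_R1 M, a * x * a⁻¹ ∈ fpq_type_R1 M := by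
  rintro x ⟨hx, hx'⟩
  refine ⟨fpq_type_conj_mem haR hx, ?_⟩
  intro f hf
  have hf' : a⁻¹ * f * a ∈ F := fpq_type_conj_mem' haF hf
  have e : (a * x * a⁻¹)⁻¹ * (f * (a * x * a⁻¹) * f⁻¹) =
      a * (x⁻¹ * ((a⁻¹ * f * a) * x * (a⁻¹ * f * a)⁻¹)) * a⁻¹ := by group
  rw [e]
  exact M.R0_conj a ha _ (hx' _ hf')

theorem fpq_type_R1_normalizer (M : MinCE ρ F H Q R p q s t) {a : Γ}
    (haR : a ∈ Subgroup.normalizer (R : Set Γ))
    (haF : a ∈ Subgroup.normalizer (F : Set Γ)) (ha : a ∈ R ⊔ F ⊔ H) :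
    a ∈ Subgroup.normalizer (fpq_type_R1 M : Set Γ) := by
  apply fpq_type_mem_normalizer (fpq_type_R1_conj M haR haF ha)
  intro y hy
  have := fpq_type_R1_conj M (Subgroup.inv_mem _ haR) (Subgroup.inv_mem _ haF)
    (Subgroup.inv_mem _ ha) y hy
  rwa [inv_inv] at this

theorem MinCE.type_dichotomy [Finite Γ] [FiniteDimensional k V] (M : MinCE ρ F H Q R p q s t) :
    TypeI F Q R ∨ TypeII F Q R := by
  have hyp := M.hyp
  by_cases hR1 : fpq_type_R1 M = R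
  · left
    intro x hx f hf
    rw [← hR1] at hx
    exact hx.2 f hf
  · right
    have hle : fpq_type_R1 M ≤ R := fun x hx => hx.1
    have hF : F ≤ Subgroup.normalizer (fpq_type_R1 M : Set Γ) := by
      intro a ha
      exact fpq_type_R1_normalizer M (hyp.FR ha) (Subgroup.le_normalizer ha)
        (fpq_type_F_le R F H ha)
    have hH : H ≤ Subgroup.normalizer (fpq_type_R1 M : Set Γ) := by
      intro a ha
      exact fpq_type_R1_normalizer M (hyp.HR ha) (hyp.HF ha) (fpq_type_H_le R F H ha)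
    have h0 := M.le_R0_of_proper (fpq_type_R1 M) hle hR1 hF hH
    intro x hx hxF
    exact h0 ⟨hx, hxF⟩

/-- the elements of `F ⊔ H` acting trivially on `R / C_R(Q)` -/
def fpq_type_T (M : MinCE ρ F H Q R p q s t) : Subgroup Γ where
  carrier := {a | a ∈ F ⊔ H ∧ ∀ x ∈ R, x⁻¹ * (a * x * a⁻¹) ∈ R0 Q R}
  one_mem' := by
    refine ⟨Subgroup.one_mem _, ?_⟩
    intro x _
    have e : x⁻¹ * (1 * x * (1 : Γ)⁻¹) = 1 := by group
    rw [e]
    exact (R0 Q R).one_mem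
  mul_mem' := by
    rintro a b ⟨ha, ha'⟩ ⟨hb, hb'⟩
    refine ⟨Subgroup.mul_mem _ ha hb, ?_⟩
    intro x hx
    have e : x⁻¹ * (a * b * x * (a * b)⁻¹) =
        (x⁻¹ * (a * x * a⁻¹)) * (a * (x⁻¹ * (b * x * b⁻¹)) * a⁻¹) := by group
    rw [e]
    apply (R0 Q R).mul_mem (ha' x hx)
    have haΓ : a ∈ R ⊔ F ⊔ H := by
      have h1 : F ⊔ H ≤ R ⊔ F ⊔ H := sup_le (fpq_type_F_le R F H) (fpq_type_H_le R F H)
      exact h1 ha
    exact M.R0_conj a haΓ _ (hb' x hx)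
  inv_mem' := by
    rintro a ⟨ha, ha'⟩
    refine ⟨Subgroup.inv_mem _ ha, ?_⟩
    intro x hx
    have hyp := M.hyp
    have hN : F ⊔ H ≤ Subgroup.normalizer (R : Set Γ) := sup_le hyp.FR hyp.HR
    have hx' : a⁻¹ * x * a ∈ R := fpq_type_conj_mem' (hN ha) hx
    have h1 := ha' _ hx'
    have e : x⁻¹ * (a⁻¹ * x * a⁻¹⁻¹) =
        ((a⁻¹ * x * a)⁻¹ * (a * (a⁻¹ * x * a) * a⁻¹))⁻¹ := by group
    rw [e]
    exact (R0 Q R).inv_mem h1

/-- if `⁅R, B⁆ ≤ C_R(Q)` for a subgroup `B ≤ F ⊔ H` then `B ≤ T` -/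
theorem fpq_type_le_T (M : MinCE ρ F H Q R p q s t) {B : Subgroup Γ} (hB : B ≤ F ⊔ H)
    (hc : ⁅R, B⁆ ≤ R0 Q R) : B ≤ fpq_type_T M := by
  intro b hb
  refine ⟨hB hb, ?_⟩
  intro x hx
  have h1 : x⁻¹ * b * x⁻¹⁻¹ * b⁻¹ ∈ R0 Q R :=
    hc (Subgroup.commutator_mem_commutator (R.inv_mem hx) hb)
  have e : x⁻¹ * (b * x * b⁻¹) = x⁻¹ * b * x⁻¹⁻¹ * b⁻¹ := by group
  rw [e]
  exact h1

/-- `R = [R,H] [R, f H f⁻¹] C_R(Q)` for `1 ≠ f ∈ F` -/
theorem MinCE.rgen [Finite Γ] [FiniteDimensional k V] (M : MinCE ρ F H Q R p q s t) :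
    ∀ f ∈ F, f ≠ 1 → R ≤ ⁅R, H⁆ ⊔ ⁅R, H.map (MulAut.conj f).toMonoidHom⁆ ⊔ R0 Q R := by
  intro f hf hf1
  have hyp := M.hyp
  set Hf : Subgroup Γ := H.map (MulAut.conj f).toMonoidHom with hHf
  set R3 : Subgroup Γ := ⁅R, H⁆ ⊔ ⁅R, Hf⁆ ⊔ R0 Q R with hR3
  -- `Hf` normalises `R` and lies in `F ⊔ H`
  have hHfN : Hf ≤ Subgroup.normalizer (R : Set Γ) := by
    rintro _ ⟨h, hh, rfl⟩
    show f * h * f⁻¹ ∈ Subgroup.normalizer (R : Set Γ)
    exact Subgroup.mul_mem _ (Subgroup.mul_mem _ (hyp.FR hf) (hyp.HR hh))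
      (Subgroup.inv_mem _ (hyp.FR hf))
  have hHfA : Hf ≤ F ⊔ H := by
    rintro _ ⟨h, hh, rfl⟩
    show f * h * f⁻¹ ∈ F ⊔ H
    exact Subgroup.mul_mem _ (Subgroup.mul_mem _ (Subgroup.mem_sup_left hf)
      (Subgroup.mem_sup_right hh)) (Subgroup.inv_mem _ (Subgroup.mem_sup_left hf))
  have hcomm_le : ∀ B : Subgroup Γ, B ≤ Subgroup.normalizer (R : Set Γ) → ⁅R, B⁆ ≤ R := by
    intro B hB
    rw [Subgroup.commutator_le]
    intro r hr b hb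
    have h1 : b * r⁻¹ * b⁻¹ ∈ R := fpq_type_conj_mem (hB hb) (R.inv_mem hr)
    have e : r * b * r⁻¹ * b⁻¹ = r * (b * r⁻¹ * b⁻¹) := by group
    show r * b * r⁻¹ * b⁻¹ ∈ R
    rw [e]
    exact R.mul_mem hr h1
  have hR3R : R3 ≤ R :=
    sup_le (sup_le (hcomm_le H hyp.HR) (hcomm_le Hf hHfN)) (R0_le Q R)
  have hH3 : H ≤ Subgroup.normalizer (R3 : Set Γ) :=
    fpq_type_le_normalizer hR3R (le_sup_left.trans le_sup_left)
  have hHf3 : Hf ≤ Subgroup.normalizer (R3 : Set Γ) :=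
    fpq_type_le_normalizer hR3R (le_sup_right.trans le_sup_left)
  have hA3 : F ⊔ H ≤ Subgroup.normalizer (R3 : Set Γ) :=
    (hyp.gen_of_conj f hf hf1).trans (sup_le hH3 hHf3)
  by_contra hnot
  have hne : R3 ≠ R := fun h => hnot (le_of_eq h.symm)
  have h0 := M.le_R0_of_proper R3 hR3R hne (le_sup_left.trans hA3) (le_sup_right.trans hA3)
  have hT1 : H ≤ fpq_type_T M :=
    fpq_type_le_T M le_sup_right ((le_sup_left.trans le_sup_left).trans h0)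
  have hT2 : Hf ≤ fpq_type_T M :=
    fpq_type_le_T M hHfA ((le_sup_right.trans le_sup_left).trans h0)
  have hT : F ⊔ H ≤ fpq_type_T M := (hyp.gen_of_conj f hf hf1).trans (sup_le hT1 hT2)
  obtain ⟨x, hx, hx0⟩ := M.exists_not_mem_R0
  apply hx0
  apply M.fpf_R0 x hx
  · intro f' hf'
    exact (hT (Subgroup.mem_sup_left hf')).2 x hx
  · intro h' hh'
    exact (hT (Subgroup.mem_sup_right hh')).2 x hx

/-- `R = [R,F] C_R(Q)` in type II -/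
theorem MinCE.rgenF [Finite Γ] [FiniteDimensional k V] (M : MinCE ρ F H Q R p q s t)
    (h2 : TypeII F Q R) : R ≤ ⁅R, F⁆ ⊔ R0 Q R := by
  have hyp := M.hyp
  have hcomm_le : ⁅R, F⁆ ≤ R := by
    rw [Subgroup.commutator_le]
    intro r hr b hb
    have h1 : b * r⁻¹ * b⁻¹ ∈ R := fpq_type_conj_mem (hyp.FR hb) (R.inv_mem hr)
    have e : r * b * r⁻¹ * b⁻¹ = r * (b * r⁻¹ * b⁻¹) := by group
    show r * b * r⁻¹ * b⁻¹ ∈ R
    rw [e]
    exact R.mul_mem hr h1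
  have hR4R : ⁅R, F⁆ ⊔ R0 Q R ≤ R := sup_le hcomm_le (R0_le Q R)
  have hF4 : F ≤ Subgroup.normalizer ((⁅R, F⁆ ⊔ R0 Q R : Subgroup Γ) : Set Γ) :=
    fpq_type_le_normalizer hR4R le_sup_left
  have hH4 : H ≤ Subgroup.normalizer ((⁅R, F⁆ ⊔ R0 Q R : Subgroup Γ) : Set Γ) := by
    intro h hh
    apply fpq_type_normalizer_sup
    · exact fpq_type_normalizer_comm (hyp.HR hh) (hyp.HF hh)
    · exact fpq_type_R0_normalizer M (fpq_type_H_le R F H hh)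
  by_contra hnot
  have hne : ⁅R, F⁆ ⊔ R0 Q R ≠ R := fun h => hnot (le_of_eq h.symm)
  have h0 := M.le_R0_of_proper _ hR4R hne hF4 hH4
  obtain ⟨x, hx, hx0⟩ := M.exists_not_mem_R0
  apply hx0
  apply h2 x hx
  intro f hf
  have h1 : x⁻¹ * f * x⁻¹⁻¹ * f⁻¹ ∈ R0 Q R :=
    (le_sup_left.trans h0) (Subgroup.commutator_mem_commutator (R.inv_mem hx) hf)
  have e : x⁻¹ * (f * x * f⁻¹) = x⁻¹ * f * x⁻¹⁻¹ * f⁻¹ := by group
  rw [e]
  exact h1

end Cfsg.Agent.Helper4.FPQ
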