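import Mathlib
import Cfsg.Agent.Lib.FPQ.FPQSetup
import Cfsg.Agent.Lib.FPQ.FPQComm
import Cfsg.Agent.Lib.FPQ.FPQNormal

/-! S4306 design (helper4), Theorem L: piece FPQ-WNF.  No weight of a non-trivial normal subgroup Z ≤ Q is fixed by all of A.
Proof by helper19. -/

set_option autoImplicit false
set_option linter.unusedSectionVars false

namespace Cfsg.Agent.Helper4.FPQ

open Module Cfsg.Agent.Helper8.FrobLin

universe u v w

variable {k : Type w} [Field k] {Γ : Type u} [Group Γ] {V : Type v} [AddCommGroup V]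
  [Module k V] {ρ : Representation k Γ V} {F H Q R : Subgroup Γ} {p q s t : ℕ}

/-- the elements fixing the weight `lam` of the normal subgroup `Z` -/
def fpq_wnf_stab (Z : Subgroup Γ) [hZ : Z.Normal] (lam : Γ → k) : Subgroup Γ where
  carrier := {a | FixesOn Z a lam}
  one_mem' := by
    intro g _
    simp
  mul_mem' := by
    intro a b ha hb g hg
    have h1 : a⁻¹ * g * a ∈ Z := by
      have := hZ.conj_mem g hg a⁻¹
      rwa [inv_inv] at this
    have e : (a * b)⁻¹ * g * (a * b) = b⁻¹ * (a⁻¹ * g * a) * b := by group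
    rw [e, hb _ h1, ha g hg]
  inv_mem' := by
    intro a ha g hg
    have h1 : a * g * a⁻¹ ∈ Z := hZ.conj_mem g hg a
    have h2 := ha _ h1
    have e : a⁻¹ * (a * g * a⁻¹) * a = g := by group
    rw [e] at h2
    rw [inv_inv]
    exact h2.symm

theorem fpq_wnf_mem_stab (Z : Subgroup Γ) [Z.Normal] (lam : Γ → k) (a : Γ) :
    a ∈ fpq_wnf_stab Z lam ↔ FixesOn Z a lam := Iff.rfl

/-- the kernel of a weight -/
def fpq_wnf_ker (Z : Subgroup Γ) (lam : Γ → k)
    (hmul : ∀ a ∈ Z, ∀ b ∈ Z, lam (a * b) = lam a * lam b) (hone : lam 1 = 1) : Subgroup Γ where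
  carrier := {g | g ∈ Z ∧ lam g = 1}
  one_mem' := ⟨Z.one_mem, hone⟩
  mul_mem' := by
    rintro a b ⟨ha, ha1⟩ ⟨hb, hb1⟩
    exact ⟨Z.mul_mem ha hb, by rw [hmul a ha b hb, ha1, hb1, one_mul]⟩
  inv_mem' := by
    rintro a ⟨ha, ha1⟩
    refine ⟨Z.inv_mem ha, ?_⟩
    have h1 := hmul a⁻¹ (Z.inv_mem ha) a ha
    rw [inv_mul_cancel, hone, ha1, mul_one] at h1
    exact h1.symm

theorem MinCE.wt_not_fixed [Finite Γ] (M : MinCE ρ F H Q R p q s t) (Z : Subgroup Γ)
    (hZQ : Z ≤ Q) [Z.Normal] (hZ1 : Z ≠ ⊥) (lam : Γ → k) (hlam : wsp ρ Z lam ≠ ⊥)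
    (hF : ∀ f ∈ F, FixesOn Z f lam) (hH : ∀ h ∈ H, FixesOn Z h lam) : False := by
  have hZn : Z.Normal := inferInstance
  have hmul := wt_mul hlam
  have hone := wt_one hlam
  have hNtop : Subgroup.normalizer (Z : Set Γ) = ⊤ := Subgroup.normalizer_eq_top_iff.2 hZn
  -- `F ⊔ H` fixes `lam`
  have hA : F ⊔ H ≤ fpq_wnf_stab Z lam :=
    sup_le (fun f hf => hF f hf) (fun h hh => hH h hh)
  -- `lam` is trivial on `⁅Z, F ⊔ H⁆`
  have hcomm : ⁅Z, F ⊔ H⁆ ≤ fpq_wnf_ker Z lam hmul hone := by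
    rw [Subgroup.commutator_le]
    intro z hz a ha
    have h1 : a * z⁻¹ * a⁻¹ ∈ Z := hZn.conj_mem _ (Z.inv_mem hz) a
    have e : z * a * z⁻¹ * a⁻¹ = z * (a * z⁻¹ * a⁻¹) := by group
    show z * a * z⁻¹ * a⁻¹ ∈ fpq_wnf_ker Z lam hmul hone
    rw [e]
    refine ⟨Z.mul_mem hz h1, ?_⟩
    rw [hmul z hz _ h1]
    have h2 : FixesOn Z a⁻¹ lam := (fpq_wnf_stab Z lam).inv_mem (hA ha)
    have h3 := h2 z⁻¹ (Z.inv_mem hz)
    rw [inv_inv] at h3
    rw [h3, ← hmul z hz _ (Z.inv_mem hz), mul_inv_cancel, hone]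
  have hle := M.le_comm_A Z hZQ (by rw [hNtop]; exact le_top) (by rw [hNtop]; exact le_top)
  have hlam1 : ∀ z ∈ Z, lam z = 1 := fun z hz => (hcomm (hle hz)).2
  -- the weight space is `Γ`-invariant
  have hinv : ∀ γ : Γ, ∀ u ∈ wsp ρ Z lam, ρ γ u ∈ wsp ρ Z lam := by
    intro γ u hu
    have hγ : γ ∈ Subgroup.normalizer (Z : Set Γ) := by rw [hNtop]; exact Subgroup.mem_top γ
    have h1 := rho_mem_wsp_cj hγ hu
    have h2 : wsp ρ Z (cj γ lam) = wsp ρ Z lam := by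
      apply wsp_congr
      intro g hg
      have h3 : γ⁻¹ * g * γ ∈ Z := by
        have := hZn.conj_mem g hg γ⁻¹
        rwa [inv_inv] at this
      rw [cj_apply, hlam1 _ h3, hlam1 g hg]
    rwa [h2] at h1
  rcases M.irr _ hinv with h | h
  · exact hlam h
  · apply hZ1
    rw [Subgroup.eq_bot_iff_forall]
    intro z hz
    apply M.faithful z (Subgroup.mem_sup_left (hZQ hz))
    apply LinearMap.ext
    intro v
    have hv : v ∈ wsp ρ Z lam := by rw [h]; exact Submodule.mem_top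
    have := hv z hz
    rw [hlam1 z hz, one_smul] at this
    rw [this]
    rfl

end Cfsg.Agent.Helper4.FPQ
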