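import Mathlib
import Cfsg.Agent.Lib.FPQ.FPQSetup
import Cfsg.Agent.Lib.FPQ.FPQWspan
import Cfsg.Agent.Lib.FPQ.FPQNormal
import Cfsg.Agent.Lib.FPQ.FPQTri
import Cfsg.Agent.Lib.FPQ.FPQLift
import Cfsg.Agent.Lib.FPQ.FPQType
import Cfsg.Agent.Lib.FPQ.FPQWnf

/-! S4306 design (helper4), Theorem L: piece FPQ-ABB.  Abelian branch, case (b): an F-fixed weight in type II. -/

set_option autoImplicit false
set_option linter.unusedSectionVars false

namespace Cfsg.Agent.Helper4.FPQ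

open Module Cfsg.Agent.Helper8.FrobLin

universe u v w

variable {k : Type w} [Field k] {Γ : Type u} [Group Γ] {V : Type v} [AddCommGroup V]
  [Module k V] {ρ : Representation k Γ V} {F H Q R : Subgroup Γ} {p q s t : ℕ}

/-- the stabiliser of a weight of a normal subgroup -/
def fpq_abb_stab (Q : Subgroup Γ) [hQ : Q.Normal] (lam : Γ → k) : Subgroup Γ where
  carrier := {γ | ∀ g ∈ Q, lam (γ⁻¹ * g * γ) = lam g}
  one_mem' := by
    intro g _
    simp
  mul_mem' := by
    intro a b ha hb g hg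
    have h1 : a⁻¹ * g * a ∈ Q := by
      have := hQ.conj_mem g hg a⁻¹
      rwa [inv_inv] at this
    have e : (a * b)⁻¹ * g * (a * b) = b⁻¹ * (a⁻¹ * g * a) * b := by group
    rw [e, hb _ h1, ha g hg]
  inv_mem' := by
    intro a ha g hg
    have h1 : a * g * a⁻¹ ∈ Q := hQ.conj_mem g hg a
    have h2 := ha _ h1
    have e : a⁻¹ * (a * g * a⁻¹) * a = g := by group
    rw [e] at h2
    rw [inv_inv]
    exact h2.symm

theorem fpq_abb_mem_stab {Q : Subgroup Γ} [hQ : Q.Normal] {lam : Γ → k} {γ : Γ} :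
    γ ∈ fpq_abb_stab Q lam ↔ FixesOn Q γ lam := Iff.rfl

/-- `a` fixes the conjugate weight `cj x lam` iff `x⁻¹ a x` fixes `lam` -/
theorem fpq_abb_fixes_cj {Q : Subgroup Γ} [hQ : Q.Normal] {lam : Γ → k} (a x : Γ) :
    FixesOn Q a (cj x lam) ↔ x⁻¹ * a * x ∈ fpq_abb_stab Q lam := by
  constructor
  · intro h g hg
    have h1 : x * g * x⁻¹ ∈ Q := hQ.conj_mem g hg x
    have h2 := h _ h1
    rw [cj_apply, cj_apply] at h2
    have e1 : x⁻¹ * (a⁻¹ * (x * g * x⁻¹) * a) * x = (x⁻¹ * a * x)⁻¹ * g * (x⁻¹ * a * x) := by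
      group
    have e2 : x⁻¹ * (x * g * x⁻¹) * x = g := by group
    rw [e1, e2] at h2
    exact h2
  · intro h g hg
    have h1 : x⁻¹ * g * x ∈ Q := by
      have := hQ.conj_mem g hg x⁻¹
      rwa [inv_inv] at this
    have h2 := h _ h1
    rw [cj_apply, cj_apply]
    have e1 : x⁻¹ * (a⁻¹ * g * a) * x = (x⁻¹ * a * x)⁻¹ * (x⁻¹ * g * x) * (x⁻¹ * a * x) := by
      group
    rw [e1]
    exact h2

/-- the conjugate of a weight is a weight -/
theorem fpq_abb_wsp_cj_ne_bot {Q : Subgroup Γ} [hQ : Q.Normal] {lam : Γ → k}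
    (hlam : wsp ρ Q lam ≠ ⊥) (x : Γ) : wsp ρ Q (cj x lam) ≠ ⊥ := by
  obtain ⟨v, hv, hv0⟩ := (Submodule.ne_bot_iff _).mp hlam
  rw [Submodule.ne_bot_iff]
  have hx : x ∈ Subgroup.normalizer (Q : Set Γ) := by
    rw [Subgroup.normalizer_eq_top]
    exact Subgroup.mem_top x
  refine ⟨ρ x v, rho_mem_wsp_cj hx hv, ?_⟩
  intro h0
  apply hv0
  have := rho_inv_apply ρ x v
  rw [h0, map_zero] at this
  exact this.symm

theorem fpq_abb_conj_mem {N : Subgroup Γ} {γ g : Γ}
    (hγ : γ ∈ Subgroup.normalizer (N : Set Γ)) (hg : g ∈ N) : γ * g * γ⁻¹ ∈ N :=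
  (Subgroup.mem_normalizer_iff.mp hγ g).mp hg

theorem MinCE.ab_caseB [Finite Γ] [FiniteDimensional k V] (M : MinCE ρ F H Q R p q s t)
    (hab : ∀ a ∈ Q, ∀ b ∈ Q, a * b = b * a) (h2 : TypeII F Q R) (lam : Γ → k)
    (hlam : wsp ρ Q lam ≠ ⊥) (hF : ∀ f ∈ F, FixesOn Q f lam) : False := by
  have hyp := M.hyp
  haveI hQn : Q.Normal := M.Q_normal
  haveI hQRn : (Q ⊔ R).Normal := M.QR_normal
  -- the stabiliser
  let S : Subgroup Γ := fpq_abb_stab Q lam
  have hFS : F ≤ S := fun f hf => hF f hf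
  have hcentS : ∀ γ : Γ, (∀ g ∈ Q, g * γ = γ * g) → γ ∈ S := by
    intro γ hγ g hg
    have e : γ⁻¹ * g * γ = g := by
      rw [mul_assoc, hγ g hg]
      group
    rw [e]
  have hR0S : R0 Q R ≤ S := by
    intro y hy
    exact hcentS y (mem_R0.mp hy).2
  have hQS : Q ≤ S := by
    intro u hu
    apply hcentS
    intro g hg
    exact hab g hg u hu
  -- `F` normalises `R ⊓ S`
  have hFnorm : F ≤ Subgroup.normalizer ((R ⊓ S : Subgroup Γ) : Set Γ) := by
    intro f hf
    rw [Subgroup.mem_normalizer_iff]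
    intro g
    constructor
    · rintro ⟨hgR, hgS⟩
      exact ⟨fpq_abb_conj_mem (hyp.FR hf) hgR,
        S.mul_mem (S.mul_mem (hFS hf) hgS) (S.inv_mem (hFS hf))⟩
    · rintro ⟨hgR, hgS⟩
      have e : g = f⁻¹ * (f * g * f⁻¹) * f⁻¹⁻¹ := by group
      rw [e]
      exact ⟨fpq_abb_conj_mem (hyp.FR (F.inv_mem hf)) hgR,
        S.mul_mem (S.mul_mem (S.inv_mem (hFS hf)) hgS) (S.inv_mem (S.inv_mem (hFS hf)))⟩
  have hpRS : ¬ p ∣ Nat.card ↥(R ⊓ S : Subgroup Γ) := by
    intro hd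
    exact M.not_dvd_R.1 (hd.trans (Subgroup.card_dvd_of_le inf_le_left))
  -- step 1: `F` fixes every `cj x lam`, `x ∈ R`
  have step1 : ∀ x ∈ R, ∀ f ∈ F, x⁻¹ * f * x ∈ S := by
    intro x hx
    rcases hyp.tri Q hyp.FQ hyp.HQ (cj x lam) (fpq_abb_wsp_cj_ne_bot hlam x) with h1 | ⟨f', hf', h1⟩
    · intro f hf
      exact (fpq_abb_fixes_cj f x).mp (h1 f hf)
    · exfalso
      -- `H ≤ S`
      have hHS : ∀ h ∈ H, FixesOn Q h lam := by
        intro h hh
        have ha : x⁻¹ * (f' * h * f'⁻¹) * x ∈ S := (fpq_abb_fixes_cj _ x).mp (h1 h hh)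
        set a := f' * h * f'⁻¹ with hadef
        have haA : a ∈ Subgroup.normalizer (R : Set Γ) := by
          apply Subgroup.mul_mem _ (Subgroup.mul_mem _ (hyp.FR hf') (hyp.HR hh))
          exact Subgroup.inv_mem _ (hyp.FR hf')
        have haF : a ∈ Subgroup.normalizer (F : Set Γ) := by
          apply Subgroup.mul_mem _ (Subgroup.mul_mem _ (Subgroup.le_normalizer hf') (hyp.HF hh))
          exact Subgroup.inv_mem _ (Subgroup.le_normalizer hf')
        -- `y = (a x⁻¹ a⁻¹) x`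
        set y := a * x⁻¹ * a⁻¹ * x with hydef
        have hyR : y ∈ R := R.mul_mem (fpq_abb_conj_mem haA (R.inv_mem hx)) hx
        have hσ : a⁻¹ * y ∈ S := by
          have e : a⁻¹ * y = (x⁻¹ * a * x)⁻¹ := by
            rw [hydef]; group
          rw [e]
          exact S.inv_mem ha
        -- `y⁻¹ (f y f⁻¹) ∈ R ⊓ S`
        have hfix : ∀ f ∈ F, y⁻¹ * (f * y * f⁻¹) ∈ (R ⊓ S : Subgroup Γ) := by
          intro f hf
          refine ⟨R.mul_mem (R.inv_mem hyR) (fpq_abb_conj_mem (hyp.FR hf) hyR), ?_⟩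
          have hafa : a⁻¹ * f * a ∈ F := by
            have := fpq_abb_conj_mem (Subgroup.inv_mem _ haF) hf
            rwa [inv_inv] at this
          have e : y⁻¹ * (f * y * f⁻¹) =
              (a⁻¹ * y)⁻¹ * (a⁻¹ * f * a) * (a⁻¹ * y) * f⁻¹ := by group
          rw [e]
          exact S.mul_mem (S.mul_mem (S.mul_mem (S.inv_mem hσ) (hFS hafa)) hσ)
            (S.inv_mem (hFS hf))
        obtain ⟨c, hc, hcent⟩ := lift1 hyp.hp hyp.cardF hFnorm hpRS y hfix
        have hycR : y * c ∈ R := R.mul_mem hyR hc.1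
        have hyc0 : y * c ∈ R0 Q R := by
          apply h2 _ hycR
          intro f hf
          have e : (y * c)⁻¹ * (f * (y * c) * f⁻¹) = 1 := by
            rw [hcent f hf]
            group
          rw [e]
          exact Subgroup.one_mem _
        have hyS : y ∈ S := by
          have e : y = (y * c) * c⁻¹ := by group
          rw [e]
          exact S.mul_mem (hR0S hyc0) (S.inv_mem hc.2)
        have haS : a ∈ S := by
          have e : a = y * (a⁻¹ * y)⁻¹ := by group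
          rw [e]
          exact S.mul_mem hyS (S.inv_mem hσ)
        have e : h = f'⁻¹ * a * f' := by
          rw [hadef]; group
        rw [e]
        exact S.mul_mem (S.mul_mem (S.inv_mem (hFS hf')) haS) (hFS hf')
      exact M.wt_not_fixed Q le_rfl M.Q_ne_bot lam hlam hF hHS
  -- step 2: `R ≤ S`
  have hRS : R ≤ S := by
    refine (M.rgenF h2).trans (sup_le ?_ hR0S)
    rw [Subgroup.commutator_le]
    intro x hx f hf
    have h1 := step1 x⁻¹ (R.inv_mem hx) f hf
    rw [inv_inv] at h1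
    rw [commutatorElement_def]
    exact S.mul_mem h1 (S.inv_mem (hFS hf))
  -- step 3
  have hQRS : Q ⊔ R ≤ S := sup_le hQS hRS
  apply M.not_concl
  intro g hg x hx
  have h3 := commute_of_fixes M.irr Q lam hlam x (by
    intro γ
    rw [fpq_abb_fixes_cj]
    apply hQRS
    have := hQRn.conj_mem x (Subgroup.mem_sup_right hx) γ⁻¹
    rwa [inv_inv] at this) g hg
  exact h3.symm

end Cfsg.Agent.Helper4.FPQ
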