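import Mathlib
import Cfsg.Agent.Lib.FPQ.FPQSetup
import Cfsg.Agent.Lib.FPQ.FPQTri
import Cfsg.Agent.Lib.FPQ.FPQNormal
import Cfsg.Agent.Lib.FPQ.FPQApq

/-! S4306 design (helper4), Theorem L: piece FPQ-ABC1.  Abelian branch, case (c), orbit counting: if no weight is F-fixed and H fixes lam then H fixes every R-conjugate of lam. -/

set_option autoImplicit false
set_option linter.unusedSectionVars false

namespace Cfsg.Agent.Helper4.FPQ

open Module Cfsg.Agent.Helper8.FrobLin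

universe u v w

variable {k : Type w} [Field k] {Γ : Type u} [Group Γ] {V : Type v} [AddCommGroup V]
  [Module k V] {ρ : Representation k Γ V} {F H Q R : Subgroup Γ} {p q s t : ℕ}

/-- functions on `Γ`, carrying the conjugation action `cj` -/
def fpq_abc1_W (Γ : Type u) (k : Type w) : Type (max u w) := Γ → k

instance fpq_abc1_act : MulAction Γ (fpq_abc1_W Γ k) where
  smul γ lam := cj γ lam
  one_smul lam := cj_one lam
  mul_smul a b lam := cj_mul a b lam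

theorem fpq_abc1_smul_def (γ : Γ) (lam : fpq_abc1_W Γ k) : γ • lam = cj γ lam := rfl

open Classical in
/-- a function cut down to `Q` -/
noncomputable def fpq_abc1_mask (Q : Subgroup Γ) (lam : Γ → k) : fpq_abc1_W Γ k :=
  fun g => if g ∈ Q then lam g else 0

theorem fpq_abc1_mask_eq_iff (Q : Subgroup Γ) (lam mu : Γ → k) :
    fpq_abc1_mask Q lam = fpq_abc1_mask Q mu ↔ ∀ g ∈ Q, lam g = mu g := by
  constructor
  · intro h g hg
    have := congrFun h g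
    simpa [fpq_abc1_mask, hg] using this
  · intro h
    funext g
    by_cases hg : g ∈ Q
    · simp [fpq_abc1_mask, hg, h g hg]
    · simp [fpq_abc1_mask, hg]

theorem fpq_abc1_conj_mem {F : Subgroup Γ} {h : Γ} (hh : h ∈ Subgroup.normalizer (F : Set Γ))
    {f : Γ} (hf : f ∈ F) : h * f * h⁻¹ ∈ F :=
  (Subgroup.mem_normalizer_iff.mp hh f).mp hf

theorem fpq_abc1_conj_mem_iff {Q : Subgroup Γ} {γ : Γ}
    (hγ : γ ∈ Subgroup.normalizer (Q : Set Γ)) (g : Γ) : γ⁻¹ * g * γ ∈ Q ↔ g ∈ Q := by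
  have h1 := Subgroup.mem_normalizer_iff.mp hγ (γ⁻¹ * g * γ)
  have e : γ * (γ⁻¹ * g * γ) * γ⁻¹ = g := by group
  rw [e] at h1
  exact h1

theorem fpq_abc1_smul_mask {Q : Subgroup Γ} {γ : Γ}
    (hγ : γ ∈ Subgroup.normalizer (Q : Set Γ)) (lam : Γ → k) :
    γ • fpq_abc1_mask Q lam = fpq_abc1_mask Q (cj γ lam) := by
  funext g
  show fpq_abc1_mask Q lam (γ⁻¹ * g * γ) = fpq_abc1_mask Q (cj γ lam) g
  by_cases hg : g ∈ Q
  · have hg' : γ⁻¹ * g * γ ∈ Q := (fpq_abc1_conj_mem_iff hγ g).mpr hg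
    simp [fpq_abc1_mask, hg, hg', cj]
  · have hg' : ¬ γ⁻¹ * g * γ ∈ Q := fun h => hg ((fpq_abc1_conj_mem_iff hγ g).mp h)
    simp [fpq_abc1_mask, hg, hg']

theorem fpq_abc1_fixes_iff {Q : Subgroup Γ} {γ : Γ}
    (hγ : γ ∈ Subgroup.normalizer (Q : Set Γ)) (lam : Γ → k) :
    FixesOn Q γ lam ↔ γ • fpq_abc1_mask Q lam = fpq_abc1_mask Q lam := by
  rw [fpq_abc1_smul_mask hγ, fpq_abc1_mask_eq_iff]
  rfl

theorem fpq_abc1_wsp_cj {M : Subgroup Γ} {lam : Γ → k} {γ : Γ}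
    (hγ : γ ∈ Subgroup.normalizer (M : Set Γ)) (h : wsp ρ M lam ≠ ⊥) :
    wsp ρ M (cj γ lam) ≠ ⊥ := by
  obtain ⟨v, hv, hv0⟩ := (Submodule.ne_bot_iff _).mp h
  refine (Submodule.ne_bot_iff _).mpr ⟨ρ γ v, rho_mem_wsp_cj hγ hv, ?_⟩
  intro h0
  apply hv0
  have := rho_inv_apply ρ γ v
  rw [h0, map_zero] at this
  exact this.symm

/-- an element normalising `R` and fixing a point of an `R`-orbit maps the orbit into itself -/
theorem fpq_abc1_key {R : Subgroup Γ} (φ₀ : fpq_abc1_W Γ k) {γ : Γ}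
    (hγ : γ ∈ Subgroup.normalizer (R : Set Γ)) {y₁ : Γ} (hy₁ : y₁ ∈ R)
    (hfix : γ • (y₁ • φ₀) = y₁ • φ₀) :
    ∀ φ ∈ MulAction.orbit ↥R φ₀, γ • φ ∈ MulAction.orbit ↥R φ₀ := by
  rintro φ ⟨y, rfl⟩
  refine ⟨⟨γ * ((y : Γ) * y₁⁻¹) * γ⁻¹ * y₁, ?_⟩, ?_⟩
  · exact R.mul_mem (fpq_abc1_conj_mem hγ (R.mul_mem y.2 (R.inv_mem hy₁))) hy₁
  · show (γ * ((y : Γ) * y₁⁻¹) * γ⁻¹ * y₁) • φ₀ = γ • ((y : Γ) • φ₀)
    have e1 : (y : Γ) • φ₀ = ((y : Γ) * y₁⁻¹) • (y₁ • φ₀) := by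
      rw [smul_smul, inv_mul_cancel_right]
    rw [e1]
    have e2 : ∀ ψ : fpq_abc1_W Γ k, γ • ((y : Γ) * y₁⁻¹) • ψ
        = (γ * ((y : Γ) * y₁⁻¹) * γ⁻¹) • (γ • ψ) := by
      intro ψ
      rw [smul_smul, smul_smul]
      congr 1
      group
    rw [e2, hfix, smul_smul]

/-- the subgroup of the elements preserving a set of functions -/
def fpq_abc1_pres (O : Set (fpq_abc1_W Γ k)) : Subgroup Γ where
  carrier := {γ | ∀ φ, φ ∈ O ↔ γ • φ ∈ O}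
  mul_mem' := by
    intro a b ha hb φ
    rw [mul_smul]
    exact (hb φ).trans (ha (b • φ))
  one_mem' := by
    intro φ
    rw [one_smul]
  inv_mem' := by
    intro a ha φ
    have := ha (a⁻¹ • φ)
    rw [smul_inv_smul] at this
    exact this.symm

theorem fpq_abc1_mem_pres {R : Subgroup Γ} (φ₀ : fpq_abc1_W Γ k) {γ : Γ}
    (hγ : γ ∈ Subgroup.normalizer (R : Set Γ)) {y₁ : Γ} (hy₁ : y₁ ∈ R)
    (hfix : γ • (y₁ • φ₀) = y₁ • φ₀) :
    γ ∈ fpq_abc1_pres (MulAction.orbit ↥R φ₀) := by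
  intro φ
  constructor
  · exact fpq_abc1_key φ₀ hγ hy₁ hfix φ
  · intro h
    have hfix' : γ⁻¹ • (y₁ • φ₀) = y₁ • φ₀ := inv_smul_eq_iff.mpr hfix.symm
    have := fpq_abc1_key φ₀ (Subgroup.inv_mem _ hγ) hy₁ hfix' _ h
    rwa [inv_smul_smul] at this

theorem MinCE.ab_caseC1 [Finite Γ] [FiniteDimensional k V] (M : MinCE ρ F H Q R p q s t)
    (hab : ∀ a ∈ Q, ∀ b ∈ Q, a * b = b * a)
    (hno : ∀ mu : Γ → k, wsp ρ Q mu ≠ ⊥ → ¬ ∀ f ∈ F, FixesOn Q f mu)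
    (lam : Γ → k) (hlam : wsp ρ Q lam ≠ ⊥) (hH : ∀ h ∈ H, FixesOn Q h lam) :
    ∀ x ∈ R, ∀ h ∈ H, FixesOn Q h (cj x lam) := by
  have hyp := M.hyp
  intro x hx h hh
  by_contra hcon
  have hmu : wsp ρ Q (cj x lam) ≠ ⊥ := fpq_abc1_wsp_cj (hyp.RQ hx) hlam
  rcases hyp.tri Q hyp.FQ hyp.HQ (cj x lam) hmu with h1 | ⟨f', hf', h2⟩
  · exact hno _ hmu h1
  have hf'1 : f' ≠ 1 := by
    rintro rfl
    apply hcon
    have := h2 h hh
    simpa using this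
  -- the orbit
  set φ₀ : fpq_abc1_W Γ k := fpq_abc1_mask Q lam with hφ₀
  set O : Set (fpq_abc1_W Γ k) := MulAction.orbit ↥R φ₀ with hO
  have hHL : H ≤ fpq_abc1_pres O := by
    intro h' hh'
    apply fpq_abc1_mem_pres φ₀ (hyp.HR hh') R.one_mem
    rw [one_smul]
    exact (fpq_abc1_fixes_iff (hyp.HQ hh') lam).mp (hH h' hh')
  have hH'L : H.map (MulAut.conj f').toMonoidHom ≤ fpq_abc1_pres O := by
    rintro a ⟨h', hh', rfl⟩
    have ea : (MulAut.conj f').toMonoidHom h' = f' * h' * f'⁻¹ := by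
      simp [MulAut.conj_apply]
    rw [ea]
    have hNR : f' * h' * f'⁻¹ ∈ Subgroup.normalizer (R : Set Γ) :=
      Subgroup.mul_mem _ (Subgroup.mul_mem _ (hyp.FR hf') (hyp.HR hh'))
        (Subgroup.inv_mem _ (hyp.FR hf'))
    have hNQ : f' * h' * f'⁻¹ ∈ Subgroup.normalizer (Q : Set Γ) :=
      Subgroup.mul_mem _ (Subgroup.mul_mem _ (hyp.FQ hf') (hyp.HQ hh'))
        (Subgroup.inv_mem _ (hyp.FQ hf'))
    apply fpq_abc1_mem_pres φ₀ hNR hx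
    rw [hφ₀, fpq_abc1_smul_mask (hyp.RQ hx)]
    exact (fpq_abc1_fixes_iff hNQ (cj x lam)).mp (h2 h' hh')
  have hFL : F ≤ fpq_abc1_pres O :=
    le_trans le_sup_left (le_trans (hyp.gen_of_conj f' hf' hf'1) (sup_le hHL hH'L))
  -- the action of `F` on the orbit
  let S : SubMulAction ↥F (fpq_abc1_W Γ k) :=
    { carrier := O
      smul_mem' := fun c φ hφ => (hFL c.2 φ).mp hφ }
  have hFp : IsPGroup p ↥F := IsPGroup.of_card (n := 1) (by rw [hyp.cardF, pow_one])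
  have : Fact p.Prime := ⟨hyp.hp⟩
  have : Fact t.Prime := ⟨hyp.ht⟩
  have hfin : Finite ↥(MulAction.orbit ↥R φ₀) :=
    (Finite.finite_mulAction_orbit (M := ↥R) φ₀).to_subtype
  have hcard : ¬ p ∣ Nat.card ↥S := by
    obtain ⟨n, hn⟩ := hyp.Rt.card_orbit φ₀
    have e : Nat.card ↥S = t ^ n := hn
    rw [e]
    intro hdvd
    have h3 := hyp.hp.dvd_of_dvd_pow hdvd
    have h4 := (Nat.prime_dvd_prime_iff_eq hyp.hp hyp.ht).mp h3
    exact hyp.htp h4.symm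
  obtain ⟨⟨φ, hφO⟩, hφfix⟩ := hFp.nonempty_fixed_point_of_prime_not_dvd_card ↥S hcard
  obtain ⟨y, hy⟩ := hφO
  have hy' : (y : Γ) • φ₀ = φ := hy
  apply hno (cj (y : Γ) lam) (fpq_abc1_wsp_cj (hyp.RQ y.2) hlam)
  intro f hf
  rw [fpq_abc1_fixes_iff (hyp.FQ hf), ← fpq_abc1_smul_mask (hyp.RQ y.2), ← hφ₀, hy']
  have := hφfix ⟨f, hf⟩
  exact congrArg Subtype.val this

end Cfsg.Agent.Helper4.FPQ
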