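import Mathlib
import Cfsg.Agent.Lib.FPQ.FPQSetup

/-! S4306 design (helper4), Theorem L: piece FPQ-CONJ.  A minimal counterexample stays one when H is replaced by a conjugate under F. -/

set_option autoImplicit false
set_option linter.unusedSectionVars false

namespace Cfsg.Agent.Helper4.FPQ

open Module Cfsg.Agent.Helper8.FrobLin

universe u v w

variable {k : Type w} [Field k] {Γ : Type u} [Group Γ] {V : Type v} [AddCommGroup V]
  [Module k V] {ρ : Representation k Γ V} {F H Q R : Subgroup Γ} {p q s t : ℕ}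

theorem fpq_conj_mem {H : Subgroup Γ} {f x : Γ} :
    x ∈ H.map (MulAut.conj f).toMonoidHom ↔ ∃ h ∈ H, x = f * h * f⁻¹ := by
  rw [Subgroup.mem_map]
  constructor
  · rintro ⟨h, hh, rfl⟩
    exact ⟨h, hh, rfl⟩
  · rintro ⟨h, hh, rfl⟩
    exact ⟨h, hh, rfl⟩

theorem fpq_conj_le_normalizer {X H N : Subgroup Γ} {f : Γ} (hf : f ∈ N)
    (hN : N ≤ Subgroup.normalizer (X : Set Γ)) (hH : H ≤ Subgroup.normalizer (X : Set Γ)) :
    H.map (MulAut.conj f).toMonoidHom ≤ Subgroup.normalizer (X : Set Γ) := by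
  intro x hx
  obtain ⟨h, hh, rfl⟩ := fpq_conj_mem.1 hx
  exact Subgroup.mul_mem _ (Subgroup.mul_mem _ (hN hf) (hH hh)) (Subgroup.inv_mem _ (hN hf))

theorem fpq_conj_comm {f h g : Γ} (h2 : f * g = g * f)
    (h1 : (f * h * f⁻¹) * g = g * (f * h * f⁻¹)) : h * g = g * h := by
  have c2 : Commute f g := h2
  have c1 : Commute (f * h * f⁻¹) g := h1
  have c3 : Commute (f⁻¹ * (f * h * f⁻¹) * f) g := (c2.inv_left.mul_left c1).mul_left c2
  have e : f⁻¹ * (f * h * f⁻¹) * f = h := by group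
  rw [e] at c3
  exact c3

theorem Hyp.conjH (hyp : Hyp ρ F H Q R p q s t) {f : Γ} (hf : f ∈ F) :
    Hyp ρ F (H.map (MulAut.conj f).toMonoidHom) Q R p q s t where
  hp := hyp.hp
  hq := hyp.hq
  hs := hyp.hs
  ht := hyp.ht
  hpq := hyp.hpq
  hst := hyp.hst
  hsp := hyp.hsp
  hsq := hyp.hsq
  htp := hyp.htp
  htq := hyp.htq
  cardF := hyp.cardF
  cardH := by
    rw [Subgroup.card_map_of_injective (MulAut.conj f).injective]
    exact hyp.cardH
  HF := fpq_conj_le_normalizer hf Subgroup.le_normalizer hyp.HF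
  frob := by
    intro f1 hf1 x hx hcomm
    obtain ⟨h, hh, rfl⟩ := fpq_conj_mem.1 hx
    have h1 : f⁻¹ * f1 * f ∈ F := F.mul_mem (F.mul_mem (F.inv_mem hf) hf1) hf
    have h2 : (f⁻¹ * f1 * f) * h = h * (f⁻¹ * f1 * f) := by
      have e1 : (f⁻¹ * f1 * f) * h = f⁻¹ * (f1 * (f * h * f⁻¹)) * f := by group
      have e2 : h * (f⁻¹ * f1 * f) = f⁻¹ * ((f * h * f⁻¹) * f1) * f := by group
      rw [e1, e2, hcomm]
    rcases hyp.frob _ h1 h hh h2 with h3 | h3
    · left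
      have : f1 = f * (f⁻¹ * f1 * f) * f⁻¹ := by group
      rw [this, h3]
      group
    · right
      rw [h3]
      group
  Qs := hyp.Qs
  Rt := hyp.Rt
  FQ := hyp.FQ
  HQ := fpq_conj_le_normalizer hf hyp.FQ hyp.HQ
  FR := hyp.FR
  HR := fpq_conj_le_normalizer hf hyp.FR hyp.HR
  RQ := hyp.RQ
  cQ := by
    intro g hg hgF hgH
    apply hyp.cQ g hg hgF
    intro h hh
    have h1 : (f * h * f⁻¹) * g = g * (f * h * f⁻¹) :=
      hgH _ (fpq_conj_mem.2 ⟨h, hh, rfl⟩)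
    exact fpq_conj_comm (hgF f hf) h1
  cR := by
    intro g hg hgF hgH
    apply hyp.cR g hg hgF
    intro h hh
    have h1 : (f * h * f⁻¹) * g = g * (f * h * f⁻¹) :=
      hgH _ (fpq_conj_mem.2 ⟨h, hh, rfl⟩)
    exact fpq_conj_comm (hgF f hf) h1
  pk := hyp.pk
  qk := hyp.qk
  sk := hyp.sk
  fix := by
    rw [eq_bot_iff]
    intro v hv
    rw [← hyp.fix]
    obtain ⟨hvF, hvH⟩ := hv
    refine ⟨hvF, ?_⟩
    rw [SetLike.mem_coe, mem_fixedBy] at hvF hvH ⊢
    intro h hh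
    have h1 : ρ (f * h * f⁻¹) v = v := hvH _ (fpq_conj_mem.2 ⟨h, hh, rfl⟩)
    have h2 : ρ f v = v := hvF f hf
    have h3 : ρ f⁻¹ v = v := hvF _ (F.inv_mem hf)
    have e : h = f⁻¹ * (f * h * f⁻¹) * f := by group
    rw [e, map_mul, map_mul, Module.End.mul_apply, Module.End.mul_apply, h2, h1, h3]

theorem MinCE.conjH (M : MinCE ρ F H Q R p q s t) {f : Γ} (hf : f ∈ F) :
    MinCE ρ F (H.map (MulAut.conj f).toMonoidHom) Q R p q s t where
  hyp := M.hyp.conjH hf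
  top := by
    rw [eq_top_iff, ← M.top]
    have hH : H ≤ Q ⊔ R ⊔ F ⊔ H.map (MulAut.conj f).toMonoidHom := by
      intro h hh
      have hfm : f ∈ Q ⊔ R ⊔ F ⊔ H.map (MulAut.conj f).toMonoidHom :=
        le_sup_left (a := Q ⊔ R ⊔ F) (le_sup_right (a := Q ⊔ R) hf)
      have hcm : f * h * f⁻¹ ∈ Q ⊔ R ⊔ F ⊔ H.map (MulAut.conj f).toMonoidHom :=
        le_sup_right (a := Q ⊔ R ⊔ F) (fpq_conj_mem.2 ⟨h, hh, rfl⟩)
      have e : h = f⁻¹ * (f * h * f⁻¹) * f := by group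
      rw [e]
      exact Subgroup.mul_mem _ (Subgroup.mul_mem _ (Subgroup.inv_mem _ hfm) hcm) hfm
    exact sup_le le_sup_left hH
  faithful := M.faithful
  irr := M.irr
  ih := M.ih
  not_concl := M.not_concl

end Cfsg.Agent.Helper4.FPQ
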