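import Mathlib
import Cfsg.Agent.Lib.FPQ.FPQSetup
import Cfsg.Agent.Lib.FPQ.FPQType
import Cfsg.Agent.Lib.FPQ.FPQComm
import Cfsg.Agent.Lib.FPQ.FPQRzero
import Cfsg.Agent.Lib.FPQ.FPQApq
import Cfsg.Agent.Lib.FPQ.FPQNormal

/-! S4306 design (helper4), Theorem L: piece FPQ-LEME.  LEMMA E: no non-trivial character of Q is fixed by H and [R,H]. -/

set_option autoImplicit false
set_option linter.unusedSectionVars false

namespace Cfsg.Agent.Helper4.FPQ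

open Module Cfsg.Agent.Helper8.FrobLin

open scoped commutatorElement

universe u v w

variable {k : Type w} [Field k] {Γ : Type u} [Group Γ] {V : Type v} [AddCommGroup V]
  [Module k V] {ρ : Representation k Γ V} {F H Q R : Subgroup Γ} {p q s t : ℕ}

/-- the stabiliser of a function on `Q` -/
def fpq_leme_stab {C : Type*} [CommGroup C] (Q : Subgroup Γ) (ψ : Γ → C) : Subgroup Γ where
  carrier := {a | a ∈ Subgroup.normalizer (Q : Set Γ) ∧ ∀ g ∈ Q, ψ (a * g * a⁻¹) = ψ g}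
  one_mem' := ⟨Subgroup.one_mem _, by intro g _; simp⟩
  mul_mem' := by
    rintro a b ⟨ha, ha'⟩ ⟨hb, hb'⟩
    refine ⟨Subgroup.mul_mem _ ha hb, fun g hg => ?_⟩
    have e : a * b * g * (a * b)⁻¹ = a * (b * g * b⁻¹) * a⁻¹ := by group
    rw [e, ha' _ (fpq_apq_conj_mem hb hg), hb' g hg]
  inv_mem' := by
    rintro a ⟨ha, ha'⟩
    refine ⟨Subgroup.inv_mem _ ha, fun g hg => ?_⟩
    have h1 : a⁻¹ * g * a ∈ Q := fpq_apq_conj_mem' ha hg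
    have h2 := ha' _ h1
    have e : a * (a⁻¹ * g * a) * a⁻¹ = g := by group
    rw [e] at h2
    rw [inv_inv]
    exact h2.symm

theorem fpq_leme_mem_stab {C : Type*} [CommGroup C] {Q : Subgroup Γ} {ψ : Γ → C} {a : Γ} :
    a ∈ fpq_leme_stab Q ψ ↔
      a ∈ Subgroup.normalizer (Q : Set Γ) ∧ ∀ g ∈ Q, ψ (a * g * a⁻¹) = ψ g := Iff.rfl

theorem fpq_leme_one {C : Type*} [CommGroup C] {Q : Subgroup Γ} {ψ : Γ → C}
    (hmul : ∀ a ∈ Q, ∀ b ∈ Q, ψ (a * b) = ψ a * ψ b) : ψ 1 = 1 := by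
  have h := hmul 1 Q.one_mem 1 Q.one_mem
  rw [mul_one] at h
  have h2 : ψ 1 * ψ 1 = ψ 1 * 1 := by rw [← h, mul_one]
  exact mul_left_cancel h2

theorem fpq_leme_inv {C : Type*} [CommGroup C] {Q : Subgroup Γ} {ψ : Γ → C}
    (hmul : ∀ a ∈ Q, ∀ b ∈ Q, ψ (a * b) = ψ a * ψ b) {g : Γ} (hg : g ∈ Q) :
    ψ g * ψ g⁻¹ = 1 := by
  rw [← hmul g hg g⁻¹ (Q.inv_mem hg), mul_inv_cancel, fpq_leme_one hmul]

theorem fpq_leme_pow {C : Type*} [CommGroup C] {Q : Subgroup Γ} {ψ : Γ → C}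
    (hmul : ∀ a ∈ Q, ∀ b ∈ Q, ψ (a * b) = ψ a * ψ b) {g : Γ} (hg : g ∈ Q) (n : ℕ) :
    ψ (g ^ n) = ψ g ^ n := by
  induction n with
  | zero => rw [pow_zero, pow_zero, fpq_leme_one hmul]
  | succ n ih => rw [pow_succ, pow_succ, hmul _ (Q.pow_mem hg n) _ hg, ih]

/-- a multiplicative function on `Q` invariant under `A` with `Q = [Q, A]` is trivial -/
theorem fpq_leme_triv {C : Type*} [CommGroup C] (Q A : Subgroup Γ) (ψ : Γ → C)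
    (hmul : ∀ a ∈ Q, ∀ b ∈ Q, ψ (a * b) = ψ a * ψ b) (hA : A ≤ fpq_leme_stab Q ψ)
    (hQA : Q ≤ ⁅Q, A⁆) : ∀ g ∈ Q, ψ g = 1 := by
  let K : Subgroup Γ :=
    { carrier := {g | g ∈ Q ∧ ψ g = 1}
      one_mem' := ⟨Q.one_mem, fpq_leme_one hmul⟩
      mul_mem' := by
        rintro a b ⟨ha, ha'⟩ ⟨hb, hb'⟩
        exact ⟨Q.mul_mem ha hb, by rw [hmul a ha b hb, ha', hb', mul_one]⟩
      inv_mem' := by
        rintro a ⟨ha, ha'⟩
        refine ⟨Q.inv_mem ha, ?_⟩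
        have := fpq_leme_inv hmul ha
        rw [ha', one_mul] at this
        exact this }
  have hK : ⁅Q, A⁆ ≤ K := by
    rw [Subgroup.commutator_le]
    intro g hg a ha
    obtain ⟨haN, haI⟩ := hA ha
    have h1 : a * g⁻¹ * a⁻¹ ∈ Q := fpq_apq_conj_mem haN (Q.inv_mem hg)
    have e : ⁅g, a⁆ = g * (a * g⁻¹ * a⁻¹) := by
      rw [commutatorElement_def]; group
    rw [e]
    refine ⟨Q.mul_mem hg h1, ?_⟩
    rw [hmul g hg _ h1, haI _ (Q.inv_mem hg)]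
    exact fpq_leme_inv hmul hg
  intro g hg
  exact (hK (hQA hg)).2

/-- averaging over a subgroup containing `c` -/
theorem fpq_leme_avg_mem {C : Type*} [CommGroup C] (K : Subgroup Γ) [Fintype ↥K] (ψ : Γ → C)
    {c : Γ} (hc : c ∈ K) (g : Γ) :
    ∏ y : ↥K, ψ ((y : Γ)⁻¹ * (c * g * c⁻¹) * y) = ∏ y : ↥K, ψ ((y : Γ)⁻¹ * g * y) := by
  refine Fintype.prod_equiv (Equiv.mulLeft (⟨c, hc⟩ : ↥K)⁻¹) _ _ ?_
  intro y
  congr 1
  simp only [Equiv.coe_mulLeft, Subgroup.coe_mul, Subgroup.coe_inv]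
  group

/-- averaging over a subgroup normalised by `c`, when `c` fixes the function -/
theorem fpq_leme_avg_norm {C : Type*} [CommGroup C] (Q K : Subgroup Γ) [Fintype ↥K] (ψ : Γ → C)
    {c : Γ} (hKQ : K ≤ Subgroup.normalizer (Q : Set Γ))
    (hcK : ∀ y ∈ K, c⁻¹ * y * c ∈ K) (hcK' : ∀ y ∈ K, c * y * c⁻¹ ∈ K)
    (hc : ∀ g ∈ Q, ψ (c * g * c⁻¹) = ψ g) {g : Γ} (hg : g ∈ Q) :
    ∏ y : ↥K, ψ ((y : Γ)⁻¹ * (c * g * c⁻¹) * y) = ∏ y : ↥K, ψ ((y : Γ)⁻¹ * g * y) := by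
  let σ : ↥K ≃ ↥K :=
    { toFun := fun y => ⟨c⁻¹ * y * c, hcK y y.2⟩
      invFun := fun y => ⟨c * y * c⁻¹, hcK' y y.2⟩
      left_inv := by
        intro y
        apply Subtype.ext
        show c * (c⁻¹ * (y : Γ) * c) * c⁻¹ = y
        group
      right_inv := by
        intro y
        apply Subtype.ext
        show c⁻¹ * (c * (y : Γ) * c⁻¹) * c = y
        group }
  refine Fintype.prod_equiv σ _ _ ?_
  intro y
  show ψ ((y : Γ)⁻¹ * (c * g * c⁻¹) * y) = ψ ((c⁻¹ * (y : Γ) * c)⁻¹ * g * (c⁻¹ * (y : Γ) * c))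
  have h1 : (c⁻¹ * (y : Γ) * c)⁻¹ * g * (c⁻¹ * (y : Γ) * c) ∈ Q :=
    fpq_apq_conj_mem' (hKQ (hcK y y.2)) hg
  have e : (y : Γ)⁻¹ * (c * g * c⁻¹) * y =
      c * ((c⁻¹ * (y : Γ) * c)⁻¹ * g * (c⁻¹ * (y : Γ) * c)) * c⁻¹ := by group
  rw [e, hc _ h1]

/-- the average of a multiplicative function is multiplicative -/
theorem fpq_leme_avg_mul {C : Type*} [CommGroup C] (Q K : Subgroup Γ) [Fintype ↥K] (ψ : Γ → C)
    (hKQ : K ≤ Subgroup.normalizer (Q : Set Γ))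
    (hmul : ∀ a ∈ Q, ∀ b ∈ Q, ψ (a * b) = ψ a * ψ b) :
    ∀ a ∈ Q, ∀ b ∈ Q, ∏ y : ↥K, ψ ((y : Γ)⁻¹ * (a * b) * y) =
      (∏ y : ↥K, ψ ((y : Γ)⁻¹ * a * y)) * ∏ y : ↥K, ψ ((y : Γ)⁻¹ * b * y) := by
  intro a ha b hb
  rw [← Finset.prod_mul_distrib]
  apply Finset.prod_congr rfl
  intro y _
  have e : (y : Γ)⁻¹ * (a * b) * y = ((y : Γ)⁻¹ * a * y) * ((y : Γ)⁻¹ * b * y) := by group
  rw [e]
  exact hmul _ (fpq_apq_conj_mem' (hKQ y.2) ha) _ (fpq_apq_conj_mem' (hKQ y.2) hb)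

/-- **Lemma E** (function form, values in any commutative group): a function multiplicative on
`Q`, invariant under `H` and under all `x⁻¹ (h x h⁻¹)` (`x ∈ R`, `h ∈ H`), is trivial on `Q`. -/
theorem MinCE.lemE [Finite Γ] [FiniteDimensional k V] (M : MinCE ρ F H Q R p q s t)
    {C : Type*} [CommGroup C] (δ : Γ → C)
    (hmul : ∀ a ∈ Q, ∀ b ∈ Q, δ (a * b) = δ a * δ b)
    (hH : ∀ h ∈ H, ∀ g ∈ Q, δ (h * g * h⁻¹) = δ g)
    (hRH : ∀ x ∈ R, ∀ h ∈ H, ∀ g ∈ Q,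
      δ ((x⁻¹ * (h * x * h⁻¹)) * g * (x⁻¹ * (h * x * h⁻¹))⁻¹) = δ g) :
    ∀ g ∈ Q, δ g = 1 := by
  classical
  have hyp := M.hyp
  have : Fintype ↥F := Fintype.ofFinite _
  -- the subgroup R₂
  set R₂ : Subgroup Γ := ⁅R, H⁆ ⊔ R0 Q R with hR₂
  have : Fintype ↥R₂ := Fintype.ofFinite _
  have hRHR : ⁅R, H⁆ ≤ R := by
    rw [Subgroup.commutator_le]
    intro x hx h hh
    have e : ⁅x, h⁆ = x * (h * x⁻¹ * h⁻¹) := by rw [commutatorElement_def]; group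
    rw [e]
    exact R.mul_mem hx (fpq_apq_conj_mem (hyp.HR hh) (R.inv_mem hx))
  have hR₂R : R₂ ≤ R := sup_le hRHR (R0_le Q R)
  have hR₂Q : R₂ ≤ Subgroup.normalizer (Q : Set Γ) := hR₂R.trans hyp.RQ
  -- δ is R₂-invariant
  have hR0stab : ∀ ψ : Γ → C, R0 Q R ≤ fpq_leme_stab Q ψ := by
    intro ψ y hy
    obtain ⟨hyR, hyc⟩ := mem_R0.1 hy
    refine ⟨hyp.RQ hyR, fun g hg => ?_⟩
    have e : y * g * y⁻¹ = g := by
      rw [← hyc g hg]; group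
    rw [e]
  have hδstab : R₂ ≤ fpq_leme_stab Q δ := by
    apply sup_le _ (hR0stab δ)
    rw [Subgroup.commutator_le]
    intro x hx h hh
    have e : ⁅x, h⁆ = (x⁻¹)⁻¹ * (h * x⁻¹ * h⁻¹) := by rw [commutatorElement_def]; group
    refine ⟨hyp.RQ (hRHR (Subgroup.commutator_mem_commutator hx hh)), fun g hg => ?_⟩
    rw [e]
    exact hRH x⁻¹ (R.inv_mem hx) h hh g hg
  -- R₂ is normal in R
  have hR₂n : ∀ c ∈ R, ∀ y ∈ R₂, c * y * c⁻¹ ∈ R₂ := by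
    intro c hc y hy
    have e : c * y * c⁻¹ = ⁅c, y⁆ * y := by rw [commutatorElement_def]; group
    rw [e]
    refine R₂.mul_mem ?_ hy
    apply (le_sup_right : R0 Q R ≤ R₂)
    exact M.comm_R_le_R0 (Subgroup.commutator_mem_commutator hc (hR₂R hy))
  have hR₂n' : ∀ c ∈ R, ∀ y ∈ R₂, c⁻¹ * y * c ∈ R₂ := by
    intro c hc y hy
    have := hR₂n c⁻¹ (R.inv_mem hc) y hy
    rwa [inv_inv] at this
  -- the twisted functions
  let ψ : Γ → Γ → C := fun f g => δ (f⁻¹ * g * f)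
  have hψmul : ∀ f ∈ F, ∀ a ∈ Q, ∀ b ∈ Q, ψ f (a * b) = ψ f a * ψ f b := by
    intro f hf a ha b hb
    show δ (f⁻¹ * (a * b) * f) = δ (f⁻¹ * a * f) * δ (f⁻¹ * b * f)
    have e : f⁻¹ * (a * b) * f = (f⁻¹ * a * f) * (f⁻¹ * b * f) := by group
    rw [e]
    exact hmul _ (fpq_apq_conj_mem' (hyp.FQ hf) ha) _ (fpq_apq_conj_mem' (hyp.FQ hf) hb)
  -- step 2: N = ∏_f ψ f is trivial on Q
  let N : Γ → C := fun g => ∏ f : ↥F, δ ((f : Γ)⁻¹ * g * f)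
  have hNmul : ∀ a ∈ Q, ∀ b ∈ Q, N (a * b) = N a * N b :=
    fpq_leme_avg_mul Q F δ hyp.FQ hmul
  have hNstab : F ⊔ H ≤ fpq_leme_stab Q N := by
    apply sup_le
    · intro f hf
      exact ⟨hyp.FQ hf, fun g _ => fpq_leme_avg_mem F δ hf g⟩
    · intro h hh
      refine ⟨hyp.HQ hh, fun g hg => ?_⟩
      exact fpq_leme_avg_norm Q F δ hyp.FQ
        (fun y hy => fpq_apq_conj_mem' (hyp.HF hh) hy)
        (fun y hy => fpq_apq_conj_mem (hyp.HF hh) hy) (hH h hh) hg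
  have hN1 : ∀ g ∈ Q, N g = 1 := fpq_leme_triv Q (F ⊔ H) N hNmul hNstab M.Q_le_comm_A
  -- step 3: E (ψ f) is trivial on Q for f ≠ 1
  let E : Γ → Γ → C := fun f g => ∏ y : ↥R₂, ψ f ((y : Γ)⁻¹ * g * y)
  have hEmul : ∀ f ∈ F, ∀ a ∈ Q, ∀ b ∈ Q, E f (a * b) = E f a * E f b :=
    fun f hf => fpq_leme_avg_mul Q R₂ (ψ f) hR₂Q (hψmul f hf)
  have hconj : ∀ f ∈ F, ∀ y₁ ∈ R₂, f * y₁ * f⁻¹ ∈ fpq_leme_stab Q (E f) := by
    intro f hf y₁ hy₁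
    have hcR : f * y₁ * f⁻¹ ∈ R := fpq_apq_conj_mem (hyp.FR hf) (hR₂R hy₁)
    refine ⟨hyp.RQ hcR, fun g hg => ?_⟩
    refine fpq_leme_avg_norm Q R₂ (ψ f) hR₂Q (hR₂n' _ hcR) (hR₂n _ hcR) ?_ hg
    intro g' hg'
    show δ (f⁻¹ * (f * y₁ * f⁻¹ * g' * (f * y₁ * f⁻¹)⁻¹) * f) = δ (f⁻¹ * g' * f)
    have e : f⁻¹ * (f * y₁ * f⁻¹ * g' * (f * y₁ * f⁻¹)⁻¹) * f =
        y₁ * (f⁻¹ * g' * f) * y₁⁻¹ := by group
    rw [e]
    exact (hδstab hy₁).2 _ (fpq_apq_conj_mem' (hyp.FQ hf) hg')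
  have hEstab : ∀ f ∈ F, f ≠ 1 → R ≤ fpq_leme_stab Q (E f) := by
    intro f hf hf1
    refine (M.rgen f hf hf1).trans ?_
    apply sup_le
    · apply sup_le
      · intro y hy
        have hy₂ : y ∈ R₂ := (le_sup_left : ⁅R, H⁆ ≤ R₂) hy
        exact ⟨hR₂Q hy₂, fun g _ => fpq_leme_avg_mem R₂ (ψ f) hy₂ g⟩
      · rw [Subgroup.commutator_le]
        intro x hx h' hh'
        obtain ⟨h, hh, rfl⟩ := Subgroup.mem_map.1 hh'
        have hx' : f⁻¹ * x * f ∈ R := fpq_apq_conj_mem' (hyp.FR hf) hx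
        have e : ⁅x, (MulAut.conj f).toMonoidHom h⁆ = f * ⁅f⁻¹ * x * f, h⁆ * f⁻¹ := by
          simp only [MulEquiv.toMonoidHom_eq_coe, MonoidHom.coe_coe, MulAut.conj_apply,
            commutatorElement_def]
          group
        rw [e]
        exact hconj f hf _ ((le_sup_left : ⁅R, H⁆ ≤ R₂)
          (Subgroup.commutator_mem_commutator hx' hh))
    · exact hR0stab (E f)
  have hE1 : ∀ f ∈ F, f ≠ 1 → ∀ g ∈ Q, E f g = 1 := fun f hf hf1 =>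
    fpq_leme_triv Q R (E f) (hEmul f hf) (hEstab f hf hf1) M.Q_le_comm_R
  -- step 4
  intro g hg
  have h1 : ∏ y : ↥R₂, N ((y : Γ)⁻¹ * g * y) = 1 := by
    apply Finset.prod_eq_one
    intro y _
    exact hN1 _ (fpq_apq_conj_mem' (hR₂Q y.2) hg)
  have h2 : ∏ y : ↥R₂, N ((y : Γ)⁻¹ * g * y) = ∏ f : ↥F, E f g := by
    show ∏ y : ↥R₂, ∏ f : ↥F, δ ((f : Γ)⁻¹ * ((y : Γ)⁻¹ * g * y) * f) =
      ∏ f : ↥F, ∏ y : ↥R₂, δ ((f : Γ)⁻¹ * ((y : Γ)⁻¹ * g * y) * f)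
    exact Finset.prod_comm
  have h3 : ∏ f : ↥F, E f g = E 1 g := by
    have := Fintype.prod_eq_single (1 : ↥F) (f := fun f : ↥F => E (f : Γ) g) (by
      intro f hf
      apply hE1 f f.2 _ g hg
      intro h
      exact hf (Subtype.ext h))
    simpa using this
  have h4 : E 1 g = δ g ^ Nat.card ↥R₂ := by
    show ∏ y : ↥R₂, δ ((1 : Γ)⁻¹ * ((y : Γ)⁻¹ * g * y) * 1) = δ g ^ Nat.card ↥R₂
    have : ∀ y : ↥R₂, δ ((1 : Γ)⁻¹ * ((y : Γ)⁻¹ * g * y) * 1) = δ g := by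
      intro y
      have h5 := (hδstab (R₂.inv_mem y.2)).2 g hg
      rw [inv_inv] at h5
      rw [inv_one, one_mul, mul_one]
      exact h5
    rw [Finset.prod_congr rfl (fun y _ => this y), Finset.prod_const, Finset.card_univ,
      Nat.card_eq_fintype_card]
  have h6 : δ g ^ Nat.card ↥R₂ = 1 := by rw [← h4, ← h3, ← h2, h1]
  have h7 : δ g ^ Nat.card ↥Q = 1 := by
    rw [← fpq_leme_pow hmul hg]
    have : g ^ Nat.card ↥Q = 1 := by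
      have h8 : ((⟨g, hg⟩ : ↥Q) ^ Nat.card ↥Q : ↥Q) = 1 := pow_card_eq_one'
      have h10 := congrArg Subtype.val h8
      rwa [Subgroup.coe_pow, Subgroup.coe_one] at h10
    rw [this, fpq_leme_one hmul]
  have hcop : (Nat.card ↥Q).Coprime (Nat.card ↥R₂) :=
    Nat.Coprime.coprime_dvd_right (Subgroup.card_dvd_of_le hR₂R) M.coprime_QR
  have h9 : orderOf (δ g) ∣ Nat.gcd (Nat.card ↥Q) (Nat.card ↥R₂) :=
    Nat.dvd_gcd (orderOf_dvd_of_pow_eq_one h7) (orderOf_dvd_of_pow_eq_one h6)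
  rw [hcop.gcd_eq_one, Nat.dvd_one] at h9
  exact orderOf_eq_one_iff.1 h9

end Cfsg.Agent.Helper4.FPQ
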