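import Mathlib
import Cfsg.Agent.Lib.FPQ.FPQSetup
import Cfsg.Agent.Lib.FPQ.FPQAbC1
import Cfsg.Agent.Lib.FPQ.FPQLemE
import Cfsg.Agent.Lib.FPQ.FPQConj
import Cfsg.Agent.Lib.FPQ.FPQWnf
import Cfsg.Agent.Lib.FPQ.FPQTri

/-! S4306 design (helper4), Theorem L: piece FPQ-ABC.  Abelian branch, case (c): no weight is F-fixed. -/

set_option autoImplicit false
set_option linter.unusedSectionVars false

namespace Cfsg.Agent.Helper4.FPQ

open Module Cfsg.Agent.Helper8.FrobLin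

universe u v w

variable {k : Type w} [Field k] {Γ : Type u} [Group Γ] {V : Type v} [AddCommGroup V]
  [Module k V] {ρ : Representation k Γ V} {F H Q R : Subgroup Γ} {p q s t : ℕ}

/-- conjugation by an element of the normaliser -/
theorem fpq_abc_conj_mem {N : Subgroup Γ} {γ g : Γ}
    (hγ : γ ∈ Subgroup.normalizer (N : Set Γ)) (hg : g ∈ N) : γ * g * γ⁻¹ ∈ N :=
  (Subgroup.mem_normalizer_iff.mp hγ g).mp hg

/-- with `H` fixing `lam` -/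
theorem MinCE.ab_caseC2 [Finite Γ] [FiniteDimensional k V] (M : MinCE ρ F H Q R p q s t)
    (hab : ∀ a ∈ Q, ∀ b ∈ Q, a * b = b * a)
    (hno : ∀ mu : Γ → k, wsp ρ Q mu ≠ ⊥ → ¬ ∀ f ∈ F, FixesOn Q f mu)
    (lam : Γ → k) (hlam : wsp ρ Q lam ≠ ⊥) (hH : ∀ h ∈ H, FixesOn Q h lam) : False := by
  have hyp := M.hyp
  have hc1 := M.ab_caseC1 hab hno lam hlam hH
  obtain ⟨δ, hδ, hδmul⟩ := wt_units hlam
  -- `H`-invariance in the other direction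
  have hHinv : ∀ h ∈ H, ∀ g ∈ Q, lam (h * g * h⁻¹) = lam g := by
    intro h hh g hg
    have h1 := hH h⁻¹ (H.inv_mem hh) g hg
    rw [inv_inv] at h1
    exact h1
  -- the element `z = h x⁻¹ h⁻¹ x` fixes `lam`
  have hz : ∀ x ∈ R, ∀ h ∈ H, ∀ g ∈ Q,
      lam ((h * x⁻¹ * h⁻¹ * x) * g * (h * x⁻¹ * h⁻¹ * x)⁻¹) = lam g := by
    intro x hx h hh g hg
    have hxg : x * g * x⁻¹ ∈ Q := fpq_abc_conj_mem (hyp.RQ hx) hg
    have h1 := hc1 x hx h hh (x * g * x⁻¹) hxg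
    rw [cj_apply, cj_apply] at h1
    have e1 : x⁻¹ * (x * g * x⁻¹) * x = g := by group
    rw [e1] at h1
    -- `u = x⁻¹ h⁻¹ x g x⁻¹ h x ∈ Q`
    have hu : x⁻¹ * (h⁻¹ * (x * g * x⁻¹) * h) * x ∈ Q := by
      have h2 : h⁻¹ * (x * g * x⁻¹) * h ∈ Q := by
        have := fpq_abc_conj_mem (hyp.HQ (H.inv_mem hh)) hxg
        rwa [inv_inv] at this
      have := fpq_abc_conj_mem (hyp.RQ (R.inv_mem hx)) h2
      rwa [inv_inv] at this
    have h3 := hHinv h hh _ hu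
    rw [h1] at h3
    rw [← h3]
    congr 1
    group
  have hy : ∀ x ∈ R, ∀ h ∈ H, ∀ g ∈ Q,
      lam ((x⁻¹ * (h * x * h⁻¹)) * g * (x⁻¹ * (h * x * h⁻¹))⁻¹) = lam g := by
    intro x hx h hh g hg
    -- `y = z⁻¹`
    have hzR : h * x⁻¹ * h⁻¹ * x ∈ R := by
      have h1 : h * x⁻¹ * h⁻¹ ∈ R := fpq_abc_conj_mem (hyp.HR hh) (R.inv_mem hx)
      exact R.mul_mem h1 hx
    have hg' : (h * x⁻¹ * h⁻¹ * x)⁻¹ * g * (h * x⁻¹ * h⁻¹ * x) ∈ Q := by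
      have := fpq_abc_conj_mem (hyp.RQ (R.inv_mem hzR)) hg
      rwa [inv_inv] at this
    have h1 := hz x hx h hh _ hg'
    have e1 : (h * x⁻¹ * h⁻¹ * x) * ((h * x⁻¹ * h⁻¹ * x)⁻¹ * g * (h * x⁻¹ * h⁻¹ * x)) *
        (h * x⁻¹ * h⁻¹ * x)⁻¹ = g := by group
    rw [e1] at h1
    rw [h1]
    congr 1
    group
  -- Lemma E
  have hyR : ∀ x ∈ R, ∀ h ∈ H, x⁻¹ * (h * x * h⁻¹) ∈ R := by
    intro x hx h hh
    exact R.mul_mem (R.inv_mem hx) (fpq_abc_conj_mem (hyp.HR hh) hx)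
  have hδ1 : ∀ g ∈ Q, δ g = 1 := by
    apply M.lemE δ hδmul
    · intro h hh g hg
      apply Units.ext
      rw [hδ _ (fpq_abc_conj_mem (hyp.HQ hh) hg), hδ g hg]
      exact hHinv h hh g hg
    · intro x hx h hh g hg
      apply Units.ext
      rw [hδ _ (fpq_abc_conj_mem (hyp.RQ (hyR x hx h hh)) hg), hδ g hg]
      exact hy x hx h hh g hg
  have hlam1 : ∀ g ∈ Q, lam g = 1 := by
    intro g hg
    rw [← hδ g hg, hδ1 g hg]
    rfl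
  apply hno lam hlam
  intro f hf g hg
  have h1 : f⁻¹ * g * f ∈ Q := by
    have := fpq_abc_conj_mem (hyp.FQ (F.inv_mem hf)) hg
    rwa [inv_inv] at this
  rw [hlam1 _ h1, hlam1 g hg]

theorem MinCE.ab_caseC [Finite Γ] [FiniteDimensional k V] (M : MinCE ρ F H Q R p q s t)
    (hab : ∀ a ∈ Q, ∀ b ∈ Q, a * b = b * a)
    (hno : ∀ mu : Γ → k, wsp ρ Q mu ≠ ⊥ → ¬ ∀ f ∈ F, FixesOn Q f mu)
    (lam : Γ → k) (hlam : wsp ρ Q lam ≠ ⊥) : False := by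
  have hyp := M.hyp
  rcases hyp.tri Q hyp.FQ hyp.HQ lam hlam with h1 | ⟨f, hf, h1⟩
  · exact hno lam hlam h1
  · have M' := M.conjH hf
    apply M'.ab_caseC2 hab hno lam hlam
    rintro h' ⟨h, hh, rfl⟩
    exact h1 h hh

end Cfsg.Agent.Helper4.FPQ
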