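import Mathlib
import Cfsg.Agent.Lib.FPQ.FPQSetup

/-! S4306 design (helper4), Theorem L: piece FPQ-WEX.  Existence of a weight for a subgroup acting by commuting operators. -/

set_option autoImplicit false
set_option linter.unusedSectionVars false

namespace Cfsg.Agent.Helper4.FPQ

open Module Cfsg.Agent.Helper8.FrobLin

universe u v w

variable {k : Type w} [Field k] {Γ : Type u} [Group Γ] {V : Type v} [AddCommGroup V]
  [Module k V] {ρ : Representation k Γ V} {F H Q R : Subgroup Γ} {p q s t : ℕ}

theorem fpq_wex_aux [IsAlgClosed k] [FiniteDimensional k V] [Nontrivial V] [DecidableEq Γ]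
    (ρ : Representation k Γ V) (M : Subgroup Γ)
    (hcomm : ∀ a ∈ M, ∀ b ∈ M, ρ a * ρ b = ρ b * ρ a) (S : Finset Γ) :
    ∃ (lam : Γ → k) (W : Submodule k V), W ≠ ⊥ ∧ (∀ g ∈ M, ∀ w ∈ W, ρ g w ∈ W) ∧
      ∀ g ∈ S, g ∈ M → ∀ w ∈ W, ρ g w = lam g • w := by
  induction S using Finset.induction_on with
  | empty =>
    refine ⟨fun _ => 0, ⊤, top_ne_bot, fun _ _ _ _ => Submodule.mem_top, ?_⟩
    intro g hg
    simp at hg
  | insert a S' ha ih =>
    obtain ⟨lam, W, hW0, hWinv, hWS⟩ := ih
    by_cases haM : a ∈ M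
    · -- restrict `ρ a` to `W` and take an eigenvalue
      have hmaps : ∀ w ∈ W, ρ a w ∈ W := hWinv a haM
      let f : Module.End k W := (ρ a).restrict hmaps
      have : Nontrivial W := Submodule.nontrivial_iff_ne_bot.2 hW0
      obtain ⟨c, hc⟩ := Module.End.exists_eigenvalue f
      obtain ⟨w0, hw0⟩ := hc.exists_hasEigenvector
      have hw0eq : ρ a (w0 : V) = c • (w0 : V) := by
        have := hw0.apply_eq_smul
        have h2 := congrArg Subtype.val this
        simpa [f] using h2
      have hw0ne : (w0 : V) ≠ 0 := by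
        intro h
        exact hw0.2 (Subtype.ext h)
      -- the new subspace
      let W' : Submodule k V := W ⊓ LinearMap.ker (ρ a - c • (1 : Module.End k V))
      have hmemW' : ∀ w, w ∈ W' ↔ w ∈ W ∧ ρ a w = c • w := by
        intro w
        simp only [W', Submodule.mem_inf, LinearMap.mem_ker, LinearMap.sub_apply,
          LinearMap.smul_apply, Module.End.one_apply, sub_eq_zero]
      refine ⟨Function.update lam a c, W', ?_, ?_, ?_⟩
      · intro h
        have : (w0 : V) ∈ W' := (hmemW' _).2 ⟨w0.2, hw0eq⟩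
        rw [h, Submodule.mem_bot] at this
        exact hw0ne this
      · intro g hg w hw
        obtain ⟨hwW, hwa⟩ := (hmemW' w).1 hw
        refine (hmemW' _).2 ⟨hWinv g hg w hwW, ?_⟩
        have h1 : ρ a (ρ g w) = ρ g (ρ a w) := by
          have := hcomm a haM g hg
          calc ρ a (ρ g w) = (ρ a * ρ g) w := rfl
            _ = (ρ g * ρ a) w := by rw [this]
            _ = ρ g (ρ a w) := rfl
        rw [h1, hwa, map_smul]
      · intro g hg hgM w hw
        obtain ⟨hwW, hwa⟩ := (hmemW' w).1 hw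
        rcases Finset.mem_insert.1 hg with rfl | hg'
        · rw [Function.update_self]
          exact hwa
        · have hga : g ≠ a := fun h => ha (h ▸ hg')
          rw [Function.update_of_ne hga]
          exact hWS g hg' hgM w hwW
    · refine ⟨lam, W, hW0, hWinv, ?_⟩
      intro g hg hgM w hw
      rcases Finset.mem_insert.1 hg with rfl | hg'
      · exact absurd hgM haM
      · exact hWS g hg' hgM w hw

theorem exists_wt [IsAlgClosed k] [Finite Γ] [FiniteDimensional k V] [Nontrivial V]
    (ρ : Representation k Γ V) (M : Subgroup Γ)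
    (hcomm : ∀ a ∈ M, ∀ b ∈ M, ρ a * ρ b = ρ b * ρ a) :
    ∃ lam : Γ → k, wsp ρ M lam ≠ ⊥ := by
  classical
  have := Fintype.ofFinite Γ
  obtain ⟨lam, W, hW0, _, hWS⟩ := fpq_wex_aux ρ M hcomm Finset.univ
  refine ⟨lam, ?_⟩
  intro h
  apply hW0
  rw [eq_bot_iff, ← h]
  intro w hw g hg
  exact hWS g (Finset.mem_univ g) hg w hw

end Cfsg.Agent.Helper4.FPQ
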