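import Mathlib
import Cfsg.Agent.Lib.FPQ.FPQSetup
import Cfsg.Agent.Lib.FPQ.FPQWex
import Cfsg.Agent.Lib.FPQ.FPQType
import Cfsg.Agent.Lib.FPQ.FPQAbA
import Cfsg.Agent.Lib.FPQ.FPQAbB
import Cfsg.Agent.Lib.FPQ.FPQAbC

/-! S4306 design (helper4), Theorem L: the ABELIAN branch (assembly). -/

set_option autoImplicit false
set_option linter.unusedSectionVars false

namespace Cfsg.Agent.Helper4.FPQ

open Module Cfsg.Agent.Helper8.FrobLin

universe u v w

variable {k : Type w} [Field k] {Γ : Type u} [Group Γ] {V : Type v} [AddCommGroup V]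
  [Module k V] {ρ : Representation k Γ V} {F H Q R : Subgroup Γ} {p q s t : ℕ}

theorem MinCE.nontrivial (M : MinCE ρ F H Q R p q s t) : Nontrivial V := by
  by_contra hV
  rw [not_nontrivial_iff_subsingleton] at hV
  apply M.not_concl
  intro g _ x _
  apply LinearMap.ext
  intro v
  exact Subsingleton.elim _ _

theorem MinCE.abelian_false [IsAlgClosed k] [Finite Γ] [FiniteDimensional k V]
    (M : MinCE ρ F H Q R p q s t) (hab : ∀ a ∈ Q, ∀ b ∈ Q, a * b = b * a) : False := by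
  haveI : Nontrivial V := M.nontrivial
  obtain ⟨lam, hlam⟩ := exists_wt ρ Q (fun a ha b hb => by
    rw [← map_mul, ← map_mul, hab a ha b hb])
  by_cases hex : ∃ mu : Γ → k, wsp ρ Q mu ≠ ⊥ ∧ ∀ f ∈ F, FixesOn Q f mu
  · obtain ⟨mu, hmu, hF⟩ := hex
    rcases M.type_dichotomy with h1 | h2
    · exact M.ab_caseA hab h1 mu hmu hF
    · exact M.ab_caseB hab h2 mu hmu hF
  · exact M.ab_caseC hab (fun mu hmu hF => hex ⟨mu, hmu, hF⟩) lam hlam

end Cfsg.Agent.Helper4.FPQ
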