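import Mathlib
import Cfsg.Agent.Lib.FPQ.FPQSetup
import Cfsg.Agent.Lib.FPQN.NNMAIN

/-! S4306 design (helper4), Theorem L: the NONABELIAN branch (owner: helper20).
Proved in `Cfsg/Agent/Lib/FPQN/` (`Cfsg.Agent.Helper20.FPQN.nonab_false`, assembly `NNMAIN.lean`). -/

set_option autoImplicit false
set_option linter.unusedSectionVars false

namespace Cfsg.Agent.Helper4.FPQ

open Module Cfsg.Agent.Helper8.FrobLin

universe u v w

variable {k : Type w} [Field k] {Γ : Type u} [Group Γ] {V : Type v} [AddCommGroup V]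
  [Module k V] {ρ : Representation k Γ V} {F H Q R : Subgroup Γ} {p q s t : ℕ}

theorem MinCE.nonabelian_false [IsAlgClosed k] [Finite Γ] [FiniteDimensional k V]
    (M : MinCE ρ F H Q R p q s t) (hna : ¬ ∀ a ∈ Q, ∀ b ∈ Q, a * b = b * a) : False :=
  Cfsg.Agent.Helper20.FPQN.nonab_false M hna

end Cfsg.Agent.Helper4.FPQ
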