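import Mathlib
import Cfsg.Agent.Lib.FPQ.FPQSetup

/-!
# S4306 design (helper4), reductions part (helper5): shared definitions

Constructions on a configuration `(Γ, V, ρ, F, H, Q, R)` of Theorem L used to reduce to a minimal
counterexample: invariant submodules, sub- and quotient representations, restriction of `ρ` to a
subgroup, and the representation induced on `Γ ⧸ N` for a normal `N ≤ ker ρ`.
-/

set_option autoImplicit false
set_option linter.unusedSectionVars false

namespace Cfsg.Agent.Helper5.FPQR

open Module Cfsg.Agent.Helper8.FrobLin Cfsg.Agent.Helper4.FPQ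

universe u v w

variable {k : Type w} [Field k] {Γ : Type u} [Group Γ] {V : Type v} [AddCommGroup V] [Module k V]

/-- `U` is a `ρ`-invariant submodule -/
def Inv (ρ : Representation k Γ V) (U : Submodule k V) : Prop := ∀ g : Γ, ∀ u ∈ U, ρ g u ∈ U

/-- the subrepresentation on an invariant submodule -/
def subRep (ρ : Representation k Γ V) (U : Submodule k V) (hU : Inv ρ U) :
    Representation k Γ ↥U where
  toFun g := (ρ g).restrict (fun u hu => hU g u hu)
  map_one' := by
    apply LinearMap.ext
    intro u
    apply Subtype.ext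
    simp
  map_mul' a b := by
    apply LinearMap.ext
    intro u
    apply Subtype.ext
    simp

@[simp] theorem subRep_apply (ρ : Representation k Γ V) (U : Submodule k V) (hU : Inv ρ U)
    (g : Γ) (u : ↥U) : ((subRep ρ U hU g u : ↥U) : V) = ρ g (u : V) := rfl

/-- the quotient representation modulo an invariant submodule -/
def quotRep (ρ : Representation k Γ V) (U : Submodule k V) (hU : Inv ρ U) :
    Representation k Γ (V ⧸ U) where
  toFun g := U.mapQ U (ρ g) (fun u hu => hU g u hu)
  map_one' := by
    apply LinearMap.ext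
    intro x
    induction x using Submodule.Quotient.induction_on with
    | _ x => simp
  map_mul' a b := by
    apply LinearMap.ext
    intro x
    induction x using Submodule.Quotient.induction_on with
    | _ x => simp

@[simp] theorem quotRep_mk (ρ : Representation k Γ V) (U : Submodule k V) (hU : Inv ρ U)
    (g : Γ) (x : V) :
    quotRep ρ U hU g (Submodule.Quotient.mk x) = Submodule.Quotient.mk (ρ g x) := rfl

/-- the restriction of `ρ` to a subgroup -/
def resRep (ρ : Representation k Γ V) (Γ₀ : Subgroup Γ) : Representation k ↥Γ₀ V :=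
  ρ.comp Γ₀.subtype

@[simp] theorem resRep_apply (ρ : Representation k Γ V) (Γ₀ : Subgroup Γ) (g : ↥Γ₀) :
    resRep ρ Γ₀ g = ρ (g : Γ) := rfl

/-- `N₀ = (Q ⊔ R) ∩ ker ρ` -/
def kerQR (ρ : Representation k Γ V) (Q R : Subgroup Γ) : Subgroup Γ := (Q ⊔ R) ⊓ ρ.ker

theorem kerQR_le_ker (ρ : Representation k Γ V) (Q R : Subgroup Γ) : kerQR ρ Q R ≤ ρ.ker :=
  inf_le_right

theorem mem_kerQR {ρ : Representation k Γ V} {Q R : Subgroup Γ} {g : Γ} :
    g ∈ kerQR ρ Q R ↔ g ∈ Q ⊔ R ∧ ρ g = 1 := by
  unfold kerQR
  rw [Subgroup.mem_inf, MonoidHom.mem_ker]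

/-- the representation induced on `Γ ⧸ N` for a normal subgroup `N ≤ ker ρ` -/
def quotGrpRep (ρ : Representation k Γ V) (N : Subgroup Γ) [N.Normal] (hN : N ≤ ρ.ker) :
    Representation k (Γ ⧸ N) V :=
  QuotientGroup.lift N ρ hN

@[simp] theorem quotGrpRep_mk (ρ : Representation k Γ V) (N : Subgroup Γ) [N.Normal]
    (hN : N ≤ ρ.ker) (g : Γ) : quotGrpRep ρ N hN (g : Γ ⧸ N) = ρ g := rfl

end Cfsg.Agent.Helper5.FPQR
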