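import Mathlib
import Cfsg.Agent.Lib.FPQ.FPQRDefs

/-!
# S4306 reductions (helper5), piece FPQR-AVG

Hint: `v' = (|K| : k)⁻¹ • ∑ g : ↥K, ρ g v` (use `Fintype.ofFinite`). `v' - v = (|K|)⁻¹ • ∑ (ρ g v - v) ∈ U`. `K` fixes `v'` by reindexing the sum (`Fintype.sum_equiv (Equiv.mulLeft a)`/`Equiv.sum_comp`). `l ∈ L` fixes `v'`: `ρ l (ρ g v) = ρ g (ρ (g⁻¹ l g) v) = ρ g v` because `g⁻¹ * l * g ∈ L` (`hKL`, `Subgroup.mem_normalizer_iff` applied to `g⁻¹`).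
-/

set_option autoImplicit false
set_option linter.unusedSectionVars false

namespace Cfsg.Agent.Helper5.FPQR

open Module Cfsg.Agent.Helper8.FrobLin Cfsg.Agent.Helper4.FPQ

universe u v w

variable {k : Type w} [Field k] {Γ : Type u} [Group Γ] {V : Type v} [AddCommGroup V] [Module k V]

theorem exists_fixed_add_mem [Finite Γ] (ρ : Representation k Γ V) (U : Submodule k V)
    (hU : Inv ρ U) (K L : Subgroup Γ) (hK : (Nat.card ↥K : k) ≠ 0)
    (hKL : K ≤ Subgroup.normalizer (L : Set Γ)) (v : V)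
    (hvK : ∀ g ∈ K, ρ g v - v ∈ U) (hvL : ∀ g ∈ L, ρ g v = v) :
    ∃ v' : V, v' - v ∈ U ∧ (∀ g ∈ K, ρ g v' = v') ∧ ∀ g ∈ L, ρ g v' = v' := by
  classical
  letI : Fintype ↥K := Fintype.ofFinite _
  have hmul : ∀ a b : Γ, ∀ x : V, ρ a (ρ b x) = ρ (a * b) x := by
    intro a b x
    rw [map_mul]
    rfl
  refine ⟨(Nat.card ↥K : k)⁻¹ • ∑ g : ↥K, ρ (g : Γ) v, ?_, ?_, ?_⟩
  · have e : (Nat.card ↥K : k)⁻¹ • ∑ g : ↥K, ρ (g : Γ) v - v =
        (Nat.card ↥K : k)⁻¹ • ∑ g : ↥K, (ρ (g : Γ) v - v) := by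
      rw [Finset.sum_sub_distrib, Finset.sum_const, Finset.card_univ, smul_sub,
        ← Nat.card_eq_fintype_card, ← Nat.cast_smul_eq_nsmul k, smul_smul, inv_mul_cancel₀ hK,
        one_smul]
    rw [e]
    exact U.smul_mem _ (U.sum_mem fun g _ => hvK g g.2)
  · intro a ha
    rw [map_smul, map_sum]
    congr 1
    have e : ∀ g : ↥K, ρ a (ρ (g : Γ) v) = ρ (((⟨a, ha⟩ : ↥K) * g : ↥K) : Γ) v := by
      intro g
      rw [hmul]
      rfl
    simp_rw [e]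
    exact Fintype.sum_equiv (Equiv.mulLeft (⟨a, ha⟩ : ↥K)) _ _ (fun g => rfl)
  · intro l hl
    rw [map_smul, map_sum]
    congr 1
    apply Finset.sum_congr rfl
    intro g _
    have hmem : (g : Γ)⁻¹ * l * (g : Γ) ∈ L := by
      have h1 := (Subgroup.mem_normalizer_iff.1 (hKL (K.inv_mem g.2)) l).1 hl
      rwa [inv_inv] at h1
    have e : ρ l (ρ (g : Γ) v) = ρ (g : Γ) (ρ ((g : Γ)⁻¹ * l * (g : Γ)) v) := by
      rw [hmul, hmul]
      congr 2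
      group
    rw [e, hvL _ hmem]

end Cfsg.Agent.Helper5.FPQR
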