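import Mathlib
import Cfsg.Agent.Lib.FPQ.FPQRDefs
import Cfsg.Agent.Lib.Helper7.Signalizer

/-!
# S4306 reductions (helper5), piece FPQR-SUPCARD
-/

set_option autoImplicit false
set_option linter.unusedSectionVars false

namespace Cfsg.Agent.Helper5.FPQR

open Module Cfsg.Agent.Helper8.FrobLin Cfsg.Agent.Helper4.FPQ

universe u v w

variable {k : Type w} [Field k] {Γ : Type u} [Group Γ] {V : Type v} [AddCommGroup V] [Module k V]

theorem card_sup_dvd_mul [Finite Γ] {Q R : Subgroup Γ}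
    (h : R ≤ Subgroup.normalizer (Q : Set Γ)) :
    Nat.card ↥(Q ⊔ R) ∣ Nat.card ↥Q * Nat.card ↥R :=
  Cfsg.Agent.Helper7.card_sup_dvd_mul_of_le_normalizer h

end Cfsg.Agent.Helper5.FPQR
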