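import Mathlib
import Cfsg.Agent.Lib.FPQ.FPQRDefs
import Cfsg.Agent.Lib.FPQ.FPQRSUPCARD

/-!
# S4306 reductions (helper5), piece FPQR-DISJ

Hint: `Nat.card (Q ⊔ R) ∣ s ^ a * t ^ b` (`card_sup_dvd_mul` with `hyp.RQ`, `IsPGroup.iff_card`/`IsPGroup.exists_card_eq`), coprime to `p` and `q`; `F ⊓ (Q ⊔ R)` has order dividing `p` (Lagrange `Subgroup.card_dvd_of_le`) and dividing `s ^ a * t ^ b`, so it is `1` (`Subgroup.card_eq_one`/`Subgroup.eq_bot_of_card_eq`). Same for `H`.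
-/

set_option autoImplicit false
set_option linter.unusedSectionVars false

namespace Cfsg.Agent.Helper5.FPQR

open Module Cfsg.Agent.Helper8.FrobLin Cfsg.Agent.Helper4.FPQ

universe u v w

variable {k : Type w} [Field k] {Γ : Type u} [Group Γ] {V : Type v} [AddCommGroup V] [Module k V]

/-- a subgroup of prime order `r` meets `Q ⊔ R` trivially when `r ≠ s, t` -/
theorem fpqr_disj_aux [Finite Γ] {X Q R : Subgroup Γ} {r s t : ℕ} (hr : r.Prime) (hs : s.Prime)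
    (ht : t.Prime) (hsr : s ≠ r) (htr : t ≠ r) (hX : Nat.card ↥X = r) (hQ : IsPGroup s ↥Q)
    (hR : IsPGroup t ↥R) (hRQ : R ≤ Subgroup.normalizer (Q : Set Γ)) : X ⊓ (Q ⊔ R) = ⊥ := by
  haveI : Fact s.Prime := ⟨hs⟩
  haveI : Fact t.Prime := ⟨ht⟩
  obtain ⟨a, ha⟩ := IsPGroup.iff_card.mp hQ
  obtain ⟨b, hb⟩ := IsPGroup.iff_card.mp hR
  have h1 : Nat.card ↥(Q ⊔ R) ∣ s ^ a * t ^ b := by
    rw [← ha, ← hb]
    exact card_sup_dvd_mul hRQ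
  have h2 : Nat.card ↥(X ⊓ (Q ⊔ R)) ∣ r := by
    rw [← hX]
    exact Subgroup.card_dvd_of_le inf_le_left
  have h3 : Nat.card ↥(X ⊓ (Q ⊔ R)) ∣ s ^ a * t ^ b :=
    (Subgroup.card_dvd_of_le inf_le_right).trans h1
  have hcop : Nat.Coprime r (s ^ a * t ^ b) := by
    apply Nat.Coprime.mul_right
    · exact Nat.Coprime.pow_right _ ((Nat.coprime_primes hr hs).mpr hsr.symm)
    · exact Nat.Coprime.pow_right _ ((Nat.coprime_primes hr ht).mpr htr.symm)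
  have h4 : Nat.card ↥(X ⊓ (Q ⊔ R)) ∣ 1 := by
    rw [← Nat.Coprime.gcd_eq_one hcop]
    exact Nat.dvd_gcd h2 h3
  exact Subgroup.card_eq_one.mp (Nat.dvd_one.mp h4)

theorem inf_sup_eq_bot [Finite Γ] {ρ : Representation k Γ V} {F H Q R : Subgroup Γ}
    {p q s t : ℕ} (hyp : Hyp ρ F H Q R p q s t) :
    F ⊓ (Q ⊔ R) = ⊥ ∧ H ⊓ (Q ⊔ R) = ⊥ :=
  ⟨fpqr_disj_aux hyp.hp hyp.hs hyp.ht hyp.hsp hyp.htp hyp.cardF hyp.Qs hyp.Rt hyp.RQ,
    fpqr_disj_aux hyp.hq hyp.hs hyp.ht hyp.hsq hyp.htq hyp.cardH hyp.Qs hyp.Rt hyp.RQ⟩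

end Cfsg.Agent.Helper5.FPQR
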