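import Mathlib
import Cfsg.Agent.Lib.FPQ.FPQRDefs

/-!
# S4306 reductions (helper5), piece FPQR-FIXPT

Hint: `σ : X → X`, `y ↦ z * y * z⁻¹` satisfies `σ^[r] = id`, so `Equiv.Perm.card_fixedPoints_modEq` (with `p ^ 1`) or `MulAction.IsPGroup.card_modEq_card_fixedPoints` for `zpowers z` gives `|X| ≡ |fixed points| mod r`; as `r ∤ |X|` there is a fixed point `y`: `z * y * z⁻¹ = y`.
-/

set_option autoImplicit false
set_option linter.unusedSectionVars false

namespace Cfsg.Agent.Helper5.FPQR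

open Module Cfsg.Agent.Helper8.FrobLin Cfsg.Agent.Helper4.FPQ

universe u v w

variable {k : Type w} [Field k] {Γ : Type u} [Group Γ] {V : Type v} [AddCommGroup V] [Module k V]

/-- iterating conjugation by `z` -/
theorem fpqr_fixpt_iterate (z : Γ) (X : Set Γ) (hinv : ∀ y ∈ X, z * y * z⁻¹ ∈ X)
    (f : X → X) (hf : ∀ y : X, ((f y : X) : Γ) = z * (y : Γ) * z⁻¹) (n : ℕ) (y : X) :
    (((f^[n]) y : X) : Γ) = z ^ n * (y : Γ) * (z ^ n)⁻¹ := by
  induction n generalizing y with
  | zero => simp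
  | succ n ih =>
    rw [Function.iterate_succ_apply', hf, ih, pow_succ']
    group

theorem exists_commute_of_conj_invariant (r : ℕ) [Fact r.Prime] (z : Γ) (hz : z ^ r = 1)
    (X : Set Γ) (hXfin : X.Finite) (hinv : ∀ y ∈ X, z * y * z⁻¹ ∈ X) (hcard : ¬ r ∣ X.ncard) :
    ∃ y ∈ X, z * y = y * z := by
  classical
  haveI : Fintype X := hXfin.fintype
  let f : Function.End X := fun y => ⟨z * (y : Γ) * z⁻¹, hinv _ y.2⟩
  have hf : ∀ y : X, ((f y : X) : Γ) = z * (y : Γ) * z⁻¹ := fun y => rfl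
  have hiter : ∀ n : ℕ, ((f ^ n : Function.End X) : X → X) = f^[n] := by
    intro n
    induction n with
    | zero => rfl
    | succ n ih =>
      rw [pow_succ, Function.iterate_succ]
      show (f ^ n : Function.End X) ∘ f = f^[n] ∘ f
      rw [ih]
  have hpow : f ^ r ^ 1 = 1 := by
    rw [pow_one]
    funext y
    apply Subtype.ext
    have h1 : (f ^ r) y = (f^[r]) y := congrFun (hiter r) y
    rw [h1, fpqr_fixpt_iterate z X hinv f hf r y, hz]
    show (1 : Γ) * (y : Γ) * (1 : Γ)⁻¹ = (y : Γ)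
    simp
  have hmod := Equiv.Perm.card_fixedPoints_modEq (f := f) (p := r) (n := 1) hpow
  have hcardX : Fintype.card X = X.ncard := by
    rw [Set.ncard_eq_toFinset_card' X, Set.toFinset_card]
  have hne : Fintype.card (Function.fixedPoints f) ≠ 0 := by
    intro h0
    rw [h0, hcardX] at hmod
    exact hcard ((Nat.modEq_zero_iff_dvd).1 hmod)
  obtain ⟨⟨y, hy⟩⟩ := Fintype.card_pos_iff.1 (Nat.pos_of_ne_zero hne)
  refine ⟨(y : Γ), y.2, ?_⟩
  have h2 : z * (y : Γ) * z⁻¹ = (y : Γ) := by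
    have := congrArg (fun t : X => (t : Γ)) hy
    simpa [hf] using this
  calc z * (y : Γ) = z * (y : Γ) * z⁻¹ * z := by group
    _ = (y : Γ) * z := by rw [h2]

end Cfsg.Agent.Helper5.FPQR
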