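import Mathlib
import Cfsg.Agent.Lib.FPQ.FPQRDefs

/-!
# S4306 reductions (helper5), piece FPQR-GQCONCL (proved by helper25)

Hint: for `g ∈ Q`, `x ∈ R` apply `h (mk g) (Subgroup.mem_map_of_mem _ hg) (mk x) (…)`; `quotGrpRep_mk`.
-/

set_option autoImplicit false
set_option linter.unusedSectionVars false

namespace Cfsg.Agent.Helper5.FPQR

open Module Cfsg.Agent.Helper8.FrobLin Cfsg.Agent.Helper4.FPQ

universe u v w

variable {k : Type w} [Field k] {Γ : Type u} [Group Γ] {V : Type v} [AddCommGroup V] [Module k V]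

theorem gq_concl (ρ : Representation k Γ V) {Q R : Subgroup Γ} (N : Subgroup Γ) [N.Normal]
    (hN : N ≤ ρ.ker)
    (h : Concl (quotGrpRep ρ N hN) (Q.map (QuotientGroup.mk' N)) (R.map (QuotientGroup.mk' N))) :
    Concl ρ Q R := by
  intro g hg x hx
  have h1 := h (QuotientGroup.mk' N g) (Subgroup.mem_map_of_mem _ hg)
    (QuotientGroup.mk' N x) (Subgroup.mem_map_of_mem _ hx)
  simpa using h1

end Cfsg.Agent.Helper5.FPQR
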