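import Mathlib
import Cfsg.Agent.Lib.FPQ.FPQRDefs

/-!
# S4306 reductions (helper5), piece FPQR-GQFIX

Hint: `ext v`, `mem_fixedBy` twice, `Subgroup.mem_map`, `quotGrpRep_mk` (`QuotientGroup.mk' N g = (g : Γ ⧸ N)` by `rfl`).
-/

set_option autoImplicit false
set_option linter.unusedSectionVars false

namespace Cfsg.Agent.Helper5.FPQR

open Module Cfsg.Agent.Helper8.FrobLin Cfsg.Agent.Helper4.FPQ

universe u v w

variable {k : Type w} [Field k] {Γ : Type u} [Group Γ] {V : Type v} [AddCommGroup V] [Module k V]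

theorem fixedBy_quotGrpRep (ρ : Representation k Γ V) (N : Subgroup Γ) [N.Normal]
    (hN : N ≤ ρ.ker) (K : Subgroup Γ) :
    fixedBy (quotGrpRep ρ N hN) (K.map (QuotientGroup.mk' N)) = fixedBy ρ K := by
  ext v
  rw [mem_fixedBy, mem_fixedBy]
  constructor
  · intro hv g hg
    have h1 := hv (QuotientGroup.mk' N g) (Subgroup.mem_map_of_mem _ hg)
    exact h1
  · rintro hv _ ⟨g, hg, rfl⟩
    exact hv g hg

end Cfsg.Agent.Helper5.FPQR
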