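import Mathlib
import Cfsg.Agent.Lib.FPQ.FPQRDefs

/-!
# S4306 reductions (helper5), piece FPQR-GQFROB

Hint: `f = mk f₀`, `h = mk h₀` (`Subgroup.mem_map`). From `mk (f₀ h₀) = mk (h₀ f₀)`: `f₀⁻¹ * (h₀⁻¹ * f₀ * h₀) ∈ N` (`QuotientGroup.eq`), and it lies in `F` because `h₀⁻¹` normalises `F`. So it is `1` by `hFN`, i.e. `f₀ * h₀ = h₀ * f₀`; conclude by `frob`.
-/

set_option autoImplicit false
set_option linter.unusedSectionVars false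

namespace Cfsg.Agent.Helper5.FPQR

open Module Cfsg.Agent.Helper8.FrobLin Cfsg.Agent.Helper4.FPQ

universe u v w

variable {k : Type w} [Field k] {Γ : Type u} [Group Γ] {V : Type v} [AddCommGroup V] [Module k V]

theorem gq_frob {F H N : Subgroup Γ} [N.Normal] (HF : H ≤ Subgroup.normalizer (F : Set Γ))
    (frob : ∀ f ∈ F, ∀ h ∈ H, f * h = h * f → f = 1 ∨ h = 1) (hFN : F ⊓ N = ⊥) :
    ∀ f ∈ F.map (QuotientGroup.mk' N), ∀ h ∈ H.map (QuotientGroup.mk' N),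
      f * h = h * f → f = 1 ∨ h = 1 := by
  rintro _ ⟨f₀, hf₀, rfl⟩ _ ⟨h₀, hh₀, rfl⟩ hcomm
  have h0 : (QuotientGroup.mk' N) (h₀ * f₀) = (QuotientGroup.mk' N) (f₀ * h₀) := by
    rw [map_mul, map_mul]
    exact hcomm.symm
  have h1 : (h₀ * f₀)⁻¹ * (f₀ * h₀) ∈ N := QuotientGroup.eq.mp h0
  have h2 : f₀⁻¹ * (h₀⁻¹ * f₀ * h₀) ∈ N := by
    have e : (h₀ * f₀)⁻¹ * (f₀ * h₀) = f₀⁻¹ * (h₀⁻¹ * f₀ * h₀) := by
      simp only [mul_inv_rev, mul_assoc]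
    rw [← e]
    exact h1
  have h3 : h₀⁻¹ * f₀ * h₀ ∈ F := by
    have hn := (Subgroup.mem_normalizer_iff.mp (HF (H.inv_mem hh₀))) f₀
    have h4 := hn.mp hf₀
    rw [inv_inv] at h4
    exact h4
  have h5 : f₀⁻¹ * (h₀⁻¹ * f₀ * h₀) ∈ F ⊓ N := ⟨F.mul_mem (F.inv_mem hf₀) h3, h2⟩
  rw [hFN, Subgroup.mem_bot] at h5
  have h6 : f₀ * h₀ = h₀ * f₀ := by
    have h7 : h₀⁻¹ * f₀ * h₀ = f₀ := by
      have := congrArg (fun x => f₀ * x) h5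
      simpa [mul_assoc] using this
    calc f₀ * h₀ = h₀ * (h₀⁻¹ * f₀ * h₀) := by simp only [mul_assoc, mul_inv_cancel_left]
      _ = h₀ * f₀ := by rw [h7]
  rcases frob f₀ hf₀ h₀ hh₀ h6 with h | h
  · left
    rw [h, map_one]
  · right
    rw [h, map_one]

end Cfsg.Agent.Helper5.FPQR
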