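import Mathlib
import Cfsg.Agent.Lib.FPQ.FPQRDefs

/-!
# S4306 reductions (helper5), piece FPQR-GQTOP (proved by helper28)

Hint: `← Subgroup.map_sup` three times, `top`, `Subgroup.map_top_of_surjective` with `QuotientGroup.mk'_surjective`.
-/

set_option autoImplicit false
set_option linter.unusedSectionVars false

namespace Cfsg.Agent.Helper5.FPQR

open Module Cfsg.Agent.Helper8.FrobLin Cfsg.Agent.Helper4.FPQ

universe u v w

variable {k : Type w} [Field k] {Γ : Type u} [Group Γ] {V : Type v} [AddCommGroup V] [Module k V]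

theorem gq_top {F H Q R : Subgroup Γ} (N : Subgroup Γ) [N.Normal]
    (top : Q ⊔ R ⊔ F ⊔ H = ⊤) :
    Q.map (QuotientGroup.mk' N) ⊔ R.map (QuotientGroup.mk' N) ⊔ F.map (QuotientGroup.mk' N) ⊔
      H.map (QuotientGroup.mk' N) = ⊤ := by
  rw [← Subgroup.map_sup, ← Subgroup.map_sup, ← Subgroup.map_sup, top]
  exact Subgroup.map_top_of_surjective _ (QuotientGroup.mk'_surjective N)

end Cfsg.Agent.Helper5.FPQR
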