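import Mathlib
import Cfsg.Agent.Lib.FPQ.FPQRDefs

/-!
# S4306 reductions (helper5), piece FPQR-KERSPLIT
-/

set_option autoImplicit false
set_option linter.unusedSectionVars false

namespace Cfsg.Agent.Helper5.FPQR

open Module Cfsg.Agent.Helper8.FrobLin Cfsg.Agent.Helper4.FPQ

universe u v w

variable {k : Type w} [Field k] {Γ : Type u} [Group Γ] {V : Type v} [AddCommGroup V] [Module k V]

theorem kerQR_eq_bot_of {ρ : Representation k Γ V} {F H Q R : Subgroup Γ} {p q s t : ℕ}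
    (hyp : Hyp ρ F H Q R p q s t) (hQ : Q ⊓ ρ.ker = ⊥) (hR : R ⊓ ρ.ker = ⊥) :
    kerQR ρ Q R = ⊥ := by
  rw [eq_bot_iff]
  intro g hg
  obtain ⟨hgQR, hg1⟩ := mem_kerQR.1 hg
  have hmem : g ∈ ((Q ⊔ R : Subgroup Γ) : Set Γ) := hgQR
  rw [Subgroup.coe_mul_of_right_le_normalizer_left Q R hyp.RQ] at hmem
  obtain ⟨a, ha, x, hx, rfl⟩ := hmem
  have ha' : a ∈ Q := ha
  have hx' : x ∈ R := hx
  -- `ρ a = ρ x⁻¹`
  have hax : ρ a = ρ x⁻¹ := by
    have h1 : ρ a * ρ x = 1 := by rw [← map_mul]; exact hg1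
    calc ρ a = ρ a * (ρ x * ρ x⁻¹) := by rw [← map_mul, mul_inv_cancel, map_one, mul_one]
      _ = (ρ a * ρ x) * ρ x⁻¹ := by rw [mul_assoc]
      _ = ρ x⁻¹ := by rw [h1, one_mul]
  obtain ⟨i, hi⟩ := hyp.Qs ⟨a, ha'⟩
  obtain ⟨j, hj⟩ := hyp.Rt ⟨x, hx'⟩
  have hi' : a ^ s ^ i = 1 := by simpa using congrArg Subtype.val hi
  have hj' : x ^ t ^ j = 1 := by simpa using congrArg Subtype.val hj
  have h1 : (ρ a) ^ s ^ i = 1 := by rw [← map_pow, hi', map_one]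
  have h2 : (ρ a) ^ t ^ j = 1 := by rw [hax, ← map_pow, inv_pow, hj', inv_one, map_one]
  have hcop : Nat.Coprime (s ^ i) (t ^ j) :=
    Nat.Coprime.pow i j ((Nat.coprime_primes hyp.hs hyp.ht).2 hyp.hst)
  have hρa : ρ a = 1 := by
    have d1 := orderOf_dvd_of_pow_eq_one h1
    have d2 := orderOf_dvd_of_pow_eq_one h2
    have d3 := Nat.dvd_gcd d1 d2
    rw [hcop.gcd_eq_one, Nat.dvd_one] at d3
    exact orderOf_eq_one_iff.1 d3
  have ha1 : a = 1 := by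
    have : a ∈ Q ⊓ ρ.ker := Subgroup.mem_inf.2 ⟨ha', MonoidHom.mem_ker.2 hρa⟩
    rw [hQ, Subgroup.mem_bot] at this
    exact this
  have hρx : ρ x = 1 := by
    have : ρ (a * x) = 1 := hg1
    rwa [ha1, one_mul] at this
  have hx1 : x = 1 := by
    have : x ∈ R ⊓ ρ.ker := Subgroup.mem_inf.2 ⟨hx', MonoidHom.mem_ker.2 hρx⟩
    rw [hR, Subgroup.mem_bot] at this
    exact this
  rw [Subgroup.mem_bot, ha1, hx1]
  exact one_mul 1

end Cfsg.Agent.Helper5.FPQR
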