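import Mathlib
import Cfsg.Agent.Lib.FPQ.FPQRDefs
import Cfsg.Agent.Lib.FPQ.FPQRFIXPT

/-!
# S4306 reductions (helper5), piece FPQR-LIFT

`C_K(FH) = 1` passes to `Γ ⧸ N`: let `ḡ = mk g₀`, `g₀ ∈ K`, be centralised by `F̄` and `H̄`.
`F = ⟨z⟩`, `z ^ p = 1`, `H = ⟨w⟩`, `w ^ q = 1`.  The coset `g₀ (K ⊓ N)` is stable under conjugation by
`z` and has order prime to `p`, so contains `y₁` commuting with `z`; the coset
`y₁ (K ⊓ N ⊓ C(F))` is stable under conjugation by `w` and has order prime to `q`, so contains `y₂`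
commuting with `w`.  Then `y₂ ∈ C_K(FH) = 1` and `ḡ = mk y₂ = 1`.
-/

set_option autoImplicit false
set_option linter.unusedSectionVars false

namespace Cfsg.Agent.Helper5.FPQR

open Module Cfsg.Agent.Helper8.FrobLin Cfsg.Agent.Helper4.FPQ

universe u v w

variable {k : Type w} [Field k] {Γ : Type u} [Group Γ] {V : Type v} [AddCommGroup V] [Module k V]

theorem fpqr_lift_step [Finite Γ] (r : ℕ) [Fact r.Prime] (z : Γ) (hz : z ^ r = 1)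
    (M : Subgroup Γ) (hM : ¬ r ∣ Nat.card ↥M) (y₀ : Γ)
    (hinv : ∀ n ∈ M, y₀⁻¹ * (z * (y₀ * n) * z⁻¹) ∈ M) :
    ∃ n ∈ M, z * (y₀ * n) = y₀ * n * z := by
  have hinj : Function.Injective (fun n : Γ => y₀ * n) := mul_right_injective y₀
  have h1 : ∀ y ∈ (fun n : Γ => y₀ * n) '' (M : Set Γ),
      z * y * z⁻¹ ∈ (fun n : Γ => y₀ * n) '' (M : Set Γ) := by
    rintro _ ⟨n, hn, rfl⟩
    refine ⟨y₀⁻¹ * (z * (y₀ * n) * z⁻¹), hinv n hn, ?_⟩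
    simp only [mul_inv_cancel_left]
  have h2 : ¬ r ∣ ((fun n : Γ => y₀ * n) '' (M : Set Γ)).ncard := by
    rw [Set.ncard_image_of_injective _ hinj, ← Nat.card_coe_set_eq]
    exact hM
  obtain ⟨y, hy, hyz⟩ := exists_commute_of_conj_invariant r z hz _ (Set.toFinite _) h1 h2
  obtain ⟨n, hn, rfl⟩ := hy
  exact ⟨n, hn, hyz⟩

theorem fpqr_lift_gen [Finite Γ] {F : Subgroup Γ} {p : ℕ} (hp : p.Prime)
    (cardF : Nat.card ↥F = p) :
    ∃ z ∈ F, z ^ p = 1 ∧ ∀ f ∈ F, f ∈ Subgroup.zpowers z := by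
  have hpF : Fact p.Prime := ⟨hp⟩
  have hcyc : IsCyclic ↥F := isCyclic_of_prime_card cardF
  obtain ⟨⟨z, hzF⟩, hz⟩ := IsCyclic.exists_generator (α := ↥F)
  refine ⟨z, hzF, ?_, ?_⟩
  · have h := pow_card_eq_one' (G := ↥F) (x := ⟨z, hzF⟩)
    rw [cardF] at h
    have h' := congrArg Subtype.val h
    simpa using h'
  · intro f hf
    obtain ⟨m, hm⟩ := Subgroup.mem_zpowers_iff.1 (hz ⟨f, hf⟩)
    refine Subgroup.mem_zpowers_iff.2 ⟨m, ?_⟩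
    have h' := congrArg Subtype.val hm
    simpa using h'

theorem fpqr_lift_comm {z y : Γ} (h : z * y = y * z) :
    ∀ f ∈ Subgroup.zpowers z, f * y = y * f := by
  intro f hf
  obtain ⟨m, rfl⟩ := Subgroup.mem_zpowers_iff.1 hf
  exact (Commute.zpow_left (show Commute z y from h) m).eq

theorem fpqr_lift_not_dvd {a b r : ℕ} (hr : r.Prime) (hab : a ∣ b) (hb : b.Coprime r) :
    ¬ r ∣ a := by
  intro h
  exact hr.ne_one (Nat.Coprime.eq_one_of_dvd hb.symm (h.trans hab))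

theorem fixed_lift [Finite Γ] {F H K : Subgroup Γ} (N : Subgroup Γ) [N.Normal] {p q : ℕ}
    (hp : p.Prime) (hq : q.Prime) (cardF : Nat.card ↥F = p) (cardH : Nat.card ↥H = q)
    (HF : H ≤ Subgroup.normalizer (F : Set Γ)) (FK : F ≤ Subgroup.normalizer (K : Set Γ))
    (HK : H ≤ Subgroup.normalizer (K : Set Γ)) (hKp : (Nat.card ↥K).Coprime p)
    (hKq : (Nat.card ↥K).Coprime q)
    (cK : ∀ g ∈ K, (∀ f ∈ F, f * g = g * f) → (∀ h ∈ H, h * g = g * h) → g = 1) :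
    ∀ g ∈ K.map (QuotientGroup.mk' N), (∀ f ∈ F.map (QuotientGroup.mk' N), f * g = g * f) →
      (∀ h ∈ H.map (QuotientGroup.mk' N), h * g = g * h) → g = 1 := by
  intro g hg hgF hgH
  obtain ⟨g₀, hg₀K, rfl⟩ := Subgroup.mem_map.1 hg
  have hpF : Fact p.Prime := ⟨hp⟩
  have hqF : Fact q.Prime := ⟨hq⟩
  obtain ⟨z, hzF, hzp, hzgen⟩ := fpqr_lift_gen hp cardF
  obtain ⟨w, hwH, hwq, hwgen⟩ := fpqr_lift_gen hq cardH
  have hzc : (z : Γ ⧸ N) * (g₀ : Γ ⧸ N) = (g₀ : Γ ⧸ N) * (z : Γ ⧸ N) :=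
    hgF _ (Subgroup.mem_map_of_mem _ hzF)
  have hwc : (w : Γ ⧸ N) * (g₀ : Γ ⧸ N) = (g₀ : Γ ⧸ N) * (w : Γ ⧸ N) :=
    hgH _ (Subgroup.mem_map_of_mem _ hwH)
  have hzK := Subgroup.mem_normalizer_iff.1 (FK hzF)
  have hwK := Subgroup.mem_normalizer_iff.1 (HK hwH)
  have hwF := Subgroup.mem_normalizer_iff.1 (HF hwH)
  have key : ∀ a b : Γ ⧸ N, b * a = a * b → a⁻¹ * (b * a * b⁻¹) = 1 := by
    intro a b h
    rw [h]
    group
  -- step A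
  obtain ⟨n₁, hn₁, hy₁⟩ := fpqr_lift_step p z hzp (K ⊓ N)
    (fpqr_lift_not_dvd hp (Subgroup.card_dvd_of_le inf_le_left) hKp) g₀ (by
      intro n hn
      rw [Subgroup.mem_inf] at hn
      refine Subgroup.mem_inf.2
        ⟨K.mul_mem (K.inv_mem hg₀K) ((hzK _).1 (K.mul_mem hg₀K hn.1)), ?_⟩
      rw [← QuotientGroup.eq_one_iff]
      have hn1 : ((n : Γ) : Γ ⧸ N) = 1 := (QuotientGroup.eq_one_iff n).2 hn.2
      simp only [QuotientGroup.mk_mul, QuotientGroup.mk_inv, hn1, mul_one]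
      exact key _ _ hzc)
  have hy₁K : g₀ * n₁ ∈ K := K.mul_mem hg₀K hn₁.1
  have hn₁1 : ((n₁ : Γ) : Γ ⧸ N) = 1 := (QuotientGroup.eq_one_iff n₁).2 hn₁.2
  have hy₁mk : ((g₀ * n₁ : Γ) : Γ ⧸ N) = (g₀ : Γ ⧸ N) := by
    rw [QuotientGroup.mk_mul, (QuotientGroup.eq_one_iff n₁).2 hn₁.2, mul_one]
  have hy₁F : ∀ f ∈ F, f * (g₀ * n₁) = g₀ * n₁ * f :=
    fun f hf => fpqr_lift_comm hy₁ f (hzgen f hf)
  have hy₁C : g₀ * n₁ ∈ Subgroup.centralizer (F : Set Γ) :=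
    Subgroup.mem_centralizer_iff.2 hy₁F
  -- conjugation by `w` preserves the centraliser of `F`
  have hwC : ∀ a ∈ Subgroup.centralizer (F : Set Γ),
      w * a * w⁻¹ ∈ Subgroup.centralizer (F : Set Γ) := by
    intro a ha
    rw [Subgroup.mem_centralizer_iff] at ha ⊢
    intro f hf
    have hf' : w⁻¹ * f * w ∈ F := by
      have := (hwF (w⁻¹ * f * w)).2 (by
        have : w * (w⁻¹ * f * w) * w⁻¹ = f := by group
        rw [this]; exact hf)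
      exact this
    have := ha _ hf'
    calc f * (w * a * w⁻¹) = w * ((w⁻¹ * f * w) * a) * w⁻¹ := by group
      _ = w * (a * (w⁻¹ * f * w)) * w⁻¹ := by rw [this]
      _ = w * a * w⁻¹ * f := by group
  -- step B
  obtain ⟨n₂, hn₂, hy₂⟩ := fpqr_lift_step q w hwq (K ⊓ N ⊓ Subgroup.centralizer (F : Set Γ))
    (fpqr_lift_not_dvd hq (Subgroup.card_dvd_of_le (inf_le_left.trans inf_le_left)) hKq)
    (g₀ * n₁) (by
      intro n hn
      rw [Subgroup.mem_inf, Subgroup.mem_inf] at hn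
      refine Subgroup.mem_inf.2 ⟨Subgroup.mem_inf.2
        ⟨K.mul_mem (K.inv_mem hy₁K) ((hwK _).1 (K.mul_mem hy₁K hn.1.1)), ?_⟩, ?_⟩
      · rw [← QuotientGroup.eq_one_iff]
        have hn1 : ((n : Γ) : Γ ⧸ N) = 1 := (QuotientGroup.eq_one_iff n).2 hn.1.2
        simp only [QuotientGroup.mk_mul, QuotientGroup.mk_inv, hn1, hn₁1, mul_one]
        exact key _ _ hwc
      · exact Subgroup.mul_mem _ (Subgroup.inv_mem _ hy₁C)
          (hwC _ (Subgroup.mul_mem _ hy₁C hn.2)))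
  have hy₂K : g₀ * n₁ * n₂ ∈ K := K.mul_mem hy₁K hn₂.1.1
  have hy₂F : ∀ f ∈ F, f * (g₀ * n₁ * n₂) = g₀ * n₁ * n₂ * f :=
    Subgroup.mem_centralizer_iff.1 (Subgroup.mul_mem _ hy₁C hn₂.2)
  have hy₂H : ∀ h ∈ H, h * (g₀ * n₁ * n₂) = g₀ * n₁ * n₂ * h :=
    fun h hh => fpqr_lift_comm hy₂ h (hwgen h hh)
  have h1 := cK _ hy₂K hy₂F hy₂H
  have : ((g₀ * n₁ * n₂ : Γ) : Γ ⧸ N) = (g₀ : Γ ⧸ N) := by
    rw [QuotientGroup.mk_mul, (QuotientGroup.eq_one_iff n₂).2 hn₂.1.2, mul_one, hy₁mk]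
  show (g₀ : Γ ⧸ N) = 1
  rw [← this, h1]
  rfl

end Cfsg.Agent.Helper5.FPQR
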