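import Mathlib
import Cfsg.Agent.Lib.FPQ.FPQRDefs

/-!
# S4306 reductions (helper5), piece FPQR-MAPCARD
-/

set_option autoImplicit false
set_option linter.unusedSectionVars false

namespace Cfsg.Agent.Helper5.FPQR

open Module Cfsg.Agent.Helper8.FrobLin Cfsg.Agent.Helper4.FPQ

universe u v w

variable {k : Type w} [Field k] {Γ : Type u} [Group Γ] {V : Type v} [AddCommGroup V] [Module k V]

theorem fpqr_mapcard_inj_iff (K N : Subgroup Γ) [N.Normal] :
    Function.Injective ((QuotientGroup.mk' N).subgroupMap K) ↔ K ⊓ N = ⊥ := by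
  rw [injective_iff_map_eq_one]
  constructor
  · intro h
    rw [eq_bot_iff]
    intro x hx
    obtain ⟨hxK, hxN⟩ := Subgroup.mem_inf.1 hx
    have h1 : (QuotientGroup.mk' N).subgroupMap K ⟨x, hxK⟩ = 1 := by
      apply Subtype.ext
      exact (QuotientGroup.eq_one_iff x).2 hxN
    have := h _ h1
    rw [Subgroup.mem_bot]
    exact congrArg Subtype.val this
  · intro h x hx
    have hxN : (x : Γ) ∈ N := (QuotientGroup.eq_one_iff (x : Γ)).1 (congrArg Subtype.val hx)
    have : (x : Γ) ∈ K ⊓ N := Subgroup.mem_inf.2 ⟨x.2, hxN⟩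
    rw [h, Subgroup.mem_bot] at this
    exact Subtype.ext this

theorem card_map_mk_of_inf_eq_bot {K N : Subgroup Γ} [N.Normal] (h : K ⊓ N = ⊥) :
    Nat.card ↥(K.map (QuotientGroup.mk' N)) = Nat.card ↥K :=
  (Nat.card_congr (Equiv.ofBijective _ ⟨(fpqr_mapcard_inj_iff K N).2 h,
    (QuotientGroup.mk' N).subgroupMap_surjective K⟩)).symm

theorem card_map_mk_le [Finite Γ] (K N : Subgroup Γ) [N.Normal] :
    Nat.card ↥(K.map (QuotientGroup.mk' N)) ≤ Nat.card ↥K :=
  Nat.card_le_card_of_surjective _ ((QuotientGroup.mk' N).subgroupMap_surjective K)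

theorem card_map_mk_lt [Finite Γ] {K N : Subgroup Γ} [N.Normal] (h : K ⊓ N ≠ ⊥) :
    Nat.card ↥(K.map (QuotientGroup.mk' N)) < Nat.card ↥K := by
  classical
  have := Fintype.ofFinite ↥K
  have := Fintype.ofFinite ↥(K.map (QuotientGroup.mk' N))
  rw [Nat.card_eq_fintype_card, Nat.card_eq_fintype_card]
  exact Fintype.card_lt_of_surjective_not_injective _
    ((QuotientGroup.mk' N).subgroupMap_surjective K)
    (fun hinj => h ((fpqr_mapcard_inj_iff K N).1 hinj))

end Cfsg.Agent.Helper5.FPQR
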