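import Mathlib
import Cfsg.Agent.Lib.FPQ.FPQRDefs

/-!
# S4306 reductions (helper5), piece FPQR-MAPNORM
-/

set_option autoImplicit false
set_option linter.unusedSectionVars false

namespace Cfsg.Agent.Helper5.FPQR

open Module Cfsg.Agent.Helper8.FrobLin Cfsg.Agent.Helper4.FPQ

universe u v w

variable {k : Type w} [Field k] {Γ : Type u} [Group Γ] {V : Type v} [AddCommGroup V] [Module k V]

theorem map_mk_le_normalizer {A B : Subgroup Γ} (N : Subgroup Γ) [N.Normal]
    (h : A ≤ Subgroup.normalizer (B : Set Γ)) :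
    A.map (QuotientGroup.mk' N) ≤
      Subgroup.normalizer ((B.map (QuotientGroup.mk' N) : Subgroup (Γ ⧸ N)) : Set (Γ ⧸ N)) :=
  (Subgroup.map_mono h).trans (Subgroup.le_normalizer_map _)

end Cfsg.Agent.Helper5.FPQR
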