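import Mathlib
import Cfsg.Agent.Lib.FPQ.FPQRDefs

/-!
# S4306 reductions (helper5), piece FPQR-QNORMAL

Hint: `Subgroup.normalizer_eq_top_iff` (or `Subgroup.normalizer_eq_top`): `⊤ = Q ⊔ R ⊔ F ⊔ H ≤ normalizer Q` by `sup_le` with `Subgroup.le_normalizer`, `hyp.RQ`, `hyp.FQ`, `hyp.HQ`.
-/

set_option autoImplicit false
set_option linter.unusedSectionVars false

namespace Cfsg.Agent.Helper5.FPQR

open Module Cfsg.Agent.Helper8.FrobLin Cfsg.Agent.Helper4.FPQ

universe u v w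

variable {k : Type w} [Field k] {Γ : Type u} [Group Γ] {V : Type v} [AddCommGroup V] [Module k V]

theorem left_normal_of_top {ρ : Representation k Γ V} {F H Q R : Subgroup Γ} {p q s t : ℕ}
    (hyp : Hyp ρ F H Q R p q s t) (top : Q ⊔ R ⊔ F ⊔ H = ⊤) : Q.Normal := by
  rw [← Subgroup.normalizer_eq_top_iff, eq_top_iff, ← top]
  exact sup_le (sup_le (sup_le Subgroup.le_normalizer hyp.RQ) hyp.FQ) hyp.HQ

end Cfsg.Agent.Helper5.FPQR
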