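import Mathlib
import Cfsg.Agent.Lib.FPQ.FPQRDefs
import Cfsg.Agent.Lib.FPQ.FPQRQNORMAL

/-!
# S4306 reductions (helper5), piece FPQR-QRNORMAL

Hint: same with `Q ⊔ R`: `Q, R ≤ Q ⊔ R ≤ normalizer (Q ⊔ R)`; an element normalising both `Q` and `R` normalises `Q ⊔ R` (`Subgroup.map_sup` for the conjugation automorphism `MulAut.conj g`, or `Subgroup.sup_induction`/closure induction).
-/

set_option autoImplicit false
set_option linter.unusedSectionVars false

namespace Cfsg.Agent.Helper5.FPQR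

open Module Cfsg.Agent.Helper8.FrobLin Cfsg.Agent.Helper4.FPQ

universe u v w

variable {k : Type w} [Field k] {Γ : Type u} [Group Γ] {V : Type v} [AddCommGroup V] [Module k V]

/-- an element normalising `A` and `B` normalises `A ⊔ B` -/
theorem fpqr_qrnormal_mem {A B : Subgroup Γ} {g : Γ} (hA : g ∈ Subgroup.normalizer (A : Set Γ))
    (hB : g ∈ Subgroup.normalizer (B : Set Γ)) : g ∈ Subgroup.normalizer ((A ⊔ B : Subgroup Γ) : Set Γ) := by
  rw [Subgroup.mem_normalizer_iff_map_conj_eq] at hA hB ⊢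
  rw [Subgroup.map_sup, hA, hB]

theorem sup_normal_of_top {ρ : Representation k Γ V} {F H Q R : Subgroup Γ} {p q s t : ℕ}
    (hyp : Hyp ρ F H Q R p q s t) (top : Q ⊔ R ⊔ F ⊔ H = ⊤) : (Q ⊔ R).Normal := by
  rw [← Subgroup.normalizer_eq_top_iff, eq_top_iff, ← top]
  refine sup_le (sup_le Subgroup.le_normalizer ?_) ?_
  · intro g hg
    exact fpqr_qrnormal_mem (hyp.FQ hg) (hyp.FR hg)
  · intro g hg
    exact fpqr_qrnormal_mem (hyp.HQ hg) (hyp.HR hg)

end Cfsg.Agent.Helper5.FPQR
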