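import Mathlib
import Cfsg.Agent.Lib.FPQ.FPQRDefs
import Cfsg.Agent.Lib.FPQ.FPQRAVG

/-!
# S4306 reductions (helper5), piece FPQR-QUOTHYP

Hint: all group fields are those of `hyp`; `fix`: take `x : V ⧸ U` fixed by `F` and `H`, `x = mk v` (`Submodule.Quotient.mk_surjective`/`induction_on`); then `ρ f v - v ∈ U` for `f ∈ F`, same for `H` (`quotRep_mk`, `Submodule.Quotient.eq`). Apply `exists_fixed_add_mem` with `K = F`, `L = ⊥` (`(Nat.card F : k) = p ≠ 0`), get `v₁`; check `ρ h v₁ - v₁ ∈ U` for `h ∈ H` (`= ρ h (v₁ - v) + (ρ h v - v) - (v₁ - v)`, `hU`); apply it again with `K = H`, `L = F` (`hyp.HF`), get `v₂` fixed by `F` and `H`, so `v₂ = 0` by `hyp.fix`; hence `v ∈ U` and `x = 0`.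
-/

set_option autoImplicit false
set_option linter.unusedSectionVars false

namespace Cfsg.Agent.Helper5.FPQR

open Module Cfsg.Agent.Helper8.FrobLin Cfsg.Agent.Helper4.FPQ

universe u v w

variable {k : Type w} [Field k] {Γ : Type u} [Group Γ] {V : Type v} [AddCommGroup V] [Module k V]

theorem quot_hyp [Finite Γ] {ρ : Representation k Γ V} {F H Q R : Subgroup Γ} {p q s t : ℕ}
    (hyp : Hyp ρ F H Q R p q s t) (U : Submodule k V) (hU : Inv ρ U) :
    Hyp (quotRep ρ U hU) F H Q R p q s t := by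
  refine ⟨hyp.hp, hyp.hq, hyp.hs, hyp.ht, hyp.hpq, hyp.hst, hyp.hsp, hyp.hsq, hyp.htp, hyp.htq,
    hyp.cardF, hyp.cardH, hyp.HF, hyp.frob, hyp.Qs, hyp.Rt, hyp.FQ, hyp.HQ, hyp.FR, hyp.HR,
    hyp.RQ, hyp.cQ, hyp.cR, hyp.pk, hyp.qk, hyp.sk, ?_⟩
  rw [eq_bot_iff]
  intro x hx
  rw [Submodule.mem_inf, mem_fixedBy, mem_fixedBy] at hx
  obtain ⟨v, rfl⟩ := Submodule.Quotient.mk_surjective U x
  have hF : ∀ f ∈ F, ρ f v - v ∈ U := by
    intro f hf
    have h1 := hx.1 f hf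
    rw [quotRep_mk, Submodule.Quotient.eq] at h1
    exact h1
  have hH : ∀ h ∈ H, ρ h v - v ∈ U := by
    intro h hh
    have h1 := hx.2 h hh
    rw [quotRep_mk, Submodule.Quotient.eq] at h1
    exact h1
  have hbot : F ≤ Subgroup.normalizer (((⊥ : Subgroup Γ) : Subgroup Γ) : Set Γ) := by
    intro g _
    rw [Subgroup.mem_normalizer_iff]
    intro h
    rw [Subgroup.mem_bot, Subgroup.mem_bot]
    constructor
    · rintro rfl
      group
    · intro h1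
      have h2 : h = g⁻¹ * (g * h * g⁻¹) * g := by group
      rw [h2, h1]
      group
  obtain ⟨v₁, hv₁U, hv₁F, -⟩ := exists_fixed_add_mem ρ U hU F ⊥
    (by rw [hyp.cardF]; exact hyp.pk) hbot v hF (by
      intro g hg
      rw [Subgroup.mem_bot.1 hg, map_one]
      rfl)
  have hH₁ : ∀ h ∈ H, ρ h v₁ - v₁ ∈ U := by
    intro h hh
    have e : ρ h v₁ - v₁ = ρ h (v₁ - v) + (ρ h v - v) - (v₁ - v) := by
      rw [map_sub]
      abel
    rw [e]
    exact U.sub_mem (U.add_mem (hU h _ hv₁U) (hH h hh)) hv₁U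
  obtain ⟨v₂, hv₂U, hv₂H, hv₂F⟩ := exists_fixed_add_mem ρ U hU H F
    (by rw [hyp.cardH]; exact hyp.qk) hyp.HF v₁ hH₁ hv₁F
  have hv₂ : v₂ = 0 := by
    have h1 : v₂ ∈ fixedBy ρ F ⊓ fixedBy ρ H := by
      rw [Submodule.mem_inf, mem_fixedBy, mem_fixedBy]
      exact ⟨hv₂F, hv₂H⟩
    rw [hyp.fix] at h1
    exact (Submodule.mem_bot k).1 h1
  have hvU : v ∈ U := by
    have e : v = - ((v₂ - v₁) + (v₁ - v)) + v₂ := by abel
    rw [e, hv₂, add_zero]
    exact U.neg_mem (U.add_mem (by rw [← hv₂]; exact hv₂U) hv₁U)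
  rw [Submodule.mem_bot]
  exact (Submodule.Quotient.mk_eq_zero U).2 hvU

end Cfsg.Agent.Helper5.FPQR
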