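import Mathlib
import Cfsg.Agent.Lib.FPQ.FPQRDefs

/-!
# S4306 reductions (helper5), piece FPQR-RESCARD

Hint: `Subgroup.subgroupOfEquivOfLe h` gives `K.subgroupOf Γ₀ ≃* K`; `Nat.card_congr`.
-/

set_option autoImplicit false
set_option linter.unusedSectionVars false

namespace Cfsg.Agent.Helper5.FPQR

open Module Cfsg.Agent.Helper8.FrobLin Cfsg.Agent.Helper4.FPQ

universe u v w

variable {k : Type w} [Field k] {Γ : Type u} [Group Γ] {V : Type v} [AddCommGroup V] [Module k V]

theorem card_subgroupOf {K Γ₀ : Subgroup Γ} (h : K ≤ Γ₀) :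
    Nat.card ↥(K.subgroupOf Γ₀) = Nat.card ↥K :=
  Nat.card_congr (Subgroup.subgroupOfEquivOfLe h).toEquiv

end Cfsg.Agent.Helper5.FPQR
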