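import Mathlib
import Cfsg.Agent.Lib.FPQ.FPQRDefs

/-!
# S4306 reductions (helper5), piece FPQR-RESCONCL

Hint: for `g ∈ Q`, `x ∈ R` apply `h ⟨g, hQ hg⟩ _ ⟨x, hR hx⟩ _`; `resRep_apply`.
-/

set_option autoImplicit false
set_option linter.unusedSectionVars false

namespace Cfsg.Agent.Helper5.FPQR

open Module Cfsg.Agent.Helper8.FrobLin Cfsg.Agent.Helper4.FPQ

universe u v w

variable {k : Type w} [Field k] {Γ : Type u} [Group Γ] {V : Type v} [AddCommGroup V] [Module k V]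

theorem res_concl {ρ : Representation k Γ V} {Q R Γ₀ : Subgroup Γ} (hQ : Q ≤ Γ₀) (hR : R ≤ Γ₀)
    (h : Concl (resRep ρ Γ₀) (Q.subgroupOf Γ₀) (R.subgroupOf Γ₀)) : Concl ρ Q R := by
  intro g hg x hx
  have h1 := h ⟨g, hQ hg⟩ (Subgroup.mem_subgroupOf.mpr hg) ⟨x, hR hx⟩
    (Subgroup.mem_subgroupOf.mpr hx)
  exact h1

end Cfsg.Agent.Helper5.FPQR
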