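import Mathlib
import Cfsg.Agent.Lib.FPQ.FPQRDefs

/-!
# S4306 reductions (helper5), piece FPQR-RESFIX

Hint: `ext v`, `mem_fixedBy` (Helper8.FrobLin) on both sides, `resRep_apply`, `Subgroup.mem_subgroupOf`; use `h` to turn `g ∈ K` into `⟨g, h hg⟩ : ↥Γ₀`.
-/

set_option autoImplicit false
set_option linter.unusedSectionVars false

namespace Cfsg.Agent.Helper5.FPQR

open Module Cfsg.Agent.Helper8.FrobLin Cfsg.Agent.Helper4.FPQ

universe u v w

variable {k : Type w} [Field k] {Γ : Type u} [Group Γ] {V : Type v} [AddCommGroup V] [Module k V]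

theorem fixedBy_resRep (ρ : Representation k Γ V) {K Γ₀ : Subgroup Γ} (h : K ≤ Γ₀) :
    fixedBy (resRep ρ Γ₀) (K.subgroupOf Γ₀) = fixedBy ρ K := by
  ext v
  rw [mem_fixedBy, mem_fixedBy]
  constructor
  · intro hv g hg
    exact hv ⟨g, h hg⟩ (Subgroup.mem_subgroupOf.mpr hg)
  · intro hv g hg
    exact hv (g : Γ) (Subgroup.mem_subgroupOf.mp hg)

end Cfsg.Agent.Helper5.FPQR
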