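import Mathlib
import Cfsg.Agent.Lib.FPQ.FPQRDefs

/-!
# S4306 reductions (helper5), piece FPQR-RESNORM (implemented by helper11)

Elementwise: `Subgroup.mem_normalizer_iff`, `Subgroup.mem_subgroupOf`; conjugation in `↥Γ₀` is conjugation in `Γ`.
-/

set_option autoImplicit false
set_option linter.unusedSectionVars false

namespace Cfsg.Agent.Helper5.FPQR

open Module Cfsg.Agent.Helper8.FrobLin Cfsg.Agent.Helper4.FPQ

universe u v w

variable {k : Type w} [Field k] {Γ : Type u} [Group Γ] {V : Type v} [AddCommGroup V] [Module k V]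

theorem subgroupOf_le_normalizer {A B : Subgroup Γ} (Γ₀ : Subgroup Γ)
    (hAB : A ≤ Subgroup.normalizer (B : Set Γ)) :
    A.subgroupOf Γ₀ ≤ Subgroup.normalizer ((B.subgroupOf Γ₀ : Subgroup ↥Γ₀) : Set ↥Γ₀) := by
  intro a ha
  rw [Subgroup.mem_subgroupOf] at ha
  have h1 := Subgroup.mem_normalizer_iff.mp (hAB ha)
  rw [Subgroup.mem_normalizer_iff]
  intro h
  rw [Subgroup.mem_subgroupOf, Subgroup.mem_subgroupOf]
  have h2 := h1 (h : Γ)
  simpa using h2

end Cfsg.Agent.Helper5.FPQR
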