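import Mathlib
import Cfsg.Agent.Lib.FPQ.FPQRDefs
import Cfsg.Agent.Lib.FPQ.FPQRRESNORM
import Cfsg.Agent.Lib.FPQ.FPQRRESCARD
import Cfsg.Agent.Lib.FPQ.FPQRRESFIX

/-!
# S4306 reductions (helper5), piece FPQR-RESHYP (proof by helper7)

Hint: field by field: primes/inequalities/`pk qk sk` are the same; `cardF cardH` by `card_subgroupOf`; the five normaliser fields by `subgroupOf_le_normalizer`; `frob cQ cR` elementwise through `Subtype.ext`/`Subgroup.mem_subgroupOf` (coercion `↥Γ₀ → Γ` is injective and multiplicative); `Qs Rt` by `IsPGroup.comap_subtype` (or `IsPGroup.of_injective` along `Subgroup.subgroupOfEquivOfLe`); `fix` by `fixedBy_resRep`.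
-/

set_option autoImplicit false
set_option linter.unusedSectionVars false

namespace Cfsg.Agent.Helper5.FPQR

open Module Cfsg.Agent.Helper8.FrobLin Cfsg.Agent.Helper4.FPQ

universe u v w

variable {k : Type w} [Field k] {Γ : Type u} [Group Γ] {V : Type v} [AddCommGroup V] [Module k V]

/-- a subgroup of a `p`-group (viewed inside a bigger subgroup) is a `p`-group -/
theorem fpqr_reshyp_isPGroup {K Γ₀ : Subgroup Γ} {s : ℕ} (hK : IsPGroup s ↥K) :
    IsPGroup s ↥(K.subgroupOf Γ₀) := by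
  intro x
  obtain ⟨n, hn⟩ := hK ⟨(x : ↥Γ₀), x.2⟩
  refine ⟨n, ?_⟩
  apply Subtype.ext
  apply Subtype.ext
  have := congrArg (fun y : ↥K => (y : Γ)) hn
  simpa using this

theorem res_hyp {ρ : Representation k Γ V} {F H Q R : Subgroup Γ} {p q s t : ℕ}
    (hyp : Hyp ρ F H Q R p q s t) (Γ₀ : Subgroup Γ) (hF : F ≤ Γ₀) (hH : H ≤ Γ₀) (hQ : Q ≤ Γ₀)
    (hR : R ≤ Γ₀) :
    Hyp (resRep ρ Γ₀) (F.subgroupOf Γ₀) (H.subgroupOf Γ₀) (Q.subgroupOf Γ₀) (R.subgroupOf Γ₀)
      p q s t where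
  hp := hyp.hp
  hq := hyp.hq
  hs := hyp.hs
  ht := hyp.ht
  hpq := hyp.hpq
  hst := hyp.hst
  hsp := hyp.hsp
  hsq := hyp.hsq
  htp := hyp.htp
  htq := hyp.htq
  cardF := by rw [card_subgroupOf hF]; exact hyp.cardF
  cardH := by rw [card_subgroupOf hH]; exact hyp.cardH
  HF := subgroupOf_le_normalizer Γ₀ hyp.HF
  frob := by
    intro f hf h hh hcomm
    rw [Subgroup.mem_subgroupOf] at hf hh
    have hc : (f : Γ) * (h : Γ) = (h : Γ) * (f : Γ) := by
      have := congrArg (fun y : ↥Γ₀ => (y : Γ)) hcomm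
      simpa using this
    rcases hyp.frob _ hf _ hh hc with h1 | h1
    · left; exact Subtype.ext h1
    · right; exact Subtype.ext h1
  Qs := fpqr_reshyp_isPGroup hyp.Qs
  Rt := fpqr_reshyp_isPGroup hyp.Rt
  FQ := subgroupOf_le_normalizer Γ₀ hyp.FQ
  HQ := subgroupOf_le_normalizer Γ₀ hyp.HQ
  FR := subgroupOf_le_normalizer Γ₀ hyp.FR
  HR := subgroupOf_le_normalizer Γ₀ hyp.HR
  RQ := subgroupOf_le_normalizer Γ₀ hyp.RQ
  cQ := by
    intro g hg h1 h2
    rw [Subgroup.mem_subgroupOf] at hg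
    apply Subtype.ext
    apply hyp.cQ _ hg
    · intro f hf
      have := h1 ⟨f, hF hf⟩ (by rw [Subgroup.mem_subgroupOf]; exact hf)
      have := congrArg (fun y : ↥Γ₀ => (y : Γ)) this
      simpa using this
    · intro h hh
      have := h2 ⟨h, hH hh⟩ (by rw [Subgroup.mem_subgroupOf]; exact hh)
      have := congrArg (fun y : ↥Γ₀ => (y : Γ)) this
      simpa using this
  cR := by
    intro g hg h1 h2
    rw [Subgroup.mem_subgroupOf] at hg
    apply Subtype.ext
    apply hyp.cR _ hg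
    · intro f hf
      have := h1 ⟨f, hF hf⟩ (by rw [Subgroup.mem_subgroupOf]; exact hf)
      have := congrArg (fun y : ↥Γ₀ => (y : Γ)) this
      simpa using this
    · intro h hh
      have := h2 ⟨h, hH hh⟩ (by rw [Subgroup.mem_subgroupOf]; exact hh)
      have := congrArg (fun y : ↥Γ₀ => (y : Γ)) this
      simpa using this
  pk := hyp.pk
  qk := hyp.qk
  sk := hyp.sk
  fix := by
    rw [fixedBy_resRep ρ hF, fixedBy_resRep ρ hH]
    exact hyp.fix

end Cfsg.Agent.Helper5.FPQR
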