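import Mathlib
import Cfsg.Agent.Lib.FPQ.FPQRDefs

/-!
# S4306 reductions (helper5), piece FPQR-RESTOP (proved by helper28)

Hint: `← Subgroup.subgroupOf_sup` three times (needs the `≤` facts), then `Subgroup.subgroupOf_self`.
-/

set_option autoImplicit false
set_option linter.unusedSectionVars false

namespace Cfsg.Agent.Helper5.FPQR

open Module Cfsg.Agent.Helper8.FrobLin Cfsg.Agent.Helper4.FPQ

universe u v w

variable {k : Type w} [Field k] {Γ : Type u} [Group Γ] {V : Type v} [AddCommGroup V] [Module k V]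

theorem res_top (F H Q R : Subgroup Γ) :
    Q.subgroupOf (Q ⊔ R ⊔ F ⊔ H) ⊔ R.subgroupOf (Q ⊔ R ⊔ F ⊔ H) ⊔ F.subgroupOf (Q ⊔ R ⊔ F ⊔ H) ⊔
      H.subgroupOf (Q ⊔ R ⊔ F ⊔ H) = ⊤ := by
  have hQ : Q ≤ Q ⊔ R ⊔ F ⊔ H := le_sup_left.trans (le_sup_left.trans le_sup_left)
  have hR : R ≤ Q ⊔ R ⊔ F ⊔ H := le_sup_right.trans (le_sup_left.trans le_sup_left)
  have hF : F ≤ Q ⊔ R ⊔ F ⊔ H := le_sup_right.trans le_sup_left
  have hH : H ≤ Q ⊔ R ⊔ F ⊔ H := le_sup_right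
  rw [← Subgroup.subgroupOf_sup hQ hR, ← Subgroup.subgroupOf_sup (sup_le hQ hR) hF,
    ← Subgroup.subgroupOf_sup (sup_le (sup_le hQ hR) hF) hH]
  exact Subgroup.subgroupOf_self (H := Q ⊔ R ⊔ F ⊔ H)

end Cfsg.Agent.Helper5.FPQR
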