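import Mathlib
import Cfsg.Agent.Lib.FPQ.FPQRDefs

/-!
# S4306 reductions (helper5), piece FPQR-UNIP

Hint: put `N = T - 1`, `N * N = 0`; by induction `T ^ j = 1 + j • N` (as `T = 1 + N`); so `m • N = 0`, i.e. `(m : k) • N = 0` (`Nat.cast_smul_eq_nsmul`), hence `N = 0` (`smul_eq_zero`).
-/

set_option autoImplicit false
set_option linter.unusedSectionVars false

namespace Cfsg.Agent.Helper5.FPQR

open Module Cfsg.Agent.Helper8.FrobLin Cfsg.Agent.Helper4.FPQ

universe u v w

variable {k : Type w} [Field k] {Γ : Type u} [Group Γ] {V : Type v} [AddCommGroup V] [Module k V]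

theorem eq_one_of_unipotent (T : V →ₗ[k] V) (m : ℕ) (hm : (m : k) ≠ 0) (hT : T ^ m = 1)
    (hN : (T - 1) * (T - 1) = 0) : T = 1 := by
  obtain ⟨N, rfl⟩ : ∃ N : V →ₗ[k] V, T = 1 + N := ⟨T - 1, by abel⟩
  rw [add_sub_cancel_left] at hN
  have hpow : ∀ j : ℕ, (1 + N) ^ j = 1 + j • N := by
    intro j
    induction j with
    | zero => simp
    | succ j ih =>
      rw [pow_succ, ih, add_mul, mul_add, mul_add, one_mul, one_mul, mul_one, smul_mul_assoc, hN,
        smul_zero, add_zero, succ_nsmul]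
      abel
  have h1 := hpow m
  rw [hT] at h1
  have h2 : m • N = 0 := by
    have h3 : (1 : V →ₗ[k] V) + m • N = 1 + 0 := by rw [← h1, add_zero]
    exact add_left_cancel h3
  rw [← Nat.cast_smul_eq_nsmul k] at h2
  rw [(smul_eq_zero.1 h2).resolve_left hm, add_zero]

end Cfsg.Agent.Helper5.FPQR
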