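import Mathlib
import Cfsg.Agent.Lib.FPQ.FPQRDefs
import Cfsg.Agent.Lib.FPQ.FPQRUNIP

/-!
# S4306 reductions (helper5), piece FPQR-SQCONCL

Hint: for `g ∈ Q`, `x ∈ R` put `c = g * x * g⁻¹ * x⁻¹ = g * (x * g⁻¹ * x⁻¹) ∈ Q` (`hyp.RQ`). `hyp.Qs` gives `c ^ s ^ m = 1`, so `(ρ c) ^ (s ^ m) = 1` and `((s ^ m : ℕ) : k) ≠ 0` by `hyp.sk`. `ρ c` is the identity on `U` (from `h1`: `subRep ρ U hU g * subRep ρ U hU x = …`, so `ρ c u = u` for `u ∈ U`) and `(ρ c - 1) v ∈ U` for all `v` (from `h2` on `mk v`, `quotRep_mk`, `Submodule.Quotient.eq`); hence `(ρ c - 1) * (ρ c - 1) = 0`; `eq_one_of_unipotent` gives `ρ c = 1`, i.e. `ρ g * ρ x = ρ x * ρ g`.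
-/

set_option autoImplicit false
set_option linter.unusedSectionVars false

namespace Cfsg.Agent.Helper5.FPQR

open Module Cfsg.Agent.Helper8.FrobLin Cfsg.Agent.Helper4.FPQ

universe u v w

variable {k : Type w} [Field k] {Γ : Type u} [Group Γ] {V : Type v} [AddCommGroup V] [Module k V]

theorem concl_of_sub_quot {ρ : Representation k Γ V} {F H Q R : Subgroup Γ} {p q s t : ℕ}
    (hyp : Hyp ρ F H Q R p q s t) (U : Submodule k V) (hU : Inv ρ U)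
    (h1 : Concl (subRep ρ U hU) Q R) (h2 : Concl (quotRep ρ U hU) Q R) : Concl ρ Q R := by
  intro g hg x hx
  have hmul : ∀ a b : Γ, ∀ y : V, ρ a (ρ b y) = ρ (a * b) y := by
    intro a b y
    rw [map_mul]
    rfl
  have hcQ : g * x * g⁻¹ * x⁻¹ ∈ Q := by
    have h3 : x * g⁻¹ * x⁻¹ ∈ Q := (Subgroup.mem_normalizer_iff.1 (hyp.RQ hx) _).1 (Q.inv_mem hg)
    have e : g * x * g⁻¹ * x⁻¹ = g * (x * g⁻¹ * x⁻¹) := by group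
    rw [e]
    exact Q.mul_mem hg h3
  obtain ⟨m, hm⟩ := hyp.Qs ⟨g * x * g⁻¹ * x⁻¹, hcQ⟩
  have hcm : (g * x * g⁻¹ * x⁻¹) ^ (s ^ m) = 1 := by
    have h3 := congrArg Subtype.val hm
    simpa using h3
  have hT : (ρ (g * x * g⁻¹ * x⁻¹)) ^ (s ^ m) = 1 := by rw [← map_pow, hcm, map_one]
  have hsm : ((s ^ m : ℕ) : k) ≠ 0 := by
    rw [Nat.cast_pow]
    exact pow_ne_zero _ hyp.sk
  -- `ρ c (ρ x (ρ g w)) = ρ g (ρ x w)`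
  have hcxg : ∀ w : V, ρ (g * x * g⁻¹ * x⁻¹) (ρ x (ρ g w)) = ρ g (ρ x w) := by
    intro w
    rw [hmul, hmul, hmul]
    congr 2
    group
  have hxg : ∀ y : V, ρ x (ρ g (ρ (g⁻¹ * x⁻¹) y)) = y := by
    intro y
    rw [hmul, hmul]
    have e : x * g * (g⁻¹ * x⁻¹) = 1 := by group
    rw [e, map_one]
    rfl
  -- `ρ c` is the identity on `U`
  have hU1 : ∀ u ∈ U, ρ (g * x * g⁻¹ * x⁻¹) u = u := by
    intro u hu
    have hw : ρ (g⁻¹ * x⁻¹) u ∈ U := hU _ u hu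
    have h3 := congrArg (fun T : ↥U →ₗ[k] ↥U => ((T ⟨ρ (g⁻¹ * x⁻¹) u, hw⟩ : ↥U) : V))
      (h1 g hg x hx)
    have h4 : ρ g (ρ x (ρ (g⁻¹ * x⁻¹) u)) = ρ x (ρ g (ρ (g⁻¹ * x⁻¹) u)) := h3
    have h5 := hcxg (ρ (g⁻¹ * x⁻¹) u)
    rw [hxg] at h5 h4
    rw [h5, h4]
  -- `ρ c` is the identity modulo `U`
  have hU2 : ∀ v : V, ρ (g * x * g⁻¹ * x⁻¹) v - v ∈ U := by
    intro v
    have h3 := congrArg (fun T : (V ⧸ U) →ₗ[k] (V ⧸ U) =>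
      T (Submodule.Quotient.mk (ρ (g⁻¹ * x⁻¹) v))) (h2 g hg x hx)
    have h4 : (Submodule.Quotient.mk (ρ g (ρ x (ρ (g⁻¹ * x⁻¹) v))) : V ⧸ U) =
        Submodule.Quotient.mk (ρ x (ρ g (ρ (g⁻¹ * x⁻¹) v))) := h3
    rw [Submodule.Quotient.eq] at h4
    have h5 := hcxg (ρ (g⁻¹ * x⁻¹) v)
    rw [hxg] at h5 h4
    rw [h5]
    exact h4
  have hNN : (ρ (g * x * g⁻¹ * x⁻¹) - 1) * (ρ (g * x * g⁻¹ * x⁻¹) - 1) = 0 := by
    apply LinearMap.ext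
    intro v
    have h3 := hU1 _ (hU2 v)
    show (ρ (g * x * g⁻¹ * x⁻¹) - 1) ((ρ (g * x * g⁻¹ * x⁻¹) - 1) v) = 0
    rw [LinearMap.sub_apply, LinearMap.sub_apply]
    show ρ (g * x * g⁻¹ * x⁻¹) (ρ (g * x * g⁻¹ * x⁻¹) v - v) - (ρ (g * x * g⁻¹ * x⁻¹) v - v) = 0
    rw [h3, sub_self]
  have hc1 := eq_one_of_unipotent (ρ (g * x * g⁻¹ * x⁻¹)) (s ^ m) hsm hT hNN
  apply LinearMap.ext
  intro w
  show ρ g (ρ x w) = ρ x (ρ g w)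
  rw [← hcxg w, hc1]
  rfl

end Cfsg.Agent.Helper5.FPQR
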