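import Mathlib
import Cfsg.Agent.Lib.FPQ.FPQRDefs

/-!
# S4306 reductions (helper5), piece FPQR-SUBHYP (implemented by helper11)

All group fields are literally those of `hyp`; `fix`: `u : ↥U` fixed by `F` and `H` under `subRep` ⇒ `(u : V)` fixed under `ρ` ⇒ `(u:V) ∈ fixedBy ρ F ⊓ fixedBy ρ H = ⊥`.
-/

set_option autoImplicit false
set_option linter.unusedSectionVars false

namespace Cfsg.Agent.Helper5.FPQR

open Module Cfsg.Agent.Helper8.FrobLin Cfsg.Agent.Helper4.FPQ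

universe u v w

variable {k : Type w} [Field k] {Γ : Type u} [Group Γ] {V : Type v} [AddCommGroup V] [Module k V]

theorem sub_hyp {ρ : Representation k Γ V} {F H Q R : Subgroup Γ} {p q s t : ℕ}
    (hyp : Hyp ρ F H Q R p q s t) (U : Submodule k V) (hU : Inv ρ U) :
    Hyp (subRep ρ U hU) F H Q R p q s t := by
  refine ⟨hyp.hp, hyp.hq, hyp.hs, hyp.ht, hyp.hpq, hyp.hst, hyp.hsp, hyp.hsq, hyp.htp, hyp.htq,
    hyp.cardF, hyp.cardH, hyp.HF, hyp.frob, hyp.Qs, hyp.Rt, hyp.FQ, hyp.HQ, hyp.FR, hyp.HR, hyp.RQ,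
    hyp.cQ, hyp.cR, hyp.pk, hyp.qk, hyp.sk, ?_⟩
  rw [eq_bot_iff]
  intro u hu
  rw [Submodule.mem_inf, mem_fixedBy, mem_fixedBy] at hu
  have h1 : (u : V) ∈ fixedBy ρ F ⊓ fixedBy ρ H := by
    rw [Submodule.mem_inf, mem_fixedBy, mem_fixedBy]
    refine ⟨fun f hf => ?_, fun h hh => ?_⟩
    · have := congrArg Subtype.val (hu.1 f hf)
      rwa [subRep_apply] at this
    · have := congrArg Subtype.val (hu.2 h hh)
      rwa [subRep_apply] at this
  rw [hyp.fix, Submodule.mem_bot] at h1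
  rw [Submodule.mem_bot]
  exact Subtype.ext h1

end Cfsg.Agent.Helper5.FPQR
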