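import Mathlib
import Cfsg.Agent.Lib.FPQ.FPQSetup
import Cfsg.Agent.Lib.FPQ.FPQRDefs
import Cfsg.Agent.Lib.FPQ.FPQRRESNORM
import Cfsg.Agent.Lib.FPQ.FPQRRESCARD
import Cfsg.Agent.Lib.FPQ.FPQRRESFIX
import Cfsg.Agent.Lib.FPQ.FPQRRESHYP
import Cfsg.Agent.Lib.FPQ.FPQRRESTOP
import Cfsg.Agent.Lib.FPQ.FPQRRESCONCL
import Cfsg.Agent.Lib.FPQ.FPQRSUBHYP
import Cfsg.Agent.Lib.FPQ.FPQRAVG
import Cfsg.Agent.Lib.FPQ.FPQRQUOTHYP
import Cfsg.Agent.Lib.FPQ.FPQRFINRANK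
import Cfsg.Agent.Lib.FPQ.FPQRUNIP
import Cfsg.Agent.Lib.FPQ.FPQRSQCONCL
import Cfsg.Agent.Lib.FPQ.FPQRQNORMAL
import Cfsg.Agent.Lib.FPQ.FPQRQRNORMAL
import Cfsg.Agent.Lib.FPQ.FPQRSUPCARD
import Cfsg.Agent.Lib.FPQ.FPQRDISJ
import Cfsg.Agent.Lib.FPQ.FPQRMAPCARD
import Cfsg.Agent.Lib.FPQ.FPQRMAPNORM
import Cfsg.Agent.Lib.FPQ.FPQRGQFROB
import Cfsg.Agent.Lib.FPQ.FPQRFIXPT
import Cfsg.Agent.Lib.FPQ.FPQRLIFT
import Cfsg.Agent.Lib.FPQ.FPQRGQFIX
import Cfsg.Agent.Lib.FPQ.FPQRGQHYP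
import Cfsg.Agent.Lib.FPQ.FPQRGQTOP
import Cfsg.Agent.Lib.FPQ.FPQRGQCONCL
import Cfsg.Agent.Lib.FPQ.FPQRKERSPLIT

/-!
# S4306 design (helper4), Theorem L: the REDUCTIONS (helper5)

Theorem L follows once there is no minimal counterexample.
Strong induction on `n = |Q| + |R| + dim V`: a counterexample of size `n`, restricted to
`Q ⊔ R ⊔ F ⊔ H`, is a `MinCE` (otherwise a quotient group / sub- or quotient representation is a
smaller configuration, to which the induction hypothesis applies).  The pieces are the files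
`FPQR<NAME>.lean` (namespace `Cfsg.Agent.Helper5.FPQR`), see `plans/S4306_reduce_plan.md`.
-/

set_option autoImplicit false
set_option linter.unusedSectionVars false


namespace Cfsg.Agent.Helper4.FPQ

open Module Cfsg.Agent.Helper8.FrobLin Cfsg.Agent.Helper5.FPQR

universe u v w

/-- If no minimal counterexample exists, Theorem L holds in every size. -/
theorem lstmt_of_minCE_false (k : Type w) [Field k] {p q s t : ℕ}
    (hfalse : ∀ (Γ : Type u) [Group Γ] [Finite Γ] (V : Type v) [AddCommGroup V] [Module k V]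
      [FiniteDimensional k V] (ρ : Representation k Γ V) (F H Q R : Subgroup Γ),
      MinCE ρ F H Q R p q s t → False) :
    ∀ n, LStmt.{u, v, w} k p q s t n := by
  intro n
  induction n using Nat.strong_induction_on with
  | _ n ih =>
    intro Γ _ _ V _ _ _ ρ F H Q R hn hyp
    by_contra hnc
    -- (a) restrict to Γ₀ = Q ⊔ R ⊔ F ⊔ H
    have hQ0 : Q ≤ Q ⊔ R ⊔ F ⊔ H := le_sup_left.trans (le_sup_left.trans le_sup_left)
    have hR0 : R ≤ Q ⊔ R ⊔ F ⊔ H := le_sup_right.trans (le_sup_left.trans le_sup_left)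
    have hF0 : F ≤ Q ⊔ R ⊔ F ⊔ H := le_sup_right.trans le_sup_left
    have hH0 : H ≤ Q ⊔ R ⊔ F ⊔ H := le_sup_right
    have hyp0 := res_hyp hyp (Q ⊔ R ⊔ F ⊔ H) hF0 hH0 hQ0 hR0
    have hn0 : Nat.card ↥(Q.subgroupOf (Q ⊔ R ⊔ F ⊔ H)) +
        Nat.card ↥(R.subgroupOf (Q ⊔ R ⊔ F ⊔ H)) + finrank k V = n := by
      rw [card_subgroupOf hQ0, card_subgroupOf hR0]
      exact hn
    have hnc0 : ¬ Concl (resRep ρ (Q ⊔ R ⊔ F ⊔ H)) (Q.subgroupOf (Q ⊔ R ⊔ F ⊔ H))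
        (R.subgroupOf (Q ⊔ R ⊔ F ⊔ H)) := fun hc => hnc (res_concl hQ0 hR0 hc)
    have top0 := res_top F H Q R
    -- abbreviations
    generalize hΓ₀ : (Q ⊔ R ⊔ F ⊔ H : Subgroup Γ) = Γ₀ at hyp0 hn0 hnc0 top0
    generalize hρ₀ : resRep ρ Γ₀ = ρ₀ at hyp0 hnc0
    generalize hF₀ : F.subgroupOf Γ₀ = F₀ at hyp0 top0
    generalize hH₀ : H.subgroupOf Γ₀ = H₀ at hyp0 top0
    generalize hQ₀ : Q.subgroupOf Γ₀ = Q₀ at hyp0 hn0 hnc0 top0
    generalize hR₀ : R.subgroupOf Γ₀ = R₀ at hyp0 hn0 hnc0 top0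
    apply hfalse ↥Γ₀ V ρ₀ F₀ H₀ Q₀ R₀
    refine ⟨hyp0, top0, ?_, ?_, ?_, hnc0⟩
    · -- faithful
      by_contra hfa
      have hne : kerQR ρ₀ Q₀ R₀ ≠ ⊥ := by
        intro hbot
        apply hfa
        intro g hg hg1
        have : g ∈ kerQR ρ₀ Q₀ R₀ := mem_kerQR.2 ⟨hg, hg1⟩
        rw [hbot] at this
        exact Subgroup.mem_bot.1 this
      have hQRn : (Q₀ ⊔ R₀).Normal := sup_normal_of_top hyp0 top0
      have hkn : (kerQR ρ₀ Q₀ R₀).Normal := by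
        unfold kerQR
        infer_instance
      have hyp1 := gq_hyp hyp0 (kerQR ρ₀ Q₀ R₀) (kerQR_le_ker ρ₀ Q₀ R₀) inf_le_left
      have hlt : Nat.card ↥(Q₀.map (QuotientGroup.mk' (kerQR ρ₀ Q₀ R₀))) +
          Nat.card ↥(R₀.map (QuotientGroup.mk' (kerQR ρ₀ Q₀ R₀))) + finrank k V < n := by
        have hQle := card_map_mk_le Q₀ (kerQR ρ₀ Q₀ R₀)
        have hRle := card_map_mk_le R₀ (kerQR ρ₀ Q₀ R₀)
        have hor : Q₀ ⊓ kerQR ρ₀ Q₀ R₀ ≠ ⊥ ∨ R₀ ⊓ kerQR ρ₀ Q₀ R₀ ≠ ⊥ := by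
          by_contra hno
          push Not at hno
          apply hne
          apply kerQR_eq_bot_of hyp0
          · rw [eq_bot_iff]
            intro g hg
            rw [← hno.1]
            exact ⟨hg.1, mem_kerQR.2 ⟨Subgroup.mem_sup_left hg.1, MonoidHom.mem_ker.1 hg.2⟩⟩
          · rw [eq_bot_iff]
            intro g hg
            rw [← hno.2]
            exact ⟨hg.1, mem_kerQR.2 ⟨Subgroup.mem_sup_right hg.1, MonoidHom.mem_ker.1 hg.2⟩⟩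
        rcases hor with hor | hor
        · have := card_map_mk_lt hor
          omega
        · have := card_map_mk_lt hor
          omega
      have hc1 := ih _ hlt (↥Γ₀ ⧸ kerQR ρ₀ Q₀ R₀) V _ _ _ _ _ rfl hyp1
      exact hnc0 (gq_concl ρ₀ (kerQR ρ₀ Q₀ R₀) (kerQR_le_ker ρ₀ Q₀ R₀) hc1)
    · -- irreducible
      intro U hU
      by_contra hUn
      push Not at hUn
      have hU' : Inv ρ₀ U := hU
      have h1 := ih _ (by
          have := finrank_sub_lt hUn.2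
          omega) ↥Γ₀ ↥U (subRep ρ₀ U hU') F₀ H₀ Q₀ R₀ rfl (sub_hyp hyp0 U hU')
      have h2 := ih _ (by
          have := finrank_quot_lt hUn.1
          omega) ↥Γ₀ (V ⧸ U) (quotRep ρ₀ U hU') F₀ H₀ Q₀ R₀ rfl (quot_hyp hyp0 U hU')
      exact hnc0 (concl_of_sub_quot hyp0 U hU' h1 h2)
    · -- induction hypothesis
      intro m hm
      exact ih m (by omega)

end Cfsg.Agent.Helper4.FPQ
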