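import Mathlib
import Cfsg.Agent.Lib.FPQ.FPQDefs
import Cfsg.Agent.Lib.FPQ.FPQSetup
import Cfsg.Agent.Lib.FPQ.FPQReduce
import Cfsg.Agent.Lib.FPQ.FPQAbelian
import Cfsg.Agent.Lib.FPQ.FPQNonab

/-! S4306 design (helper4): Theorem L (interface), assembled from the reductions (`FPQReduce`),
the abelian branch (`FPQAbelian`) and the non-abelian branch (`FPQNonab`). -/

set_option autoImplicit false
set_option linter.unusedSectionVars false

namespace Cfsg.Agent.Helper4.FPQ

open Module Cfsg.Agent.Helper8.FrobLin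

universe u v w

/-- **Theorem L.** -/
theorem thmL {k : Type w} [Field k] [IsAlgClosed k] {Γ : Type u} [Group Γ] [Finite Γ]
    {V : Type v} [AddCommGroup V] [Module k V] [FiniteDimensional k V]
    (ρ : Representation k Γ V) (F H Q R : Subgroup Γ) {p q s t : ℕ}
    (hyp : Hyp ρ F H Q R p q s t) :
    ∀ g ∈ Q, ∀ x ∈ R, ρ g * ρ x = ρ x * ρ g := by
  have hfalse : ∀ (Γ : Type u) [Group Γ] [Finite Γ] (V : Type v) [AddCommGroup V] [Module k V]
      [FiniteDimensional k V] (ρ : Representation k Γ V) (F H Q R : Subgroup Γ),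
      MinCE ρ F H Q R p q s t → False := by
    intro Γ _ _ V _ _ _ ρ F H Q R M
    by_cases hab : ∀ a ∈ Q, ∀ b ∈ Q, a * b = b * a
    · exact M.abelian_false hab
    · exact M.nonabelian_false hab
  exact lstmt_of_minCE_false k hfalse _ Γ V ρ F H Q R rfl hyp

end Cfsg.Agent.Helper4.FPQ
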