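import Mathlib
import Cfsg.Agent.Lib.FPQ.FPQRDefs

/-!
# S4306 reductions (helper5), piece FPQR-FINRANK

Hint: `Submodule.finrank_lt` (needs `U < ⊤`, `lt_top_iff_ne_top`) and `Submodule.finrank_quotient_add_finrank` + `Submodule.finrank_pos`/`Submodule.one_le_finrank_iff`/`finrank_pos_iff_exists_ne_zero` for `U ≠ ⊥`.
-/

set_option autoImplicit false
set_option linter.unusedSectionVars false

namespace Cfsg.Agent.Helper5.FPQR

open Module Cfsg.Agent.Helper8.FrobLin Cfsg.Agent.Helper4.FPQ

universe u v w

variable {k : Type w} [Field k] {Γ : Type u} [Group Γ] {V : Type v} [AddCommGroup V] [Module k V]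

theorem finrank_sub_lt [FiniteDimensional k V] {U : Submodule k V} (h : U ≠ ⊤) :
    finrank k ↥U < finrank k V :=
  Submodule.finrank_lt h

theorem finrank_quot_lt [FiniteDimensional k V] {U : Submodule k V} (h : U ≠ ⊥) :
    finrank k (V ⧸ U) < finrank k V := by
  have h1 := Submodule.finrank_quotient_add_finrank U
  have h2 : 0 < finrank k ↥U := by
    rw [Module.finrank_pos_iff]
    exact (Submodule.nontrivial_iff_ne_bot).mpr h
  omega

end Cfsg.Agent.Helper5.FPQR
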