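import Mathlib
import Cfsg.Agent.Lib.FPQ.FPQRDefs
import Cfsg.Agent.Lib.FPQ.FPQRDISJ
import Cfsg.Agent.Lib.FPQ.FPQRMAPCARD
import Cfsg.Agent.Lib.FPQ.FPQRMAPNORM
import Cfsg.Agent.Lib.FPQ.FPQRGQFROB
import Cfsg.Agent.Lib.FPQ.FPQRLIFT
import Cfsg.Agent.Lib.FPQ.FPQRGQFIX

/-!
# S4306 reductions (helper5), piece FPQR-GQHYP

Hint: field by field: `cardF cardH` by `card_map_mk_of_inf_eq_bot` with `F ⊓ N ≤ F ⊓ (Q ⊔ R) = ⊥` (`inf_sup_eq_bot`); the normaliser fields by `map_mk_le_normalizer`; `frob` by `gq_frob`; `Qs Rt` by `IsPGroup.map`; `cQ cR` by `fixed_lift` with `K = Q` (`|Q| = s ^ a` prime to `p`, `q`) and `K = R`; `fix` by `fixedBy_quotGrpRep`.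

Assembled by helper8.
-/

set_option autoImplicit false
set_option linter.unusedSectionVars false

namespace Cfsg.Agent.Helper5.FPQR

open Module Cfsg.Agent.Helper8.FrobLin Cfsg.Agent.Helper4.FPQ

universe u v w

variable {k : Type w} [Field k] {Γ : Type u} [Group Γ] {V : Type v} [AddCommGroup V] [Module k V]

/-- the order of an `s`-group is prime to a prime `p ≠ s` -/
theorem fpqr_gqhyp_coprime [Finite Γ] {K : Subgroup Γ} {s p : ℕ} (hs : s.Prime) (hp : p.Prime)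
    (hsp : s ≠ p) (hK : IsPGroup s ↥K) : (Nat.card ↥K).Coprime p := by
  have hsF : Fact s.Prime := ⟨hs⟩
  obtain ⟨a, ha⟩ := (IsPGroup.iff_card (p := s)).mp hK
  rw [ha]
  exact Nat.Coprime.pow_left a ((Nat.coprime_primes hs hp).mpr hsp)

theorem gq_hyp [Finite Γ] {ρ : Representation k Γ V} {F H Q R : Subgroup Γ} {p q s t : ℕ}
    (hyp : Hyp ρ F H Q R p q s t) (N : Subgroup Γ) [N.Normal] (hN : N ≤ ρ.ker)
    (hNQR : N ≤ Q ⊔ R) :
    Hyp (quotGrpRep ρ N hN) (F.map (QuotientGroup.mk' N)) (H.map (QuotientGroup.mk' N))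
      (Q.map (QuotientGroup.mk' N)) (R.map (QuotientGroup.mk' N)) p q s t := by
  obtain ⟨hFd, hHd⟩ := inf_sup_eq_bot hyp
  have hFN : F ⊓ N = ⊥ := by
    rw [eq_bot_iff, ← hFd]
    exact inf_le_inf_left F hNQR
  have hHN : H ⊓ N = ⊥ := by
    rw [eq_bot_iff, ← hHd]
    exact inf_le_inf_left H hNQR
  exact
    { hp := hyp.hp
      hq := hyp.hq
      hs := hyp.hs
      ht := hyp.ht
      hpq := hyp.hpq
      hst := hyp.hst
      hsp := hyp.hsp
      hsq := hyp.hsq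
      htp := hyp.htp
      htq := hyp.htq
      cardF := (card_map_mk_of_inf_eq_bot hFN).trans hyp.cardF
      cardH := (card_map_mk_of_inf_eq_bot hHN).trans hyp.cardH
      HF := map_mk_le_normalizer N hyp.HF
      frob := gq_frob hyp.HF hyp.frob hFN
      Qs := hyp.Qs.map (QuotientGroup.mk' N)
      Rt := hyp.Rt.map (QuotientGroup.mk' N)
      FQ := map_mk_le_normalizer N hyp.FQ
      HQ := map_mk_le_normalizer N hyp.HQ
      FR := map_mk_le_normalizer N hyp.FR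
      HR := map_mk_le_normalizer N hyp.HR
      RQ := map_mk_le_normalizer N hyp.RQ
      cQ := fixed_lift N hyp.hp hyp.hq hyp.cardF hyp.cardH hyp.HF hyp.FQ hyp.HQ
        (fpqr_gqhyp_coprime hyp.hs hyp.hp hyp.hsp hyp.Qs)
        (fpqr_gqhyp_coprime hyp.hs hyp.hq hyp.hsq hyp.Qs) hyp.cQ
      cR := fixed_lift N hyp.hp hyp.hq hyp.cardF hyp.cardH hyp.HF hyp.FR hyp.HR
        (fpqr_gqhyp_coprime hyp.ht hyp.hp hyp.htp hyp.Rt)
        (fpqr_gqhyp_coprime hyp.ht hyp.hq hyp.htq hyp.Rt) hyp.cR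
      pk := hyp.pk
      qk := hyp.qk
      sk := hyp.sk
      fix := by
        rw [fixedBy_quotGrpRep, fixedBy_quotGrpRep]
        exact hyp.fix }

end Cfsg.Agent.Helper5.FPQR
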